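import Cfsg.Agent.Omega.NOThreeL.RLev.Root

/-!
# Box R of NO-3L: some level moves `V*` (helper319, THEOREM A (3); [NL] of helper858 (W-A))

`V* = ⟨Z^Y⟩`, `Y = ⟨P*(S)⟩`.

* `levels_of` : if all levels up to `chn S n` centralise `V*` then `Y ≤ N_G(chn S n)` and `V* ≤ xm S (chn S n)`;
* `ys_ke` : if no level moves `V*` then `Y ≤ N_G(ke S)`, `V* ≤ Ve S`;
* **`exists_level_of`** : from `NFRoot.false` and LOW (`Ve S ≤ O₂(C_G(Z))` if `Y ≤ N_G(ke S)`): `J(S)` moves `V*`, or
  `chn S (n + 1)` moves `V*` for some `n` with `Y ≤ N_G(chn S n)`, `V* ≤ xm S (chn S n)`.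
-/

set_option autoImplicit false
set_option linter.unusedSectionVars false

namespace Cfsg.Agent.Omega.NOThreeL.RLev

open Subgroup Cfsg Cfsg.Agent.Omega.MinPar Cfsg.Agent.Omega.Frame Cfsg.Agent.Omega.FrameNOFF
open Cfsg.Agent.ZN (o2 zc zl jj)
open Cfsg.Agent.ZN.ChoiceBase hiding mem_zc
open Cfsg.Agent.Omega.Node.NO3L Cfsg.Agent.Omega.NOThreeL.Basic
open Cfsg.Agent.Omega.NO3b.Bang
open Cfsg.Agent.Omega.NOThreeL.Star (YS le_YS S_le_YS)
open Cfsg.Agent.Omega.NOThreeL.MergeNF (NFRoot)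
open Cfsg.Agent.Omega.NO3S.Level (Lev)
open Cfsg.Agent.Omega.NOThreeL.RTreeF (RBF)
open Cfsg.Agent.MinSimple.VModule (zc_le le_normalizer_o2 le_normalizer_zl zc_le_zl zl_le o2_isPGroup
  o2_le le_o2 zc_sq)

universe u

variable {G : Type u} [Group G]

section fin

variable [Finite G] {S : Sylow 2 G}

/-- `C_S(V_P) ≤ O₂(P)` -/
theorem cs_le_o2 {P : Subgroup G} (hP : IsParS (S : Subgroup G) P) :
    (S : Subgroup G) ⊓ centralizer (zl (S : Subgroup G) P : Set G) ≤ o2 P := by
  have hn : P ≤ normalizer ((P ⊓ centralizer (zl (S : Subgroup G) P : Set G) : Subgroup G) : Set G) := by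
    intro p hp
    rw [mem_normalizer_iff_cj, cj_inf, cj_centralizer, cj_eq_of_mem_normalizer (le_normalizer hp),
      cj_eq_of_mem_normalizer (le_normalizer_zl _ _ hp)]
  rcases hP.toIsPar.sup_eq_or_inf_le S inf_le_left hn with h4 | h4
  · exfalso
    apply hP.not_zc
    rw [← h4]
    refine sup_le ?_ ?_
    · exact inf_le_right.trans ((centralizer_le (zc_le_zl _ _)).trans (centralizer_le_normalizer _))
    · exact (le_CZ S).trans (centralizer_le_normalizer _)
  · exact le_trans (le_inf inf_le_left (le_inf (inf_le_left.trans hP.le) inf_le_right)) h4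

/-- a subgroup of `S` which centralises `V*` lies in `O₂(P)` for all `P ∈ P*(S)` -/
theorem le_o2_of_cent {K P : Subgroup G} (hK : K ≤ (S : Subgroup G))
    (hc : K ≤ centralizer (zl (S : Subgroup G) (YS (S : Subgroup G)) : Set G))
    (hP : IsParS (S : Subgroup G) P) : K ≤ o2 P :=
  (le_inf hK (hc.trans (centralizer_le (Star.zl_mono _ (le_YS hP))))).trans (cs_le_o2 hP)

/-- a level which centralises `V*` is normalised by `Y` -/
theorem ys_norm {K : Subgroup G} (hK : Lev (S : Subgroup G) K)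
    (hc : K ≤ centralizer (zl (S : Subgroup G) (YS (S : Subgroup G)) : Set G)) :
    YS (S : Subgroup G) ≤ normalizer (K : Set G) := sSup_le fun _ hP =>
  hK.le_norm_of_o2 (le_o2_of_cent hK.le hc hP) (hP.isLoc.o2_le S)

theorem vs_le_xm {K : Subgroup G} (hK : Lev (S : Subgroup G) K)
    (hc : K ≤ centralizer (zl (S : Subgroup G) (YS (S : Subgroup G)) : Set G)) :
    zl (S : Subgroup G) (YS (S : Subgroup G)) ≤ xm (S : Subgroup G) K :=
  (Star.zl_mono _ (ys_norm hK hc)).trans (zl_le_xm hK)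

/-- some level moves `V*`, or `ke S` centralises `V*` -/
theorem level_or :
    ¬ jj (S : Subgroup G) ≤ centralizer (zl (S : Subgroup G) (YS (S : Subgroup G)) : Set G) ∨
    (∃ n, YS (S : Subgroup G) ≤ normalizer (chn (S : Subgroup G) n : Set G) ∧
      zl (S : Subgroup G) (YS (S : Subgroup G)) ≤ xm (S : Subgroup G) (chn (S : Subgroup G) n) ∧
      ¬ chn (S : Subgroup G) (n + 1) ≤ centralizer (zl (S : Subgroup G) (YS (S : Subgroup G)) : Set G)) ∨
    ke (S : Subgroup G) ≤ centralizer (zl (S : Subgroup G) (YS (S : Subgroup G)) : Set G) := by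
  by_cases h0 : jj (S : Subgroup G) ≤ centralizer (zl (S : Subgroup G) (YS (S : Subgroup G)) : Set G)
  · right
    by_cases h1 : ∃ n, YS (S : Subgroup G) ≤ normalizer (chn (S : Subgroup G) n : Set G) ∧
      zl (S : Subgroup G) (YS (S : Subgroup G)) ≤ xm (S : Subgroup G) (chn (S : Subgroup G) n) ∧
      ¬ chn (S : Subgroup G) (n + 1) ≤ centralizer (zl (S : Subgroup G) (YS (S : Subgroup G)) : Set G)
    · exact Or.inl h1
    · right
      push Not at h1
      obtain ⟨n, hn, -⟩ := ke_eq (S : Subgroup G)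
      rw [hn]
      clear hn
      induction n with
      | zero => exact h0
      | succ n ih => exact h1 n (ys_norm (chn_lev _ n) ih) (vs_le_xm (chn_lev _ n) ih)
  · exact Or.inl h0

/-- **Some level moves `V*`**, from `NFRoot.false` and LOW. -/
theorem exists_level_of (h : RBF S)
    (hf : ∀ L : Subgroup G, NFRoot (S : Subgroup G) L → False)
    (low : YS (S : Subgroup G) ≤ normalizer (ke (S : Subgroup G) : Set G) →
      Ve (S : Subgroup G) ≤ o2 (CZ (S : Subgroup G))) :
    ¬ jj (S : Subgroup G) ≤ centralizer (zl (S : Subgroup G) (YS (S : Subgroup G)) : Set G) ∨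
    ∃ n, YS (S : Subgroup G) ≤ normalizer (chn (S : Subgroup G) n : Set G) ∧
      zl (S : Subgroup G) (YS (S : Subgroup G)) ≤ xm (S : Subgroup G) (chn (S : Subgroup G) n) ∧
      ¬ chn (S : Subgroup G) (n + 1) ≤ centralizer (zl (S : Subgroup G) (YS (S : Subgroup G)) : Set G) := by
  rcases level_or (S := S) with h1 | h1 | h1
  · exact Or.inl h1
  · exact Or.inr h1
  · exfalso
    have hY := ys_norm (ke_lev (S : Subgroup G)) h1
    have hZ : zc (S : Subgroup G) ≠ ⊥ := MinSimple.Basic.zc_ne_bot S.isPGroup' (h.ctx.sylow_ne_bot S)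
    refine hf _ (nfRoot_of (M := normalizer (ke (S : Subgroup G) : Set G)) (ke_lev (S : Subgroup G)).S_norm
      (nn_Ve (S : Subgroup G)) hZ (low hY) ?_)
    intro U hU h2 h3
    exact eq_bot_of_norm h.ctx S h.full hU (fun P hP => (le_YS hP).trans (hY.trans h2)) h3

end fin

end Cfsg.Agent.Omega.NOThreeL.RLev
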