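import Cfsg.Agent.Omega.NOThreeL.RRed.FourTree
import Cfsg.Agent.Omega.NO3b.BasePt.Weak

/-!
# Box R of NO-3L, [NL]: the setting and the end (#26533 helper492, setting and (8); #26109 helper812)

`Y = MZ S = ⟨P*(S)⟩`, `V* = Wd S = ⟨Z^Y⟩`, `W^ = WH S Y` the largest weakly closed subgroup of `S` in `C_S(V*)`,
`M = MH S = N_G(W^)`, `V = VH S = ⟨Z^M⟩`.

* `HatS S` : box R, not (A), `J(S)` centralises `V*`, `S` does not offend on `V`;
* `MZ_le`, `jj_le`, `VH_le`, `Wd_le`, `WH_cent`, `cs`, `isLoc`, `HatS.root`, `WH_eq`, `ML_eq`, `VL_eq`;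
* `HatS.false_of` : `V ≤ O₂(C_G(Z))` is impossible (THEOREM NotFF for the root `(S, M)`);
* **`exists_levX_of`** : if `V ≤ O₂(C_G(Z))` for all `HatS S`, then `J(S)` or the best offenders at some level move
  `V*`.
-/

set_option autoImplicit false
set_option linter.unusedSectionVars false

namespace Cfsg.Agent.Omega.NOThreeL.RLev.HatEnd

open Subgroup Cfsg
open Cfsg.Agent.ZN (o2 zc zl jj zj)
open Cfsg.Agent.ZN.ChoiceBase hiding mem_zc
open Cfsg.Agent.Omega.MinPar Cfsg.Agent.Omega.Frame Cfsg.Agent.Omega.FrameNOFF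
open Cfsg.Agent.Omega.Node.NO3L Cfsg.Agent.Omega.NOThreeL.Basic
open Cfsg.Agent.Omega.NOThreeL.RTreeF (RBF)
open Cfsg.Agent.Omega.NOThreeL.Merge (MZ le_MZ S_le_MZ isLoc_MZ)
open Cfsg.Agent.Omega.NOThreeL.MergeNF (NFRoot nonLoc_YS root_of_isLoc)
open Cfsg.Agent.Omega.NOThreeL.RRed (Wd zc_le_Wd)
open Cfsg.Agent.Omega.NOThreeL.RRed.FourTree (nxtX LevX)
open Cfsg.Agent.Omega.NO3S (FFMod)
open Cfsg.Agent.Omega.NO3S.Level (Lev)
open Cfsg.Agent.Omega.NO1.BestOff (Best exists_best)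
open Cfsg.Agent.Omega.NO3b.EZero (NotFF cent_symm)
open Cfsg.Agent.Omega.NO3b.Wc (WC WH QL ML VL wc_WH WH_le WH_le_S le_WH mem_ML_of_le Root)
open Cfsg.Agent.Omega.NO3b.EndX (AbsP)
open Cfsg.Agent.Omega.ML.Final (MLK)
open Cfsg.Agent.MinSimple.VModule (zc_le_zl le_normalizer_zl zl_le zc_le mem_zc le_centralizer_zc zc_sq
  le_normalizer_o2 o2_isPGroup le_o2 zc_comm normalizer_le_normalizer_zc)

universe u

variable {G : Type u} [Group G]

/-- `M = N_G(W^)`, `W^` the largest weakly closed subgroup of `S` in `C_S(V*)` -/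
def MH (S : Subgroup G) : Subgroup G := ML S (MZ S)

/-- `V = ⟨Z^M⟩` -/
def VH (S : Subgroup G) : Subgroup G := zl S (MH S)

/-- **The setting of [NL].** -/
structure HatS [Finite G] (S : Sylow 2 G) : Prop where
  ctx : Ctx G
  full : Full (S : Subgroup G)
  data : Data (S : Subgroup G)
  notA : ¬ CaseA (S : Subgroup G)
  ex : ∃ P : Subgroup G, IsParS (S : Subgroup G) P ∧ zc (S : Subgroup G) ⊓ centralizer (P : Set G) ≠ ⊥
  jc : jj (S : Subgroup G) ≤ centralizer (Wd (S : Subgroup G) : Set G)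
  nff : ¬ FFMod (S : Subgroup G) (MH (S : Subgroup G))

/-! ### weakly closed groups -/

/-- a weakly closed subgroup which contains `J(S)` is a level -/
theorem lev_of_wc {S K : Subgroup G} (h : WC S K) (hJ : jj S ≤ K) : Lev S K where
  le := h.le
  jjle := hJ
  norm := fun T h1 h2 n hn => by
    rw [mem_normalizer_iff_cj]
    refine h.eq n ?_
    have h3 := cj_mono n h1
    rw [cj_eq_of_mem_normalizer hn] at h3
    exact h3.trans h2

/-- the next level is weakly closed -/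
theorem wc_nxtX [Finite G] {S K X : Subgroup G} (h : WC S K) (hX : X ≤ zc K)
    (hn : normalizer (K : Set G) ≤ normalizer (X : Set G)) : WC S (nxtX S X) := by
  have hle : nxtX S X ≤ S := sup_le inf_le_left (sSup_le fun _ h => h.1)
  have hKX : K ≤ nxtX S X :=
    (le_inf h.le ((NO3S.Level.le_centralizer_zc K).trans (centralizer_le hX))).trans le_sup_left
  refine ⟨hle, fun g hg => ?_⟩
  have hgK : g ∈ normalizer (K : Set G) := mem_normalizer_iff_cj.2 (h.eq g ((cj_mono g hKX).trans hg))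
  have hX' : cj g X = X := cj_eq_of_mem_normalizer (hn hgK)
  have h4 : cj g (nxtX S X) ≤ nxtX S X := by
    show Subgroup.map _ _ ≤ _
    rw [nxtX, Subgroup.map_sup]
    refine sup_le ?_ ?_
    · refine le_trans ?_ le_sup_left
      refine le_inf ?_ ?_
      · exact (cj_mono g (show S ⊓ centralizer (X : Set G) ≤ nxtX S X from le_sup_left)).trans hg
      · refine (cj_mono g inf_le_right).trans ?_
        rw [cj_centralizer, hX']
    · rw [Subgroup.map_le_iff_le_comap]
      refine sSup_le fun A hA => ?_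
      rw [← Subgroup.map_le_iff_le_comap]
      have hA' : A ≤ nxtX S X :=
        (le_sSup (show A ∈ {A | A ≤ S ∧ Best X A} from hA)).trans le_sup_right
      refine (le_sSup (show cj g A ∈ {A | A ≤ S ∧ Best X A} from
        ⟨(cj_mono g hA').trans hg, hA.2.conj (hn hgK)⟩)).trans le_sup_right
  exact Subgroup.eq_of_le_of_card_ge h4 (card_cj _ _).ge

/-- `J(S)` is weakly closed -/
theorem wc_jj [Finite G] (S : Sylow 2 G) : WC (S : Subgroup G) (jj (S : Subgroup G)) := by
  refine ⟨ZN.ChoiceBase.jj_le _, fun g hg => ?_⟩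
  have h1 : jj (S : Subgroup G) ≤ cj g⁻¹ (S : Subgroup G) := cj_le_iff.1 hg
  have h2 := MinSimple.EmptyTI.jj_eq S (isPGroup_cj g⁻¹ S.isPGroup') h1
  rw [jj_cj] at h2
  have h3 := congrArg (cj g) h2
  rw [cj_cj_inv] at h3
  exact h3.symm

/-! ### the setting -/

section setting

variable [Finite G] {S : Sylow 2 G}

/-- `W^ ≤ O₂(P)` for `P ∈ P*(S)` -/
theorem WH_le_o2 (hc : IsCharacteristicTwoType G) {P : Subgroup G} (hP : IsParS (S : Subgroup G) P) :
    WH (S : Subgroup G) (MZ (S : Subgroup G)) ≤ o2 P := fun x hx => by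
  have h1 := WH_le (S : Subgroup G) (MZ (S : Subgroup G)) hx
  exact mem_o2_of_cent hc S hP h1.1 (centralizer_le (Star.zl_mono _ (le_MZ hP)) h1.2)

/-- `P ≤ M` for `P ∈ P*(S)` -/
theorem par_le (hc : IsCharacteristicTwoType G) {P : Subgroup G} (hP : IsParS (S : Subgroup G) P) :
    P ≤ MH (S : Subgroup G) := fun p hp => by
  refine mem_ML_of_le ?_
  have h1 := cj_mono p (WH_le_o2 hc hP)
  rw [cj_eq_of_mem_normalizer (le_normalizer_o2 P hp)] at h1
  exact h1.trans (hP.isLoc.o2_le S)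

theorem MZ_le (hc : IsCharacteristicTwoType G) : MZ (S : Subgroup G) ≤ MH (S : Subgroup G) :=
  sSup_le fun _ hP => par_le hc hP

theorem Wd_le (hc : IsCharacteristicTwoType G) : Wd (S : Subgroup G) ≤ VH (S : Subgroup G) :=
  Star.zl_mono _ (MZ_le hc)

theorem NS_le : normalizer ((S : Subgroup G) : Set G) ≤ MH (S : Subgroup G) := by
  intro n hn
  refine mem_ML_of_le ?_
  have h3 := cj_mono n (WH_le_S (S : Subgroup G) (MZ (S : Subgroup G)))
  rwa [cj_eq_of_mem_normalizer hn] at h3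

theorem S_le : (S : Subgroup G) ≤ MH (S : Subgroup G) := le_normalizer.trans NS_le

/-- `J(S) ≤ W^` -/
theorem jj_le_WH (hJ : jj (S : Subgroup G) ≤ centralizer (Wd (S : Subgroup G) : Set G)) :
    jj (S : Subgroup G) ≤ WH (S : Subgroup G) (MZ (S : Subgroup G)) :=
  le_WH (wc_jj S) (le_inf (ZN.ChoiceBase.jj_le _) hJ)

variable (hJ : jj (S : Subgroup G) ≤ centralizer (Wd (S : Subgroup G) : Set G))
include hJ

theorem zc_le_WH : zc (S : Subgroup G) ≤ WH (S : Subgroup G) (MZ (S : Subgroup G)) := fun _ hx =>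
  jj_le_WH hJ (mem_zj.1 (zc_le_zj _ hx)).1

/-- `V ≤ Ω₁(Z(W^))` -/
theorem VH_le : VH (S : Subgroup G) ≤ zc (WH (S : Subgroup G) (MZ (S : Subgroup G))) := by
  refine zl_le ?_ (normalizer_le_normalizer_zc _)
  intro x hx
  have h1 := mem_zc.1 hx
  exact mem_zc.2 ⟨zc_le_WH hJ hx, fun y hy => h1.2.1 y (WH_le_S _ _ hy), h1.2.2⟩

theorem WH_cent : WH (S : Subgroup G) (MZ (S : Subgroup G)) ≤ centralizer (VH (S : Subgroup G) : Set G) :=
  cent_symm ((VH_le hJ).trans fun x hx => mem_centralizer_iff.2 fun y hy => (mem_zc.1 hx).2.1 y hy)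

theorem VH_le_S : VH (S : Subgroup G) ≤ (S : Subgroup G) := ((VH_le hJ).trans (zc_le _)).trans (WH_le_S _ _)

theorem VH_comm : VH (S : Subgroup G) ≤ centralizer (VH (S : Subgroup G) : Set G) := by
  intro x hx
  rw [mem_centralizer_iff]
  intro y hy
  exact zc_comm _ _ (VH_le hJ hy) _ (VH_le hJ hx)

/-- **`C_S(V) = W^`** -/
theorem cs (hc : IsCharacteristicTwoType G) :
    (S : Subgroup G) ⊓ centralizer (VH (S : Subgroup G) : Set G) = WH (S : Subgroup G) (MZ (S : Subgroup G)) := by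
  refine le_antisymm (le_WH ⟨inf_le_left, fun g hg => ?_⟩ (inf_le_inf_left _ (centralizer_le (Wd_le hc))))
    (le_inf (WH_le_S _ _) (WH_cent hJ))
  have h1 : WH (S : Subgroup G) (MZ (S : Subgroup G)) ≤
      (S : Subgroup G) ⊓ centralizer (VH (S : Subgroup G) : Set G) := le_inf (WH_le_S _ _) (WH_cent hJ)
  have h2 : g ∈ MH (S : Subgroup G) := mem_ML_of_le ((cj_mono g h1).trans hg)
  have h3 : cj g (VH (S : Subgroup G)) = VH (S : Subgroup G) :=
    cj_eq_of_mem_normalizer (le_normalizer_zl _ _ h2)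
  have h4 : cj g ((S : Subgroup G) ⊓ centralizer (VH (S : Subgroup G) : Set G)) ≤
      (S : Subgroup G) ⊓ centralizer (VH (S : Subgroup G) : Set G) := by
    refine le_inf hg ?_
    rw [cj_inf, cj_centralizer, h3]
    exact inf_le_right
  exact Subgroup.eq_of_le_of_card_ge h4 (card_cj _ _).ge

omit hJ in
theorem MH_norm : MH (S : Subgroup G) ≤
    normalizer (WH (S : Subgroup G) (MZ (S : Subgroup G)) : Set G) := le_rfl

theorem isLoc (hG : Ctx G) : IsLoc (S : Subgroup G) (MH (S : Subgroup G)) := by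
  refine isLoc_of_le_normalizer S S_le (S.isPGroup'.to_le (WH_le_S _ _)) ?_ MH_norm
  intro h0
  exact MinSimple.Basic.zc_ne_bot S.isPGroup' (hG.sylow_ne_bot S) (le_bot_iff.1 (h0 ▸ zc_le_WH hJ))

theorem cs_le (hc : IsCharacteristicTwoType G) :
    (S : Subgroup G) ⊓ centralizer (VH (S : Subgroup G) : Set G) ≤ o2 (MH (S : Subgroup G)) := by
  rw [cs hJ hc]
  exact le_o2 ((WH_le_S _ _).trans S_le) (S.isPGroup'.to_le (WH_le_S _ _)) MH_norm

/-- the level `(W^, V)` -/
theorem levX (hc : IsCharacteristicTwoType G) :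
    LevX (S : Subgroup G) (WH (S : Subgroup G) (MZ (S : Subgroup G))) (VH (S : Subgroup G)) where
  toLev := lev_of_wc (wc_WH _ _) (jj_le_WH hJ)
  Xle := VH_le hJ
  Xn := le_normalizer_zl _ _
  VX := Wd_le hc
  MX := (MZ_le hc).trans (le_normalizer_zl _ _)

/-- If `S` offends on `V`, then the best offenders at the level `(W^, V)` move `V*`. -/
theorem move_of_ff (hc : IsCharacteristicTwoType G) (hff : FFMod (S : Subgroup G) (MH (S : Subgroup G))) :
    ¬ nxtX (S : Subgroup G) (VH (S : Subgroup G)) ≤ centralizer (Wd (S : Subgroup G) : Set G) := by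
  intro hcon
  obtain ⟨A, hA, ho⟩ := hff
  obtain ⟨X, hXA, hb, hne⟩ := exists_best ho
  apply hne
  have hw := wc_nxtX (wc_WH (S : Subgroup G) (MZ (S : Subgroup G))) (VH_le hJ) (le_normalizer_zl _ _)
  have h1 : nxtX (S : Subgroup G) (VH (S : Subgroup G)) ≤ WH (S : Subgroup G) (MZ (S : Subgroup G)) :=
    le_WH hw (le_inf hw.le hcon)
  have h2 : X ≤ nxtX (S : Subgroup G) (VH (S : Subgroup G)) :=
    (le_sSup (show X ∈ {A | A ≤ (S : Subgroup G) ∧ Best (VH (S : Subgroup G)) A} from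
      ⟨hXA.trans hA, hb⟩)).trans le_sup_right
  exact h2.trans (h1.trans (WH_cent hJ))

end setting

/-! ### the root -/

namespace HatS

variable [Finite G] {S : Sylow 2 G} (h : HatS S)
include h

theorem notFF : NotFF (VH (S : Subgroup G)) := NO3b.Final.notFF_of S_le h.nff

theorem root : Root S (MH (S : Subgroup G)) :=
  root_of_isLoc h.ctx.char2 (isLoc h.jc h.ctx) (cs_le h.jc h.ctx.char2) h.notFF

/-- the largest weakly closed subgroup of `S` in `C_S(V)` is `W^` -/
theorem WH_eq : WH (S : Subgroup G) (MH (S : Subgroup G)) = WH (S : Subgroup G) (MZ (S : Subgroup G)) := by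
  refine le_antisymm (le_WH (wc_WH _ _) ?_) (le_WH (wc_WH _ _) ?_)
  · exact (WH_le _ _).trans (inf_le_inf_left _ (centralizer_le (Wd_le h.ctx.char2)))
  · exact le_inf (WH_le_S _ _) (WH_cent h.jc)

theorem ML_eq : ML (S : Subgroup G) (MH (S : Subgroup G)) = MH (S : Subgroup G) := by
  show normalizer (WH (S : Subgroup G) (MH (S : Subgroup G)) : Set G) = _
  rw [h.WH_eq]
  rfl

theorem VL_eq : VL (S : Subgroup G) (MH (S : Subgroup G)) = VH (S : Subgroup G) := by
  show zl (S : Subgroup G) (ML (S : Subgroup G) (MH (S : Subgroup G))) = _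
  rw [h.ML_eq]
  rfl

theorem nonLoc : NonLoc (MH (S : Subgroup G)) (CZ (S : Subgroup G)) := fun U hU h1 h2 =>
  nonLoc_YS h.ctx h.full U hU ((MZ_le h.ctx.char2).trans h1) h2

theorem nfRoot (low : VH (S : Subgroup G) ≤ o2 (CZ (S : Subgroup G))) :
    NFRoot (S : Subgroup G) (MH (S : Subgroup G)) :=
  ⟨isLoc h.jc h.ctx, cs_le h.jc h.ctx.char2, low, h.notFF, h.nonLoc⟩

/-- `V ≤ O₂(C_G(Z))` is impossible. -/
theorem false_of (ml : MLK.{u, u}) (ha : AbsP.{u, u}) (low : VH (S : Subgroup G) ≤ o2 (CZ (S : Subgroup G))) :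
    False := NO3b.BasePt.false_of_nfRoot h.ctx ml ha (h.nfRoot low)

end HatS

/-- `V ≤ O₂(C_G(Z))` in the setting of [NL]. -/
def LowH : Prop :=
  ∀ (G : Type u) [Group G] [Finite G] (S : Sylow 2 G), HatS S → VH (S : Subgroup G) ≤ o2 (CZ (S : Subgroup G))

/-- **[NL]**: `J(S)`, or the best offenders at some level, move `V*`. -/
theorem exists_levX_of (ml : MLK.{u, u}) (ha : AbsP.{u, u}) (low : LowH.{u}) [Finite G] {S : Sylow 2 G} (h : RBF S) :
    ¬ jj (S : Subgroup G) ≤ centralizer (Wd (S : Subgroup G) : Set G) ∨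
      ∃ K X, LevX (S : Subgroup G) K X ∧
        ¬ nxtX (S : Subgroup G) X ≤ centralizer (Wd (S : Subgroup G) : Set G) := by
  by_cases hJ : jj (S : Subgroup G) ≤ centralizer (Wd (S : Subgroup G) : Set G)
  swap
  · exact Or.inl hJ
  right
  by_cases hff : FFMod (S : Subgroup G) (MH (S : Subgroup G))
  · exact ⟨_, _, levX hJ h.ctx.char2, move_of_ff hJ h.ctx.char2 hff⟩
  · exfalso
    have hH : HatS S := ⟨h.ctx, h.full, h.data, h.notA, h.ex, hJ, hff⟩
    exact hH.false_of ml ha (low G S hH)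

end Cfsg.Agent.Omega.NOThreeL.RLev.HatEnd
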