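import Cfsg.Agent.Omega.NO3S.Level.Basic
import Cfsg.Agent.Omega.NOThreeL.RZ.Frame

/-!
# Box R of NO-3L: the refined chain of levels (helper319, THEOREM A)

The levels go on beyond `V^!(S)`: `K` a level, `X ≤ Ω₁Z(K)` normalised by `N_G(K)`, then
`nxtX S X = ⟨best offenders of S on X⟩ C_S(X)` is a level again.

* `nxtX S X`, `nextX` : `Lev S (nxtX S X)`;
* `xm S K` : `Ω₁Z(K)` if `S` offends on it, else `⟨Z^{N_G(K)}⟩`;
* `chn S n` : `J(S)`, `chn S (n + 1) = nxtX S (xm S (chn S n))`; `chn_lev`;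
* `ke S` : the end of the chain; `ke_lev`, `nn_zc`, `nn_Ve` : `Ω₁Z(ke S)` and `Ve S = ⟨Z^{N_G(ke S)}⟩` are in `NN(S)`;
* `norm_ke_le` : `N_G(ke S) ≤ N_G(chn S n)`.
-/

set_option autoImplicit false
set_option linter.unusedSectionVars false

namespace Cfsg.Agent.Omega.NOThreeL.RLev

open Subgroup Cfsg Cfsg.Agent.Omega.MinPar Cfsg.Agent.Omega.Frame Cfsg.Agent.Omega.FrameNOFF
open Cfsg.Agent.ZN (o2 zc zl jj)
open Cfsg.Agent.ZN.ChoiceBase hiding mem_zc
open Cfsg.Agent.Omega.Node.NO3L Cfsg.Agent.Omega.NOThreeL.Basic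
open Cfsg.Agent.Omega.NOThreeL.ZCut (FZ)
open Cfsg.Agent.Omega.NOThreeL.Star (YS le_YS)
open Cfsg.Agent.Omega.NO3b.Bang
open Cfsg.Agent.Omega.NO1.BestOff (Best exists_best)
open Cfsg.Agent.Omega.FFThm (OffM ElemM)
open Cfsg.Agent.Omega.NO3S.Level (Lev nxt BO zc_cj normalizer_le_zc le_centralizer_zc)
open Cfsg.Agent.Omega.NOThreeL.RZ (Inv RR V_le_of le_norm_V V_mono inv_RR)
open Cfsg.Agent.PLocal.ThompsonJ
open Cfsg.Agent.MinSimple.VModule (zc_le le_normalizer_o2 le_normalizer_zl zc_le_zl zl_le o2_isPGroup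
  o2_le le_o2 zc_sq)

universe u

variable {G : Type u} [Group G]

/-- `⟨best offenders of S on X⟩ C_S(X)` -/
def nxtX (S X : Subgroup G) : Subgroup G := (S ⊓ centralizer (X : Set G)) ⊔ sSup {A | A ≤ S ∧ Best X A}

theorem nxt_eq (S K : Subgroup G) : nxt S K = nxtX S (zc K) := rfl

theorem nxtX_le (S X : Subgroup G) : nxtX S X ≤ S := sup_le inf_le_left (sSup_le fun _ h => h.1)

theorem best_le {S X A : Subgroup G} (hA : A ≤ S) (h : Best X A) : A ≤ nxtX S X :=
  (le_sSup (show A ∈ {A | A ≤ S ∧ Best X A} from ⟨hA, h⟩)).trans le_sup_right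

theorem inf_cent_le (S X : Subgroup G) : S ⊓ centralizer (X : Set G) ≤ nxtX S X := le_sup_left

theorem le_nxtX {S K X : Subgroup G} (h : K ≤ S) (hX : X ≤ zc K) : K ≤ nxtX S X :=
  (le_inf h ((le_centralizer_zc K).trans (centralizer_le hX))).trans le_sup_left

/-- **The next level for `X`.** -/
theorem nextX [Finite G] {S K X : Subgroup G} (h : Lev S K) (hX : X ≤ zc K)
    (hn : normalizer (K : Set G) ≤ normalizer (X : Set G)) : Lev S (nxtX S X) where
  le := nxtX_le S X
  jjle := h.jjle.trans (le_nxtX h.le hX)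
  norm := fun T h1 h2 g hg => by
    have hgK : g ∈ normalizer (K : Set G) := h.norm T ((le_nxtX h.le hX).trans h1) h2 hg
    have hT : cj g T = T := cj_eq_of_mem_normalizer hg
    have hX' : cj g X = X := cj_eq_of_mem_normalizer (hn hgK)
    apply mem_normalizer_of_cj_le
    show Subgroup.map _ _ ≤ _
    rw [nxtX, Subgroup.map_sup]
    refine sup_le ?_ ?_
    · refine le_trans ?_ (inf_cent_le S X)
      refine le_inf ?_ ?_
      · exact (cj_mono g ((inf_cent_le S X).trans h1)).trans (hT.le.trans h2)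
      · refine (cj_mono g inf_le_right).trans ?_
        rw [cj_centralizer, hX']
    · rw [Subgroup.map_le_iff_le_comap]
      refine sSup_le fun A hA => ?_
      rw [← Subgroup.map_le_iff_le_comap]
      refine best_le ?_ (hA.2.conj (hn hgK))
      exact (cj_mono g ((best_le hA.1 hA.2).trans h1)).trans (hT.le.trans h2)

open Classical in
/-- The module of the level `K`. -/
noncomputable def xm (S K : Subgroup G) : Subgroup G :=
  if ∃ A : Subgroup G, A ≤ S ∧ OffM (zc K) A then zc K else zl S (normalizer (K : Set G))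

/-- The chain of levels. -/
noncomputable def chn (S : Subgroup G) : ℕ → Subgroup G
  | 0 => jj S
  | n + 1 => nxtX S (xm S (chn S n))

theorem zl_le_zc' {S K : Subgroup G} [Finite G] (h : Lev S K) : zl S (normalizer (K : Set G)) ≤ zc K :=
  zl_le h.zc_le (normalizer_le_zc K)

theorem xm_le_zc [Finite G] {S K : Subgroup G} (h : Lev S K) : xm S K ≤ zc K := by
  rw [xm]
  split_ifs
  · exact le_rfl
  · exact zl_le_zc' h

theorem le_norm_xm (S K : Subgroup G) : normalizer (K : Set G) ≤ normalizer (xm S K : Set G) := by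
  rw [xm]
  split_ifs
  · exact normalizer_le_zc K
  · exact le_normalizer_zl S _

theorem zl_le_xm [Finite G] {S K : Subgroup G} (h : Lev S K) : zl S (normalizer (K : Set G)) ≤ xm S K := by
  rw [xm]
  split_ifs
  · exact zl_le_zc' h
  · exact le_rfl

theorem chn_lev [Finite G] (S : Subgroup G) : ∀ n, Lev S (chn S n)
  | 0 => Lev.zero S
  | n + 1 => nextX (chn_lev S n) (xm_le_zc (chn_lev S n)) (le_norm_xm S _)

theorem chn_le_succ [Finite G] (S : Subgroup G) (n : ℕ) : chn S n ≤ chn S (n + 1) :=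
  le_nxtX (chn_lev S n).le (xm_le_zc (chn_lev S n))

theorem chn_mono [Finite G] (S : Subgroup G) : Monotone (chn S) := monotone_nat_of_le_succ (chn_le_succ S)

theorem exists_stop [Finite G] (S : Subgroup G) : ∃ n, chn S (n + 1) = chn S n := by
  by_contra hcon
  push Not at hcon
  have h1 : StrictMono (chn S) := strictMono_nat_of_lt_succ fun n => lt_of_le_of_ne (chn_le_succ S n) (hcon n).symm
  exact not_injective_infinite_finite _ h1.injective

/-- The end of the chain. -/
noncomputable def ke (S : Subgroup G) : Subgroup G := by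
  classical
  exact if h : ∃ n, chn S (n + 1) = chn S n then chn S (Nat.find h) else S

theorem ke_eq [Finite G] (S : Subgroup G) : ∃ n, ke S = chn S n ∧ chn S (n + 1) = chn S n := by
  classical
  have h := exists_stop S
  refine ⟨Nat.find h, ?_, Nat.find_spec h⟩
  rw [ke, dif_pos h]

/-- `V_e = ⟨Z^{N_G(ke S)}⟩` -/
noncomputable def Ve (S : Subgroup G) : Subgroup G := zl S (normalizer (ke S : Set G))

theorem ke_lev [Finite G] (S : Subgroup G) : Lev S (ke S) := by
  obtain ⟨n, h, -⟩ := ke_eq S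
  rw [h]
  exact chn_lev S n

theorem chn_le_ke [Finite G] (S : Subgroup G) (m : ℕ) : chn S m ≤ ke S := by
  obtain ⟨n, h, h1⟩ := ke_eq S
  rw [h]
  rcases le_total m n with h2 | h2
  · exact chn_mono S h2
  · obtain ⟨k, rfl⟩ := Nat.exists_eq_add_of_le h2
    clear h2
    induction k with
    | zero => exact le_rfl
    | succ k ih =>
      have h3 : chn S (n + k) = chn S n := le_antisymm ih (chn_mono S (Nat.le_add_right n k))
      have h4 : chn S (n + (k + 1)) = chn S (n + 1) := by
        show nxtX S (xm S (chn S (n + k))) = nxtX S (xm S (chn S n))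
        rw [h3]
      rw [h4, h1]

/-- No subgroup of `S` offends on the module of the last level. -/
theorem no_off [Finite G] (S : Subgroup G) {A : Subgroup G} (hA : A ≤ S) : ¬ OffM (xm S (ke S)) A := by
  intro ho
  obtain ⟨n, h, h1⟩ := ke_eq S
  obtain ⟨X, hXA, hb, hne⟩ := exists_best ho
  apply hne
  have h2 : X ≤ ke S := by
    rw [h, ← h1]
    show X ≤ nxtX S (xm S (chn S n))
    rw [← h]
    exact best_le (hXA.trans hA) hb
  exact h2.trans ((le_centralizer_zc (ke S)).trans (centralizer_le (xm_le_zc (ke_lev S))))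

theorem no_off_zc [Finite G] (S : Subgroup G) {A : Subgroup G} (hA : A ≤ S) : ¬ OffM (zc (ke S)) A := by
  intro ho
  have h1 : xm S (ke S) = zc (ke S) := by
    rw [xm, if_pos ⟨A, hA, ho⟩]
  exact no_off S hA (h1 ▸ ho)

theorem xm_ke [Finite G] (S : Subgroup G) : xm S (ke S) = Ve S := by
  rw [xm, if_neg]
  · rfl
  · rintro ⟨A, hA, ho⟩
    exact no_off_zc S hA ho

theorem nn_of [Finite G] {S K X : Subgroup G} (h : Lev S K) (hX : X ≤ zc K)
    (hn : normalizer (K : Set G) ≤ normalizer (X : Set G)) (hno : ∀ A ≤ S, ¬ OffM X A) : NN S X where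
  le := hX.trans ((zc_le K).trans h.le)
  norm := h.S_norm.trans hn
  comm := by
    intro x hx
    rw [mem_centralizer_iff]
    intro y hy
    exact Lev.zc_comm (hX hy) (hX hx)
  sq := fun v hv => (Cfsg.Agent.ZN.ChoiceBase.mem_zc.1 (hX hv)).2.1
  nff := hno

theorem nn_zc [Finite G] (S : Subgroup G) : NN S (zc (ke S)) :=
  nn_of (ke_lev S) le_rfl (normalizer_le_zc _) fun _ hA => no_off_zc S hA

theorem nn_Ve [Finite G] (S : Subgroup G) : NN S (Ve S) :=
  nn_of (ke_lev S) (zl_le_zc' (ke_lev S)) (le_normalizer_zl S _) fun _ hA ho =>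
    no_off S hA (by rw [xm_ke]; exact ho)

theorem norm_ke_le [Finite G] (S : Subgroup G) (n : ℕ) :
    normalizer (ke S : Set G) ≤ normalizer (chn S n : Set G) :=
  (chn_lev S n).norm _ (chn_le_ke S n) (ke_lev S).le

end Cfsg.Agent.Omega.NOThreeL.RLev
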