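import Cfsg.Agent.Omega.NOThreeL.Basic

/-!
# `Ω₁(Z(C_S(V)))` is low (K-free, no levels)

`V` a 2-group normalised by the Sylow 2-subgroup `S`, `X ≥ C_G(V)` of characteristic 2, the `X`-conjugates of `V` commute
with `V`. Then `Ω₁(Z(C_S(V))) ≤ O₂(X)`, and its `X`-conjugates commute.

* `mem_o2_of_chain`, `char2_normal` : normal subgroups of groups of characteristic 2;
* `zcQ_le`, `zcQ_comm`.
-/

set_option autoImplicit false

namespace Cfsg.Agent.Omega.NOThreeL.RLev.LowQ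

open Subgroup Cfsg Cfsg.Agent.ZN
open Cfsg.Agent.MinSimple.VModule (mem_zc zc_le le_normalizer_o2 o2_isPGroup o2_le le_o2)

universe u

variable {G : Type u} [Group G]

/-- `ζ ∈ N` acting trivially on `R` and on `O₂(N)/R`, `R ⊴ N` a 2-group, lies in `O₂(N)`. -/
theorem mem_o2_of_chain [Finite G] {N R : Subgroup G} (hcW : N ⊓ centralizer (o2 N : Set G) ≤ o2 N)
    (hR : IsPGroup 2 R) (hN : N ≤ normalizer (R : Set G)) {ζ : G} (hζ : ζ ∈ N)
    (h1 : ∀ g ∈ o2 N, g * ζ * g⁻¹ * ζ⁻¹ ∈ R) (h2 : ∀ u ∈ R, u * ζ = ζ * u) : ζ ∈ o2 N := by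
  let K : Subgroup G :=
    { carrier := {g | g ∈ N ∧ (∀ x ∈ o2 N, x * g * x⁻¹ * g⁻¹ ∈ R) ∧ ∀ u ∈ R, u * g = g * u}
      one_mem' := ⟨one_mem _, fun x _ => by
        have : x * 1 * x⁻¹ * 1⁻¹ = (1 : G) := by group
        rw [this]; exact one_mem _, fun u _ => by rw [mul_one, one_mul]⟩
      mul_mem' := by
        rintro a b ⟨ha, ha', ha''⟩ ⟨hb, hb', hb''⟩
        refine ⟨mul_mem ha hb, fun x hx => ?_, fun u hu => by rw [← mul_assoc, ha'' u hu, mul_assoc, hb'' u hu, mul_assoc]⟩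
        have e : x * (a * b) * x⁻¹ * (a * b)⁻¹ = (x * a * x⁻¹ * a⁻¹) * (a * (x * b * x⁻¹ * b⁻¹) * a⁻¹) := by group
        have e2 : a * (x * b * x⁻¹ * b⁻¹) * a⁻¹ = x * b * x⁻¹ * b⁻¹ := by
          rw [← ha'' _ (hb' x hx), mul_inv_cancel_right]
        rw [e, e2]
        exact mul_mem (ha' x hx) (hb' x hx)
      inv_mem' := by
        rintro a ⟨ha, ha', ha''⟩
        have hc : ∀ u ∈ R, u * a⁻¹ = a⁻¹ * u := fun u hu => by
          rw [mul_inv_eq_iff_eq_mul, mul_assoc, ha'' u hu, inv_mul_cancel_left]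
        refine ⟨inv_mem ha, fun x hx => ?_, hc⟩
        have e : x * a⁻¹ * x⁻¹ * a⁻¹⁻¹ = a⁻¹ * (x * a * x⁻¹ * a⁻¹)⁻¹ * a := by group
        have e2 : a⁻¹ * (x * a * x⁻¹ * a⁻¹)⁻¹ * a = (x * a * x⁻¹ * a⁻¹)⁻¹ := by
          rw [← hc _ (inv_mem (ha' x hx)), inv_mul_cancel_right]
        rw [e, e2]
        exact inv_mem (ha' x hx) }
  have hK : ∀ g, g ∈ K ↔ g ∈ N ∧ (∀ x ∈ o2 N, x * g * x⁻¹ * g⁻¹ ∈ R) ∧ ∀ u ∈ R, u * g = g * u := fun g => Iff.rfl
  refine (le_o2 (fun g hg => ((hK g).1 hg).1) ?_ ?_ : K ≤ o2 N) ((hK ζ).2 ⟨hζ, h1, h2⟩)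
  · -- `K` is a 2-group
    have hpow : ∀ g ∈ K, ∀ x ∈ o2 N, ∀ n : ℕ, x * g ^ n * x⁻¹ * (g ^ n)⁻¹ = (x * g * x⁻¹ * g⁻¹) ^ n := by
      intro g hg x hx n
      obtain ⟨hgN, hg', hg''⟩ := (hK _).1 hg
      induction n with
      | zero => simp
      | succ n ih =>
        have hc : Commute (x * g * x⁻¹ * g⁻¹) (g ^ n) := (show Commute _ g from hg'' _ (hg' x hx)).pow_right n
        have e : x * g ^ (n + 1) * x⁻¹ * (g ^ (n + 1))⁻¹ =
            (x * g ^ n * x⁻¹ * (g ^ n)⁻¹) * (g ^ n * (x * g * x⁻¹ * g⁻¹) * (g ^ n)⁻¹) := by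
          rw [pow_succ]; group
        rw [e, ih, ← hc.eq, mul_inv_cancel_right, pow_succ]
    obtain ⟨m, hm⟩ : ∃ m : ℕ, ∀ r ∈ R, r ^ 2 ^ m = 1 := by
      have : Fact (Nat.Prime 2) := ⟨Nat.prime_two⟩
      obtain ⟨m, hm⟩ := IsPGroup.iff_card.1 hR
      refine ⟨m, fun r hr => ?_⟩
      have h3 : (⟨r, hr⟩ : R) ^ Nat.card R = 1 := pow_card_eq_one'
      rw [hm] at h3
      exact congrArg Subtype.val h3
    intro g
    obtain ⟨hgN, hg', hg''⟩ := (hK _).1 g.2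
    have h3 : (g : G) ^ 2 ^ m ∈ o2 N := by
      refine hcW ⟨pow_mem hgN _, mem_centralizer_iff.2 fun x hx => ?_⟩
      have h4 := hpow g g.2 x hx (2 ^ m)
      rw [hm _ (hg' x hx)] at h4
      have h5 := mul_inv_eq_one.1 h4
      exact mul_inv_eq_iff_eq_mul.1 h5
    obtain ⟨j, hj⟩ := (o2_isPGroup N) ⟨(g : G) ^ 2 ^ m, h3⟩
    refine ⟨m + j, Subtype.ext ?_⟩
    have h4 := congrArg Subtype.val hj
    rw [SubmonoidClass.coe_pow, OneMemClass.coe_one] at h4 ⊢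
    rw [pow_add, pow_mul]
    exact h4
  · intro n hn
    rw [mem_normalizer_iff]
    have key : ∀ n ∈ N, ∀ g ∈ K, n * g * n⁻¹ ∈ K := by
      intro n hn g hg
      obtain ⟨hgN, hg', hg''⟩ := (hK _).1 hg
      refine (hK _).2 ⟨mul_mem (mul_mem hn hgN) (inv_mem hn), fun x hx => ?_, fun u hu => ?_⟩
      · have hx' : n⁻¹ * x * n ∈ o2 N := by
          have := (mem_normalizer_iff.1 (le_normalizer_o2 N (inv_mem hn)) x).1 hx
          rwa [inv_inv] at this
        have h3 := (mem_normalizer_iff.1 (hN hn) _).1 (hg' _ hx')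
        have e : n * (n⁻¹ * x * n * g * (n⁻¹ * x * n)⁻¹ * g⁻¹) * n⁻¹ = x * (n * g * n⁻¹) * x⁻¹ * (n * g * n⁻¹)⁻¹ := by group
        rwa [e] at h3
      · have hu' : n⁻¹ * u * n ∈ R := by
          have := (mem_normalizer_iff.1 (hN (inv_mem hn)) u).1 hu
          rwa [inv_inv] at this
        have h3 := congrArg (fun t => n * t * n⁻¹) (hg'' _ hu')
        simpa [mul_assoc] using h3
    intro g
    refine ⟨key n hn g, fun hg => ?_⟩
    have h3 := key n⁻¹ (inv_mem hn) _ hg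
    have e : n⁻¹ * (n * g * n⁻¹) * n⁻¹⁻¹ = g := by group
    rwa [e] at h3

/-- A normal subgroup of a group of characteristic 2 has characteristic 2. -/
theorem char2_normal [Finite G] {N X : Subgroup G} (hX : X ⊓ centralizer (o2 X : Set G) ≤ o2 X) (hNX : N ≤ X)
    (hN : X ≤ normalizer (N : Set G)) : N ⊓ centralizer (o2 N : Set G) ≤ o2 N := by
  have hR : N ⊓ o2 X ≤ o2 N :=
    le_o2 inf_le_left ((o2_isPGroup X).to_le inf_le_right) fun n hn => by
      have h1 := le_normalizer_o2 X (hNX hn)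
      rw [mem_normalizer_iff] at h1 ⊢
      intro x
      rw [mem_inf, mem_inf, ← h1 x]
      refine and_congr_left fun _ => ⟨fun hx => mul_mem (mul_mem hn hx) (inv_mem hn), fun hx => ?_⟩
      have h3 := mul_mem (mul_mem (inv_mem hn) hx) hn
      have e : n⁻¹ * (n * x * n⁻¹) * n = x := by group
      rwa [e] at h3
  rintro y ⟨hyN, hyc⟩
  refine hR ⟨hyN, ?_⟩
  refine mem_o2_of_chain hX (R := N ⊓ o2 X) ((o2_isPGroup X).to_le inf_le_right) ?_ (hNX hyN) ?_ ?_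
  · intro x hx
    have h1 := le_normalizer_o2 X hx
    have h2 := hN hx
    rw [mem_normalizer_iff] at h1 h2 ⊢
    intro g
    rw [mem_inf, mem_inf, ← h1 g, ← h2 g]
  · intro g hg
    have hgX := o2_le X hg
    refine ⟨N.mul_mem ((mem_normalizer_iff.1 (hN hgX) y).1 hyN) (N.inv_mem hyN), ?_⟩
    have h1 := (mem_normalizer_iff.1 (le_normalizer_o2 X (hNX hyN)) g⁻¹).1 (inv_mem hg)
    have e : g * y * g⁻¹ * y⁻¹ = g * (y * g⁻¹ * y⁻¹) := by group
    rw [e]
    exact mul_mem hg h1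
  · intro u hu
    exact mem_centralizer_iff.1 hyc u (hR hu)

/-- `2 ∤ |C_G(V) : C_S(V)|` if `S` normalises `V` -/
theorem not_dvd [Finite G] (S : Sylow 2 G) {K : Subgroup G} (h : (S : Subgroup G) ≤ normalizer (K : Set G)) :
    ¬ 2 ∣ ((S : Subgroup G) ⊓ K).relIndex K := by
  have hc : ∀ {A C : Subgroup G}, A ≤ C → Nat.card A * A.relIndex C = Nat.card C := fun {A C} h => by
    rw [Subgroup.relIndex, ← Nat.card_congr (Subgroup.subgroupOfEquivOfLe h).toEquiv]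
    exact Subgroup.card_mul_index _
  have hKn : (K.subgroupOf (K ⊔ S)).Normal := normal_subgroupOf_of_le_normalizer (sup_le le_normalizer h)
  have h1 := relIndex_sup_left ((S : Subgroup G).subgroupOf (K ⊔ S)) (K.subgroupOf (K ⊔ S))
  rw [← Subgroup.subgroupOf_sup le_sup_left le_sup_right, Subgroup.subgroupOf_self,
    Subgroup.relIndex_subgroupOf le_sup_right, relIndex_top_right] at h1
  have h2 : Nat.card K * K.relIndex S = Nat.card (K ⊔ S : Subgroup G) := by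
    rw [← h1]
    exact hc le_sup_left
  have h3 : Nat.card ((S : Subgroup G) ⊓ K : Subgroup G) * K.relIndex S = Nat.card S := by
    rw [← inf_relIndex_right, inf_comm]
    exact hc inf_le_right
  have h4 := hc (le_sup_right : (S : Subgroup G) ≤ K ⊔ S)
  have h5 := hc (inf_le_right : (S : Subgroup G) ⊓ K ≤ K)
  have h6 := MinSimple.Basic.not_dvd_relIndex S (le_sup_right : (S : Subgroup G) ≤ K ⊔ S)
  have h7 : (S : Subgroup G).relIndex (K ⊔ S) = ((S : Subgroup G) ⊓ K).relIndex K := by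
    apply Nat.eq_of_mul_eq_mul_left (Nat.card_pos (α := S))
    rw [h4, ← h2, ← h5, ← h3]
    ring
  rwa [h7] at h6

/-- a 2-subgroup of `C_G(V)` normalised by `C_G(V)` lies in `C_S(V)`. -/
theorem le_CS [Finite G] (S : Sylow 2 G) {V R : Subgroup G} (hSV : (S : Subgroup G) ≤ normalizer (V : Set G))
    (hR : IsPGroup 2 R) (hRV : R ≤ centralizer (V : Set G))
    (hn : centralizer (V : Set G) ≤ normalizer (R : Set G)) : R ≤ (S : Subgroup G) ⊓ centralizer (V : Set G) := by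
  have hSC : (S : Subgroup G) ≤ normalizer ((centralizer (V : Set G) : Subgroup G) : Set G) := by
    intro s hs
    rw [mem_normalizer_iff]
    have key : ∀ t ∈ (S : Subgroup G), ∀ x ∈ centralizer (V : Set G), t * x * t⁻¹ ∈ centralizer (V : Set G) := by
      intro t ht x hx
      rw [mem_centralizer_iff] at hx ⊢
      intro v hv
      have hv' : t⁻¹ * v * t ∈ V := by
        have := (mem_normalizer_iff.1 (hSV (inv_mem ht)) v).1 hv
        rwa [inv_inv] at this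
      have h1 := congrArg (fun y => t * y * t⁻¹) (hx _ hv')
      simpa [mul_assoc] using h1
    intro x
    refine ⟨key s hs x, fun hx => ?_⟩
    have h3 := key s⁻¹ (inv_mem hs) _ hx
    have e : s⁻¹ * (s * x * s⁻¹) * s⁻¹⁻¹ = x := by group
    rwa [e] at h3
  exact (le_o2 hRV hR hn).trans
    (MinSimple.VModule.o2_le_of_sylow (S.isPGroup'.to_le inf_le_left) (not_dvd S hSC))

section main

variable [Finite G] {S : Sylow 2 G} {V X : Subgroup G}

/-- the conjugates of the elements of `V` -/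
def TT (V X : Subgroup G) : Set G := {g | ∃ x ∈ X, ∃ v ∈ V, g = x * v * x⁻¹}

/-- **`Ω₁(Z(C_S(V)))` is low**, sharp form: it lies in `C_X(⟨V^X⟩) ∩ O₂(X)`, an `X`-invariant subgroup of `C_S(V)`. -/
theorem exists_R (hX : X ⊓ centralizer (o2 X : Set G) ≤ o2 X) (hSV : (S : Subgroup G) ≤ normalizer (V : Set G))
    (hCX : centralizer (V : Set G) ≤ X) (sq : ∀ v ∈ V, v * v = 1)
    (com : ∀ x ∈ X, ∀ v ∈ V, ∀ w ∈ V, v * (x * w * x⁻¹) = x * w * x⁻¹ * v) :
    ∃ R : Subgroup G, R ≤ o2 X ∧ R ≤ (S : Subgroup G) ⊓ centralizer (V : Set G) ∧ X ≤ normalizer (R : Set G) ∧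
      zc ((S : Subgroup G) ⊓ centralizer (V : Set G)) ≤ R := by
  set Q := (S : Subgroup G) ⊓ centralizer (V : Set G) with hQ
  set W : Subgroup G := closure (TT V X) with hW
  have hVT : ∀ v ∈ V, v ∈ TT V X := fun v hv => ⟨1, one_mem _, v, hv, by group⟩
  have hVW : V ≤ W := fun v hv => subset_closure (hVT v hv)
  have hTc : ∀ a ∈ TT V X, ∀ b ∈ TT V X, a * b = b * a := by
    rintro _ ⟨x, hx, v, hv, rfl⟩ _ ⟨y, hy, w, hw, rfl⟩
    have h1 := com (x⁻¹ * y) (mul_mem (inv_mem hx) hy) v hv w hw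
    have h2 := congrArg (fun t => x * t * x⁻¹) h1
    have e1 : x * (v * (x⁻¹ * y * w * (x⁻¹ * y)⁻¹)) * x⁻¹ = x * v * x⁻¹ * (y * w * y⁻¹) := by group
    have e2 : x * (x⁻¹ * y * w * (x⁻¹ * y)⁻¹ * v) * x⁻¹ = y * w * y⁻¹ * (x * v * x⁻¹) := by group
    simpa only [e1, e2] using h2
  have hWc : W ≤ centralizer (W : Set G) := by
    rw [hW, centralizer_closure, closure_le]
    intro a ha
    exact mem_centralizer_iff.2 fun b hb => hTc b hb a ha
  have hWsq : ∀ w ∈ W, w * w = 1 := by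
    intro w hw
    induction hw using closure_induction with
    | mem x hx =>
      obtain ⟨y, hy, v, hv, rfl⟩ := hx
      calc y * v * y⁻¹ * (y * v * y⁻¹) = y * (v * v) * y⁻¹ := by group
        _ = 1 := by rw [sq v hv]; group
    | one => simp
    | mul x y hx hy ihx ihy =>
      have h1 : x * y = y * x := mem_centralizer_iff.1 (hWc hy) x hx
      calc x * y * (x * y) = x * (y * x) * y := by group
        _ = x * (x * y) * y := by rw [h1]
        _ = (x * x) * (y * y) := by group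
        _ = 1 := by rw [ihx, ihy, one_mul]
    | inv x hx ih =>
      have : x⁻¹ = x := inv_eq_of_mul_eq_one_left ih
      rw [this, ih]
  have hW2 : IsPGroup 2 W := fun w => ⟨1, Subtype.ext (by
    rw [SubmonoidClass.coe_pow, OneMemClass.coe_one, pow_one, pow_two]
    exact hWsq w w.2)⟩
  have hXW' : ∀ x ∈ X, ∀ w ∈ W, x * w * x⁻¹ ∈ W := by
    intro x hx w hw
    induction hw using closure_induction with
    | mem y hy =>
      obtain ⟨z, hz, v, hv, rfl⟩ := hy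
      refine subset_closure ⟨x * z, mul_mem hx hz, v, hv, by group⟩
    | one => simp
    | mul a b _ _ iha ihb =>
      have e : x * (a * b) * x⁻¹ = x * a * x⁻¹ * (x * b * x⁻¹) := by group
      rw [e]; exact mul_mem iha ihb
    | inv a _ ih =>
      have e : x * a⁻¹ * x⁻¹ = (x * a * x⁻¹)⁻¹ := by group
      rw [e]; exact inv_mem ih
  have norm_of : ∀ {A : Subgroup G}, (∀ x ∈ X, ∀ a ∈ A, x * a * x⁻¹ ∈ A) → X ≤ normalizer (A : Set G) := by
    intro A hA x hx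
    rw [mem_normalizer_iff]
    intro a
    refine ⟨fun ha => hA x hx a ha, fun ha => ?_⟩
    have h3 := hA x⁻¹ (inv_mem hx) _ ha
    have e : x⁻¹ * (x * a * x⁻¹) * x⁻¹⁻¹ = a := by group
    rwa [e] at h3
  have hXW := norm_of hXW'
  have hWV : W ≤ centralizer (V : Set G) := hWc.trans (centralizer_le hVW)
  have hWQ : W ≤ Q := le_CS S hSV hW2 hWV (hCX.trans hXW)
  -- `N = C_X(W)`
  set N : Subgroup G := X ⊓ centralizer (W : Set G) with hN
  have hNV : N ≤ centralizer (V : Set G) := inf_le_right.trans (centralizer_le hVW)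
  have hXN' : ∀ x ∈ X, ∀ n ∈ N, x * n * x⁻¹ ∈ N := by
    rintro x hx n ⟨hn, hn'⟩
    refine ⟨X.mul_mem (X.mul_mem hx hn) (X.inv_mem hx), mem_centralizer_iff.2 fun w hw => ?_⟩
    have hw' := hXW' x⁻¹ (inv_mem hx) w hw
    rw [inv_inv] at hw'
    have h1 := congrArg (fun y => x * y * x⁻¹) (mem_centralizer_iff.1 hn' _ hw')
    simpa [mul_assoc] using h1
  have hXN := norm_of hXN'
  have ho : ∀ x ∈ X, ∀ a ∈ o2 X, x * a * x⁻¹ ∈ o2 X := fun x hx a ha =>
    (mem_normalizer_iff.1 (le_normalizer_o2 X hx) a).1 ha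
  have hXR : X ≤ normalizer ((N ⊓ o2 X : Subgroup G) : Set G) :=
    norm_of fun x hx a ha => ⟨hXN' x hx a ha.1, ho x hx a ha.2⟩
  have hR2 : IsPGroup 2 (N ⊓ o2 X : Subgroup G) := (o2_isPGroup X).to_le inf_le_right
  have hRQ : N ⊓ o2 X ≤ Q := le_CS S hSV hR2 (inf_le_left.trans hNV) (hCX.trans hXR)
  refine ⟨N ⊓ o2 X, inf_le_right, hRQ, hXR, fun u hu => ?_⟩
  obtain ⟨huQ, huc, -⟩ := mem_zc.1 hu
  have huN : u ∈ N := ⟨hCX huQ.2, mem_centralizer_iff.2 fun w hw => huc w (hWQ hw)⟩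
  refine ⟨huN, mem_o2_of_chain hX hR2 hXR huN.1 (fun g hg => ?_) fun r hr => huc r (hRQ hr)⟩
  refine ⟨N.mul_mem (hXN' g (o2_le X hg) u huN) (N.inv_mem huN), ?_⟩
  have e : g * u * g⁻¹ * u⁻¹ = g * (u * g⁻¹ * u⁻¹) := by group
  rw [e]
  exact mul_mem hg (ho u huN.1 _ (inv_mem hg))

/-- **`Ω₁(Z(C_S(V))) ≤ O₂(X)`.** -/
theorem zcQ_le (hX : X ⊓ centralizer (o2 X : Set G) ≤ o2 X) (hSV : (S : Subgroup G) ≤ normalizer (V : Set G))
    (hCX : centralizer (V : Set G) ≤ X) (sq : ∀ v ∈ V, v * v = 1)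
    (com : ∀ x ∈ X, ∀ v ∈ V, ∀ w ∈ V, v * (x * w * x⁻¹) = x * w * x⁻¹ * v) :
    zc ((S : Subgroup G) ⊓ centralizer (V : Set G)) ≤ o2 X := by
  obtain ⟨R, h1, -, -, h2⟩ := exists_R hX hSV hCX sq com
  exact h2.trans h1

/-- **The `X`-conjugates of `Ω₁(Z(C_S(V)))` commute**, and centralise `V`. -/
theorem zcQ_comm (hX : X ⊓ centralizer (o2 X : Set G) ≤ o2 X) (hSV : (S : Subgroup G) ≤ normalizer (V : Set G))
    (hCX : centralizer (V : Set G) ≤ X) (sq : ∀ v ∈ V, v * v = 1)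
    (com : ∀ x ∈ X, ∀ v ∈ V, ∀ w ∈ V, v * (x * w * x⁻¹) = x * w * x⁻¹ * v) {x : G} (hx : x ∈ X) {u u' : G}
    (hu : u ∈ zc ((S : Subgroup G) ⊓ centralizer (V : Set G)))
    (hu' : u' ∈ zc ((S : Subgroup G) ⊓ centralizer (V : Set G))) :
    u * (x * u' * x⁻¹) = x * u' * x⁻¹ * u := by
  obtain ⟨R, -, h3, h4, h2⟩ := exists_R hX hSV hCX sq com
  exact ((mem_zc.1 hu).2.1 _ (h3 ((mem_normalizer_iff.1 (h4 hx) u').1 (h2 hu')))).symm

end main

end Cfsg.Agent.Omega.NOThreeL.RLev.LowQ
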