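import Cfsg.Agent.Omega.NOThreeL.RLev.ExistsLev

/-!
# Box R of NO-3L: the level `(W^, V^)` moves `V*`

`W^` = the LARGEST weakly closed subgroup of `S` in `C_S(V*)`, `V^ = ⟨Z^{N(W^)}⟩`.

* `TopLev S K X` : `K = W^`, `V* ≤ X ≤ Ω₁(Z(K))`, with all fields; `HatLev S K X` : the same with `X = V^`;
* **`exists_hatLev`** : box R: `J(S)` moves `V*`, or `HatLev S K X` for some `(K, X)`;
* `prinW` : PRINCIPLE' of helper492 with `J(S) ≤ C(V*)` only (no condition on the offenders of `S` on `V^`);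
* `TopLev.levX` : `FourTree.LevX S K X`;
* `topLev_of` : `TopLev S W^ X` for every `X` between `V*` and `Ω₁(Z(W^))` with `N(W^) ≤ N(X)`, moved by `nxtX S X`.
-/

set_option autoImplicit false
set_option linter.unusedSectionVars false

namespace Cfsg.Agent.Omega.NOThreeL.RLev

open Subgroup Cfsg Cfsg.Agent.Omega.MinPar Cfsg.Agent.Omega.Frame Cfsg.Agent.Omega.FrameNOFF
open Cfsg.Agent.ZN (o2 zc zl jj)
open Cfsg.Agent.ZN.ChoiceBase hiding mem_zc
open Cfsg.Agent.Omega.Node.NO3L Cfsg.Agent.Omega.NOThreeL.Basic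
open Cfsg.Agent.Omega.NO3b.Bang
open Cfsg.Agent.Omega.NO3b.Wc (WC WH ML VL QL cj_sSup wc_WH WH_le WH_le_S le_WH mem_ML_of_le ML_le_norm_V)
open Cfsg.Agent.Omega.NOThreeL.Star (YS le_YS S_le_YS)
open Cfsg.Agent.Omega.NO3S.Level (Lev)
open Cfsg.Agent.Omega.NOThreeL.RTreeF (RBF)
open Cfsg.Agent.Omega.NOThreeL.RRed (Wd)
open Cfsg.Agent.Omega.NO3b.EndX (AbsP)
open Cfsg.Agent.Omega.ML.Final (MLK)
open Cfsg.Agent.MinSimple.VModule (zc_le le_normalizer_o2 le_normalizer_zl zc_le_zl zl_le o2_isPGroup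
  o2_le le_o2 zc_sq mem_zc normalizer_le_normalizer_zc)

universe u

variable {G : Type u} [Group G] [Finite G] {S : Sylow 2 G}

/-- `K = W^` the largest weakly closed subgroup of `S` in `C_S(V*)`, `V* ≤ X ≤ Ω₁(Z(K))` normalised by `N(K)`
(`X = V^ = ⟨Z^{N(K)}⟩` or `X = Ω₁(Z(K))`), `nxtX S X` moves `V*`. -/
structure TopLev (S : Sylow 2 G) (K X : Subgroup G) : Prop where
  toLev : Lev (S : Subgroup G) K
  wc : WC (S : Subgroup G) K
  /-- `K ≤ C(V*)` -/
  cent : K ≤ centralizer (zl (S : Subgroup G) (YS (S : Subgroup G)) : Set G)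
  /-- `K` is the largest one -/
  max : ∀ D : Subgroup G, WC (S : Subgroup G) D →
    D ≤ centralizer (zl (S : Subgroup G) (YS (S : Subgroup G)) : Set G) → D ≤ K
  eqK : K = WH (S : Subgroup G) (YS (S : Subgroup G))
  Xle : X ≤ zc K
  Xn : normalizer (K : Set G) ≤ normalizer (X : Set G)
  /-- `V* ≤ X` -/
  VX : zl (S : Subgroup G) (YS (S : Subgroup G)) ≤ X
  /-- `Y = ⟨P*(S)⟩ ≤ N(K)` -/
  YK : YS (S : Subgroup G) ≤ normalizer (K : Set G)
  wcn : WC (S : Subgroup G) (nxtX (S : Subgroup G) X)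
  mv : ¬ nxtX (S : Subgroup G) X ≤ centralizer (zl (S : Subgroup G) (YS (S : Subgroup G)) : Set G)

/-- `TopLev` with `X = V^ = ⟨Z^{N(K)}⟩` -/
structure HatLev (S : Sylow 2 G) (K X : Subgroup G) : Prop extends TopLev S K X where
  eqX : X = zl (S : Subgroup G) (normalizer (K : Set G))

theorem TopLev.levX {K X : Subgroup G} (h : TopLev S K X) : RRed.FourTree.LevX (S : Subgroup G) K X :=
  { toLev := h.toLev, Xle := h.Xle, Xn := h.Xn, VX := h.VX, MX := h.YK.trans h.Xn }

/-- **The level `(W^, V^)`.** -/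
theorem exists_hatLev (ml : MLK.{u, u}) (ha : AbsP.{u, u}) (h : RBF S) :
    ¬ jj (S : Subgroup G) ≤ centralizer (zl (S : Subgroup G) (YS (S : Subgroup G)) : Set G) ∨
    ∃ K X : Subgroup G, HatLev S K X := by
  by_cases hj : jj (S : Subgroup G) ≤ centralizer (zl (S : Subgroup G) (YS (S : Subgroup G)) : Set G)
  · right
    by_cases hn : nxtX (S : Subgroup G) (VL (S : Subgroup G) (YS (S : Subgroup G))) ≤
        centralizer (zl (S : Subgroup G) (YS (S : Subgroup G)) : Set G)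
    · exfalso
      have H := hat_of hj hn h
      have hSM : (S : Subgroup G) ≤ ML (S : Subgroup G) (YS (S : Subgroup G)) := H.root.le
      have hZ : zc (S : Subgroup G) ≠ ⊥ := MinSimple.Basic.zc_ne_bot S.isPGroup' (h.ctx.sylow_ne_bot S)
      refine NO3b.BasePt.false_of_nfRoot h.ctx ml ha
        (nfRoot_of (M := ML (S : Subgroup G) (YS (S : Subgroup G))) hSM (nn_V hj hn) hZ (H.low h.ex) ?_)
      intro U hU h2 h3
      exact eq_bot_of_norm h.ctx S h.full hU (fun P hP => (le_YS hP).trans (ys_le_M.trans h2)) h3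
    · exact ⟨WH (S : Subgroup G) (YS (S : Subgroup G)), VL (S : Subgroup G) (YS (S : Subgroup G)),
        { toLev := lev_W hj
          wc := wc_WH _ _
          cent := (WH_le _ _).trans inf_le_right
          max := fun D h1 h2 => le_WH h1 (le_inf h1.le h2)
          eqK := rfl
          eqX := rfl
          Xle := V_le_zcW hj
          Xn := le_normalizer_zl _ _
          VX := vs_le_V
          YK := ys_le_M
          wcn := nxt_wc hj
          mv := hn }⟩
  · exact Or.inl hj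

namespace TopLev

variable {K X : Subgroup G} (h : TopLev S K X)
include h

theorem le_S : K ≤ (S : Subgroup G) := h.wc.le

/-- `K ≤ C(X)` -/
theorem centX : K ≤ centralizer (X : Set G) :=
  cent_symm (h.Xle.trans fun _ hx => mem_centralizer_iff.2 fun y hy => (mem_zc.1 hx).2.1 y hy)

/-- A subgroup of `S` above `K` which is `N(K)`-closed in `S` is weakly closed. -/
theorem wc_of {D : Subgroup G} (hKD : K ≤ D) (hD : D ≤ (S : Subgroup G))
    (hc : ∀ g ∈ normalizer (K : Set G), cj g D ≤ (S : Subgroup G) → cj g D ≤ D) : WC (S : Subgroup G) D := by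
  refine ⟨hD, fun g hg => ?_⟩
  have h1 : cj g K = K := h.wc.eq g ((cj_mono g hKD).trans hg)
  exact Subgroup.eq_of_le_of_card_ge (hc g (by rw [mem_normalizer_iff_cj]; exact h1) hg) (card_cj _ _).ge

/-- **PRINCIPLE'**: an `N(K)`-invariant family of subgroups with a member in `S` moving `X`
has a member in `S` which moves some `V_P`, `P ∈ P*(S)`. -/
theorem prin (FF : Set (Subgroup G)) (hF : ∀ A ∈ FF, ∀ m ∈ normalizer (K : Set G), cj m A ∈ FF)
    (hex : ∃ A ∈ FF, A ≤ (S : Subgroup G) ∧ ¬ A ≤ centralizer (X : Set G)) :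
    ∃ B ∈ FF, B ≤ (S : Subgroup G) ∧ ∃ P, IsParS (S : Subgroup G) P ∧
      ¬ B ≤ centralizer (zl (S : Subgroup G) P : Set G) := by
  by_contra hcon
  push Not at hcon
  obtain ⟨A, hA, hAS, hAV⟩ := hex
  set D : Subgroup G := K ⊔ sSup {B | B ∈ FF ∧ B ≤ (S : Subgroup G)} with hK
  have hKS : D ≤ (S : Subgroup G) := sup_le h.le_S (sSup_le fun B hB => hB.2)
  have hKwc : WC (S : Subgroup G) D := by
    refine h.wc_of le_sup_left hKS fun g hg hgS => ?_
    have h3 := hgS
    change Subgroup.map _ _ ≤ _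
    rw [hK, Subgroup.map_sup]
    refine sup_le_sup (cj_eq_of_mem_normalizer hg).le ?_
    change cj g (sSup {B | B ∈ FF ∧ B ≤ (S : Subgroup G)}) ≤ _
    rw [cj_sSup]
    refine iSup_le fun B => ?_
    have h5 : cj g (B : Subgroup G) ≤ (S : Subgroup G) :=
      (cj_mono g ((le_sSup B.2).trans le_sup_right)).trans hgS
    exact le_sSup (a := cj g (B : Subgroup G)) ⟨hF _ B.2.1 g hg, h5⟩
  have hKP : ∀ P, IsParS (S : Subgroup G) P → D ≤ o2 P := by
    intro P hP
    refine (le_inf hKS (sup_le ?_ (sSup_le fun B hB => hcon B hB.1 hB.2 P hP))).trans (cs_le_o2 hP)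
    exact h.cent.trans (centralizer_le (Star.zl_mono _ (le_YS hP)))
  have hY : YS (S : Subgroup G) ≤ normalizer (D : Set G) := sSup_le fun P hP => par_le_of_wc hKwc hP (hKP P hP)
  have hKc : D ≤ centralizer (zl (S : Subgroup G) (YS (S : Subgroup G)) : Set G) := by
    apply cent_symm
    refine zl_le ?_ (hY.trans ?_)
    · intro z hz
      rw [mem_centralizer_iff]
      intro k hk
      exact (mem_zc.1 hz).2.1 k (hKS hk)
    · intro y hy
      rw [mem_normalizer_iff_cj, cj_centralizer, cj_eq_of_mem_normalizer hy]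
  have h6 : A ≤ D := (le_sSup (s := {B | B ∈ FF ∧ B ≤ (S : Subgroup G)}) ⟨hA, hAS⟩).trans le_sup_right
  exact hAV (h6.trans ((h.max D hKwc hKc).trans h.centX))

/-- the same for an `N(K)`-invariant family and `V*` -/
theorem prinS (FF : Set (Subgroup G)) (hF : ∀ A ∈ FF, ∀ m ∈ normalizer (K : Set G), cj m A ∈ FF)
    (hex : ∃ A ∈ FF, A ≤ (S : Subgroup G) ∧ ¬ A ≤ centralizer (X : Set G)) :
    ∃ B ∈ FF, B ≤ (S : Subgroup G) ∧
      ¬ B ≤ centralizer (zl (S : Subgroup G) (YS (S : Subgroup G)) : Set G) := by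
  obtain ⟨B, h1, h2, P, hP, h3⟩ := h.prin FF hF hex
  exact ⟨B, h1, h2, fun h4 => h3 (h4.trans (centralizer_le (Star.zl_mono _ (le_YS hP))))⟩

end TopLev

/-- `⟨best offenders of S on X⟩ C_S(X)` is weakly closed (`K` w.c., `K ≤ C(X)`, `N(K) ≤ N(X)`). -/
theorem nxtX_wc {K X : Subgroup G} (hK : WC (S : Subgroup G) K) (hX : X ≤ zc K)
    (Xn : normalizer (K : Set G) ≤ normalizer (X : Set G)) : WC (S : Subgroup G) (nxtX (S : Subgroup G) X) := by
  refine ⟨nxtX_le _ _, fun g hg => ?_⟩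
  have hc : K ≤ centralizer (X : Set G) :=
    cent_symm (hX.trans fun _ hx => mem_centralizer_iff.2 fun y hy => (mem_zc.1 hx).2.1 y hy)
  have h1 : K ≤ nxtX (S : Subgroup G) X := (le_inf hK.le hc).trans (inf_cent_le _ _)
  have h2 : cj g K = K := hK.eq g ((cj_mono g h1).trans hg)
  have hgV : g ∈ normalizer (X : Set G) := Xn (by rw [mem_normalizer_iff_cj]; exact h2)
  have h4 : cj g (nxtX (S : Subgroup G) X) ≤ nxtX (S : Subgroup G) X := by
    have hg' := hg
    rw [nxtX] at hg' ⊢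
    change Subgroup.map _ _ ≤ _
    rw [Subgroup.map_sup]
    refine sup_le ((le_inf ?_ ?_).trans le_sup_left) (le_trans ?_ le_sup_right)
    · exact (cj_mono g le_sup_left).trans hg'
    · refine (cj_mono g inf_le_right).trans ?_
      rw [cj_centralizer, cj_eq_of_mem_normalizer hgV]
    · change cj g (sSup {A | A ≤ (S : Subgroup G) ∧ NO1.BestOff.Best X A}) ≤ _
      rw [cj_sSup]
      refine iSup_le fun B => ?_
      exact le_sSup (a := cj g (B : Subgroup G))
        ⟨(cj_mono g ((le_sSup B.2).trans le_sup_right)).trans hg', B.2.2.conj hgV⟩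
  exact Subgroup.eq_of_le_of_card_ge h4 (card_cj _ _).ge

/-- `TopLev S W^ X` -/
theorem topLev_of (hj : jj (S : Subgroup G) ≤ centralizer (zl (S : Subgroup G) (YS (S : Subgroup G)) : Set G))
    {X : Subgroup G} (VX : zl (S : Subgroup G) (YS (S : Subgroup G)) ≤ X)
    (hX : X ≤ zc (WH (S : Subgroup G) (YS (S : Subgroup G))))
    (Xn : normalizer (WH (S : Subgroup G) (YS (S : Subgroup G)) : Set G) ≤ normalizer (X : Set G))
    (hn : ¬ nxtX (S : Subgroup G) X ≤ centralizer (zl (S : Subgroup G) (YS (S : Subgroup G)) : Set G)) :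
    TopLev S (WH (S : Subgroup G) (YS (S : Subgroup G))) X where
  toLev := lev_W hj
  wc := wc_WH _ _
  cent := (WH_le _ _).trans inf_le_right
  max := fun _ h1 h2 => le_WH h1 (le_inf h1.le h2)
  eqK := rfl
  Xle := hX
  Xn := Xn
  VX := VX
  YK := ys_le_M
  wcn := nxtX_wc (wc_WH _ _) hX Xn
  mv := hn

end Cfsg.Agent.Omega.NOThreeL.RLev
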