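import Cfsg.Agent.Omega.NOThreeL.RLev.SeedHat
import Cfsg.Agent.Omega.NOThreeL.RLev.ExistsHat

/-!
# Box R of NO-3L: the level `(W^, Ω₁(Z(W^)))` (helper678, #27071; literals of helper2 / helper319)

* `notFF_of_nxt` : `S ≤ N_G(X)`, no best offender of `S` moves `X`: `X` is not FF;
* `hatW_WH` : `HatW S W^`, `W^ = WH S (YS S)`;
* **`seedX_of_low`** : `Ω₁(Z(W^)) ≤ O₂(C_G(Z))`: `nxtX S (Ω₁(Z(W^)))` moves `V*`;
* `topLev_zc` : `TopLev S W^ (Ω₁(Z(W^)))`.
-/

set_option autoImplicit false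
set_option linter.unusedSectionVars false

namespace Cfsg.Agent.Omega.NOThreeL.RLev.SeedHat

open Subgroup Cfsg Cfsg.Agent.Omega.MinPar Cfsg.Agent.Omega.Frame Cfsg.Agent.Omega.FrameNOFF
open Cfsg.Agent.ZN (o2 zc zl jj)
open Cfsg.Agent.ZN.ChoiceBase hiding mem_zc
open Cfsg.Agent.Omega.Node.NO3L Cfsg.Agent.Omega.NOThreeL.Basic
open Cfsg.Agent.Omega.NO3b
open Cfsg.Agent.Omega.NO3b.EZero (NotFF)
open Cfsg.Agent.Omega.NO3b.Wc (WC WH wc_WH WH_le WH_le_S le_WH)
open Cfsg.Agent.Omega.NO3b.EndX (AbsP)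
open Cfsg.Agent.Omega.FFThm (OffM relIndex_le_iff)
open Cfsg.Agent.Omega.NO1.BestOff (Best exists_best)
open Cfsg.Agent.Omega.NOThreeL.Star (YS le_YS S_le_YS)
open Cfsg.Agent.Omega.NOThreeL.RTreeF (RBF)
open Cfsg.Agent.Omega.ML.Final (MLK)
open Cfsg.Agent.MinSimple.VModule (normalizer_le_normalizer_zc)

universe u

variable {G : Type u} [Group G] [Finite G] {S : Sylow 2 G}

/-- No offender `A ≤ S` on `X`, `S ≤ N_G(X)`: `X` is not FF, in the sense of `EZero.NotFF`. -/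
theorem notFF_of_off {X : Subgroup G} (hS : (S : Subgroup G) ≤ normalizer (X : Set G))
    (h : ∀ A ≤ (S : Subgroup G), ¬ OffM X A) : NotFF X := by
  intro A hA hN hsq hcm hne
  by_contra hcon
  rw [not_lt, ← relIndex_le_iff] at hcon
  obtain ⟨n, hn, hnA⟩ := Union.exists_conj_le hS hA hN
  have hV := cj_eq_of_mem_normalizer hn
  have hV' := cj_eq_of_mem_normalizer (inv_mem hn)
  apply h (cj n A) hnA
  refine ⟨⟨?_, ?_⟩, ?_, ?_⟩
  · intro a ha
    have h1 := hsq _ (mem_cj.1 ha)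
    have e : (n⁻¹ * a * n) ^ 2 = n⁻¹ * a ^ 2 * n := by rw [pow_two, pow_two]; group
    rw [e] at h1
    have h2 := mem_cj.2 h1
    rwa [cj_centralizer, hV] at h2
  · intro a ha b hb
    have h1 := hcm _ (mem_cj.1 ha) _ (mem_cj.1 hb)
    have e : n⁻¹ * a * n * (n⁻¹ * b * n) * (n⁻¹ * a * n)⁻¹ * (n⁻¹ * b * n)⁻¹ =
        n⁻¹ * (a * b * a⁻¹ * b⁻¹) * n := by group
    rw [e] at h1
    have h2 := mem_cj.2 h1
    rwa [cj_centralizer, hV] at h2
  · intro h1
    apply hne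
    rw [cj_le_iff, cj_centralizer, hV'] at h1
    exact h1
  · rw [relIndex_le_iff] at hcon ⊢
    rw [← EZero.relIndex_cj n, ← EZero.relIndex_cj n (centralizer _) A, cj_centralizer, cj_centralizer, hV] at hcon
    exact hcon

/-- If the best offenders of `S` on `X` centralise `X`, then `X` is not FF. -/
theorem notFF_of_nxt {X : Subgroup G} (hS : (S : Subgroup G) ≤ normalizer (X : Set G))
    (h : nxtX (S : Subgroup G) X ≤ centralizer (X : Set G)) : NotFF X := by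
  refine notFF_of_off hS fun A hA hoff => ?_
  obtain ⟨D, hDA, hD, hne⟩ := exists_best hoff
  exact hne ((best_le (hDA.trans hA) hD).trans h)

/-- `W^ = WH S (YS S)` -/
theorem hatW_WH (hj : jj (S : Subgroup G) ≤ centralizer (zl (S : Subgroup G) (YS (S : Subgroup G)) : Set G)) :
    HatW (S : Subgroup G) (WH (S : Subgroup G) (YS (S : Subgroup G))) where
  wc := wc_WH _ _
  cent := (WH_le _ _).trans inf_le_right
  max := fun _ h1 h2 => le_WH h1 (le_inf h1.le h2)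
  jc := hj

/-- **`nxtX S (Ω₁(Z(W^)))` moves `V*`**, if `Ω₁(Z(W^)) ≤ O₂(C_G(Z))`. -/
theorem seedX_of_low (ml : MLK.{u, u}) (ha : AbsP.{u, u}) (h : RBF S)
    (hj : jj (S : Subgroup G) ≤ centralizer (zl (S : Subgroup G) (YS (S : Subgroup G)) : Set G))
    (low : zc (WH (S : Subgroup G) (YS (S : Subgroup G))) ≤ o2 (CZ (S : Subgroup G))) :
    ¬ nxtX (S : Subgroup G) (zc (WH (S : Subgroup G) (YS (S : Subgroup G)))) ≤
      centralizer (zl (S : Subgroup G) (YS (S : Subgroup G)) : Set G) := by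
  intro hn
  have H := hatW_WH hj
  have h1 := H.max _ (nxtX_wc H.wc le_rfl (normalizer_le_normalizer_zc _)) hn
  exact H.false_of_low h.ctx h.full ml ha (notFF_of_nxt (H.S_le.trans (normalizer_le_normalizer_zc _))
    (h1.trans (MinSimple.VModule.le_centralizer_zc _))) low

/-- **The level `(W^, Ω₁(Z(W^)))`.** -/
theorem topLev_zc (ml : MLK.{u, u}) (ha : AbsP.{u, u}) (h : RBF S)
    (hj : jj (S : Subgroup G) ≤ centralizer (zl (S : Subgroup G) (YS (S : Subgroup G)) : Set G))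
    (low : zc (WH (S : Subgroup G) (YS (S : Subgroup G))) ≤ o2 (CZ (S : Subgroup G))) :
    TopLev S (WH (S : Subgroup G) (YS (S : Subgroup G))) (zc (WH (S : Subgroup G) (YS (S : Subgroup G)))) :=
  topLev_of hj (hatW_WH hj).V_le le_rfl (normalizer_le_normalizer_zc _) (seedX_of_low ml ha h hj low)

end Cfsg.Agent.Omega.NOThreeL.RLev.SeedHat
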