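import Cfsg.Agent.Omega.NOThreeL.RLev.TopEnd
import Cfsg.Agent.Omega.NOThreeL.RLev.SeedXOf
import Cfsg.Agent.Omega.NOThreeL.RLev.LowQ
import Cfsg.Agent.Omega.NOThreeL.RRed.UInstA

/-!
# Box R of NO-3L: `SeedQ S` (helper678 #27071, helper2 #27139)

* `zcQ_low` : `V* ≤ WP S` gives `Ω₁(Z(C_S(V*))) ≤ O₂(C_G(Z))`;
* **`seedQ`** : `V* ≤ WP S` gives `SeedQ S`;  `seedQ_src` : over natural blocks.
-/

set_option autoImplicit false
set_option linter.unusedSectionVars false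

namespace Cfsg.Agent.Omega.NOThreeL.RLev

open Subgroup Cfsg Cfsg.Agent.Omega.MinPar Cfsg.Agent.Omega.Frame Cfsg.Agent.Omega.FrameNOFF
open Cfsg.Agent.ZN (o2 zc zl jj)
open Cfsg.Agent.Omega.Node.NO3L Cfsg.Agent.Omega.NOThreeL.Basic
open Cfsg.Agent.Omega.NO3b.Wc (WH)
open Cfsg.Agent.Omega.NOThreeL.Star (YS)
open Cfsg.Agent.Omega.NOThreeL.RTreeF (RBF)
open Cfsg.Agent.Omega.NOThreeL.Merge (MZ)
open Cfsg.Agent.Omega.NOThreeL.RRed (Wd wsq)
open Cfsg.Agent.Omega.NOThreeL.RTree (RB)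
open Cfsg.Agent.Omega.NOThreeL.RRed.WideTree (NBs Src)
open Cfsg.Agent.Omega.NO3b.EndX (AbsP)
open Cfsg.Agent.Omega.ML.Final (MLK)
open scoped Pointwise

universe u

variable {G : Type u} [Group G] [Finite G] {S : Sylow 2 G}

/-- `V* ≤ WP S` : the `C_G(Z)`-conjugates of `V*` commute. -/
theorem wd_com (B : RB S) (hwp : Wd (S : Subgroup G) ≤ WP (S : Subgroup G)) :
    ∀ x ∈ CZ (S : Subgroup G), ∀ v ∈ Wd (S : Subgroup G), ∀ w ∈ Wd (S : Subgroup G),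
      v * (x * w * x⁻¹) = x * w * x⁻¹ * v := by
  intro x hx v hv w hw
  refine RRed.UInst.WP_comm B v (hwp hv) _ ?_
  rw [← conj_WP hx]
  exact ⟨w, hwp hw, rfl⟩

/-- **`Ω₁(Z(C_S(V*))) ≤ O₂(C_G(Z))`** -/
theorem zcQ_low (B : RB S) (hwp : Wd (S : Subgroup G) ≤ WP (S : Subgroup G)) :
    zc ((S : Subgroup G) ⊓ centralizer (Wd (S : Subgroup G) : Set G)) ≤ o2 (CZ (S : Subgroup G)) :=
  LowQ.zcQ_le ((isLoc_centralizer_zc S (B.ctx.sylow_ne_bot S)).char2 S B.ctx.char2)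
    ((Merge.S_le_MZ B.ctx B.full).trans (RRed.le_norm_Wd))
    (centralizer_le (RRed.zc_le_Wd _)) (fun v hv => wsq B v hv) (wd_com B hwp)

/-- **`SeedQ S`** -/
theorem seedQ (ml : MLK.{u, u}) (ha : AbsP.{u, u}) (h : RBF S)
    (hj : jj (S : Subgroup G) ≤ centralizer (Wd (S : Subgroup G) : Set G))
    (hwp : Wd (S : Subgroup G) ≤ WP (S : Subgroup G)) : SeedQ S := by
  intro hW
  have h1 := zcQ_low h.toRB hwp
  have h2 := SeedHat.seedX_of_low ml ha h hj (by rw [hW]; exact h1)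
  rw [hW] at h2
  exact h2

/-- over natural blocks -/
theorem wd_le_wp {ι : Type u} {N E D l : ι → Subgroup G} {q : ι → ℕ}
    (h : NBs (S : Subgroup G) N E D l q) (hs : Src (S : Subgroup G) N l q) :
    Wd (S : Subgroup G) ≤ WP (S : Subgroup G) := by
  have h1 := h.dec.sup
  rw [sup_bot_eq] at h1
  rw [← h1]
  exact iSup_le fun b => RRed.UInst.N_le_WP hs b

/-- **`SeedQ S`** over natural blocks -/
theorem seedQ_src (ml : MLK.{u, u}) (ha : AbsP.{u, u}) (h : RBF S)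
    (hj : jj (S : Subgroup G) ≤ centralizer (Wd (S : Subgroup G) : Set G))
    {ι : Type u} {N E D l : ι → Subgroup G} {q : ι → ℕ}
    (hb : NBs (S : Subgroup G) N E D l q) (hs : Src (S : Subgroup G) N l q) : SeedQ S :=
  seedQ ml ha h hj (wd_le_wp hb hs)

end Cfsg.Agent.Omega.NOThreeL.RLev
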