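import Cfsg.Agent.Omega.NOThreeL.RLev.NoOverHat
import Cfsg.Agent.Omega.NOThreeL.RLev.ExistsHat

/-!
# No over-offender at the top level (helper443)

* `TopLev.noOver`, `TopLev.noOver_of`, `TopLev.noOver_S` : no over-offender on `X` if `TopLev S K X`;
* `noOver_YS` : no over-offender on `V*` in `⟨P*(S)⟩`.
-/

set_option autoImplicit false
set_option linter.unusedSectionVars false

namespace Cfsg.Agent.Omega.NOThreeL.RLev

open Subgroup Cfsg
open Cfsg.Agent.ZN (o2 zc zl jj)
open Cfsg.Agent.Omega.MinPar Cfsg.Agent.Omega.Frame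
open Cfsg.Agent.Omega.FFThm (ElemM OffM NoOverM)
open Cfsg.Agent.Omega.NOThreeL.VF (fM)
open Cfsg.Agent.Omega.NOThreeL.Star (YS le_YS)

universe u

variable {G : Type u} [Group G] [Finite G] {S : Sylow 2 G} {K X : Subgroup G}

theorem TopLev.noOver_of (h : TopLev S K X) (hc : IsCharacteristicTwoType G) {M : Subgroup G}
    (SM : (S : Subgroup G) ≤ M) (hM : M ≤ normalizer (X : Set G)) : NoOverM X M :=
  NoOverHat.noOver_hat' hc h.wc h.max h.Xn h.VX h.centX SM hM

/-- **No over-offender at the top level.** -/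
theorem TopLev.noOver (h : TopLev S K X) (hc : IsCharacteristicTwoType G) :
    NoOverM X (normalizer (K : Set G)) :=
  h.noOver_of hc h.toLev.S_norm h.Xn

theorem TopLev.noOver_S (h : TopLev S K X) (hc : IsCharacteristicTwoType G) : NoOverM X (S : Subgroup G) :=
  h.noOver_of hc le_rfl (h.toLev.S_norm.trans h.Xn)

theorem TopLev.fM_le (h : TopLev S K X) (hc : IsCharacteristicTwoType G) {A : Subgroup G}
    (hA : A ≤ (S : Subgroup G)) (hE : ElemM X A) : fM X A ≤ Nat.card X :=
  NoOverHat.fM_le_S hc h.wc h.max h.Xn h.VX h.centX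
    (fun _ hP _ hA hE => NoOverHat.no_par StarEnd.stmtM hc hP hA hE) hA hE

/-- **No over-offender on `V*`.** -/
theorem noOver_YS (hc : IsCharacteristicTwoType G) (hM : IsLoc (S : Subgroup G) (YS (S : Subgroup G))) :
    NoOverM (zl (S : Subgroup G) (YS (S : Subgroup G))) (YS (S : Subgroup G)) := by
  by_cases hoff : ∃ A ≤ YS (S : Subgroup G), OffM (zl (S : Subgroup G) (YS (S : Subgroup G))) A
  · exact (VF.one StarEnd.stmtM hc S hM (sSup_le fun P hP => le_sSup ⟨hP, le_YS hP⟩) hoff).1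
  · intro A hA hE
    by_contra hcon
    refine hoff ⟨A, hA, hE, fun h => hcon ?_, (not_le.1 hcon).le⟩
    rw [inf_eq_left.2 h, inf_eq_left.2 (le_centralizer_iff.1 h), mul_comm]

end Cfsg.Agent.Omega.NOThreeL.RLev
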