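import Cfsg.Agent.Omega.NOThreeL.RLev.ExistsHat

/-!
# Box R of NO-3L, `J(S) ≤ C(V*)`: the top level is `(Q, V*)`, `Q = C_S(V*)` (helper816 #27248, helper553 #27445,
helper678 #27071)

* `Top S` : `Q` is weakly closed in `S`, `Ω₁(Z(Q)) = V*`, `N_G(T) ≤ N_G(Q) ≤ N_G(V*)` (`Q ≤ T ≤ S`), `LevX S Q V*`;
* `VX S` : every `TopLev S K X` has `X = V*`, `K = Q`; `SeedQ S` : if `W^ = Q` then the best offenders of `S` on
  `Ω₁(Z(Q))` move `V*`;
* **`top_of`** : box R, `J(S) ≤ C(V*)`, `VX S`, `SeedQ S` ⟹ `Top S`.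
-/

set_option autoImplicit false
set_option linter.unusedSectionVars false

namespace Cfsg.Agent.Omega.NOThreeL.RLev

open Subgroup Cfsg Cfsg.Agent.Omega.MinPar Cfsg.Agent.Omega.Frame Cfsg.Agent.Omega.FrameNOFF
open Cfsg.Agent.ZN (o2 zc zl jj)
open Cfsg.Agent.ZN.ChoiceBase hiding mem_zc
open Cfsg.Agent.Omega.Node.NO3L Cfsg.Agent.Omega.NOThreeL.Basic
open Cfsg.Agent.Omega.NO3b.Bang
open Cfsg.Agent.Omega.NO3b.Wc (WC WH WH_le WH_le_S)
open Cfsg.Agent.Omega.NOThreeL.Star (YS le_YS S_le_YS)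
open Cfsg.Agent.Omega.NO3S.Level (Lev)
open Cfsg.Agent.Omega.NOThreeL.RTreeF (RBF)
open Cfsg.Agent.Omega.NOThreeL.Merge (MZ)
open Cfsg.Agent.Omega.NOThreeL.RRed (Wd)
open Cfsg.Agent.Omega.NO3b.EndX (AbsP)
open Cfsg.Agent.Omega.ML.Final (MLK)
open Cfsg.Agent.MinSimple.VModule (zc_le le_normalizer_zl zl_le mem_zc normalizer_le_normalizer_zc)

universe u

variable {G : Type u} [Group G] [Finite G] {S : Sylow 2 G}

/-- **The top level is `(Q, V*)`.** -/
structure Top (S : Sylow 2 G) : Prop where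
  /-- `J(S) ≤ C(V*)` -/
  hj : jj (S : Subgroup G) ≤ centralizer (Wd (S : Subgroup G) : Set G)
  /-- `Q` is weakly closed in `S` -/
  wc : WC (S : Subgroup G) ((S : Subgroup G) ⊓ centralizer (Wd (S : Subgroup G) : Set G))
  /-- `Ω₁(Z(Q)) = V*` -/
  zcQ : zc ((S : Subgroup G) ⊓ centralizer (Wd (S : Subgroup G) : Set G)) = Wd (S : Subgroup G)
  /-- `N_G(Q) ≤ N_G(V*)` -/
  norm : normalizer (((S : Subgroup G) ⊓ centralizer (Wd (S : Subgroup G) : Set G) : Subgroup G) : Set G) ≤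
    normalizer (Wd (S : Subgroup G) : Set G)
  /-- `M₀ = MZ S ≤ N_G(Q)` -/
  YQ : MZ (S : Subgroup G) ≤
    normalizer (((S : Subgroup G) ⊓ centralizer (Wd (S : Subgroup G) : Set G) : Subgroup G) : Set G)
  levX : RRed.FourTree.LevX (S : Subgroup G) ((S : Subgroup G) ⊓ centralizer (Wd (S : Subgroup G) : Set G))
    (Wd (S : Subgroup G))
  wcn : WC (S : Subgroup G) (nxtX (S : Subgroup G) (Wd (S : Subgroup G)))
  mv : ¬ nxtX (S : Subgroup G) (Wd (S : Subgroup G)) ≤ centralizer (Wd (S : Subgroup G) : Set G)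

namespace Top

variable (h : Top S)
include h

theorem lev : Lev (S : Subgroup G) ((S : Subgroup G) ⊓ centralizer (Wd (S : Subgroup G) : Set G)) := h.levX.toLev

/-- `N_G(T) ≤ N_G(Q)` for `Q ≤ T ≤ S` -/
theorem norm_T {T : Subgroup G} (h1 : (S : Subgroup G) ⊓ centralizer (Wd (S : Subgroup G) : Set G) ≤ T)
    (h2 : T ≤ (S : Subgroup G)) : normalizer (T : Set G) ≤
      normalizer (((S : Subgroup G) ⊓ centralizer (Wd (S : Subgroup G) : Set G) : Subgroup G) : Set G) := by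
  intro g hg
  rw [mem_normalizer_iff_cj]
  refine h.wc.eq g (((cj_mono g h1).trans (cj_eq_of_mem_normalizer hg).le).trans h2)

/-- `N_G(T) ≤ N_G(V*)` for `Q ≤ T ≤ S` -/
theorem norm_T' {T : Subgroup G} (h1 : (S : Subgroup G) ⊓ centralizer (Wd (S : Subgroup G) : Set G) ≤ T)
    (h2 : T ≤ (S : Subgroup G)) : normalizer (T : Set G) ≤ normalizer (Wd (S : Subgroup G) : Set G) :=
  (h.norm_T h1 h2).trans h.norm

/-- `Q^g ≤ S` implies `g ∈ N_G(V*)`. -/
theorem mem_norm {g : G}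
    (hg : cj g ((S : Subgroup G) ⊓ centralizer (Wd (S : Subgroup G) : Set G)) ≤ (S : Subgroup G)) :
    g ∈ normalizer (Wd (S : Subgroup G) : Set G) :=
  h.norm (by rw [mem_normalizer_iff_cj]; exact h.wc.eq g hg)

/-- `F ≥ S` with `Q ≤ O₂(F)` normalises `V*`. -/
theorem norm_of_le {F : Subgroup G}
    (hQ : (S : Subgroup G) ⊓ centralizer (Wd (S : Subgroup G) : Set G) ≤ o2 F) (hF : o2 F ≤ (S : Subgroup G)) :
    F ≤ normalizer (Wd (S : Subgroup G) : Set G) :=
  (MinSimple.VModule.le_normalizer_o2 F).trans (h.norm_T' hQ hF)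

end Top

/-- every `TopLev S K X` is `(Q, V*)` (helper553, 816, 540) -/
def VX (S : Sylow 2 G) : Prop := ∀ K X : Subgroup G, TopLev S K X →
  X = zl (S : Subgroup G) (YS (S : Subgroup G)) ∧
    K = (S : Subgroup G) ⊓ centralizer (zl (S : Subgroup G) (YS (S : Subgroup G)) : Set G)

/-- if `W^ = Q` then the best offenders of `S` on `Ω₁(Z(Q))` move `V*` (helper2, helper678) -/
def SeedQ (S : Sylow 2 G) : Prop :=
  WH (S : Subgroup G) (YS (S : Subgroup G)) =
    (S : Subgroup G) ⊓ centralizer (zl (S : Subgroup G) (YS (S : Subgroup G)) : Set G) →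
  ¬ nxtX (S : Subgroup G)
      (zc ((S : Subgroup G) ⊓ centralizer (zl (S : Subgroup G) (YS (S : Subgroup G)) : Set G))) ≤
    centralizer (zl (S : Subgroup G) (YS (S : Subgroup G)) : Set G)

/-- **The top level is `(Q, V*)`.** -/
theorem top_of (ml : MLK.{u, u}) (ha : AbsP.{u, u}) (h : RBF S)
    (hj : jj (S : Subgroup G) ≤ centralizer (Wd (S : Subgroup G) : Set G)) (vx : VX S) (sd : SeedQ S) : Top S := by
  have hj' : jj (S : Subgroup G) ≤ centralizer (zl (S : Subgroup G) (YS (S : Subgroup G)) : Set G) := hj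
  rcases exists_hatLev ml ha h with h1 | ⟨K, X, H⟩
  · exact absurd hj' h1
  obtain ⟨hX, hK⟩ := vx K X H.toTopLev
  have hW : WH (S : Subgroup G) (YS (S : Subgroup G)) =
      (S : Subgroup G) ⊓ centralizer (zl (S : Subgroup G) (YS (S : Subgroup G)) : Set G) := H.eqK.symm.trans hK
  have hn := sd hW
  rw [← hW] at hn
  have hVz : zl (S : Subgroup G) (YS (S : Subgroup G)) ≤ zc (WH (S : Subgroup G) (YS (S : Subgroup G))) := by
    rw [← H.eqK, ← hX]
    exact H.Xle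
  have T := topLev_of hj' hVz le_rfl (normalizer_le_normalizer_zc _) hn
  have hz := (vx _ _ T).1
  rw [hX] at H
  rw [hK] at H
  exact
    { hj := hj
      wc := H.wc
      zcQ := by
        rw [hW] at hz
        exact hz
      norm := H.Xn
      YQ := H.YK
      levX := H.levX
      wcn := H.wcn
      mv := H.mv }

end Cfsg.Agent.Omega.NOThreeL.RLev
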