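import Cfsg.Agent.Omega.NOThreeL.RLev.VXmod
import Cfsg.Agent.Omega.NOThreeL.RWide.PIn

/-!
# Box R, t = 1: the level `(Q, V*)` (#27445 (2), (3)), `A` a root group on one block

* **`Q_cent_root`** : `VXmod.Q_cent`, `A` acts on the block `N₁` as the full root group with line `l` and centralises the
  complement `Co` of `N₁` in `V`.
-/

set_option autoImplicit false
set_option linter.unusedSectionVars false

namespace Cfsg.Agent.Omega.NOThreeL.RLev.VXmod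

open Subgroup Cfsg Cfsg.Agent.ZN Cfsg.Agent.ZN.ChoiceBase
open Cfsg.Agent.Omega.FFThm (ElemM NoOverM)
open Cfsg.Agent.Omega.NOThreeL.RWide (RootOn)

universe u

variable {G : Type u} [Group G]

section root

variable {X V N₁ Co l A : Subgroup G} (Xab : ∀ x ∈ X, ∀ y ∈ X, x * y = y * x) (VX : V ≤ X)
  (hV : V ≤ N₁ ⊔ Co) (NV : N₁ ≤ V) (CV : Co ≤ V) (hr : RootOn A N₁ l) (lN : l ≤ N₁)
  (hC : A ≤ centralizer (Co : Set G))
include Xab VX hV NV CV hr lN hC

/-- `[a, n c] = [a, n]` -/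
theorem exists_split {v : G} (hv : v ∈ V) : ∃ n ∈ N₁, ∃ c ∈ Co, v = n * c ∧
    ∀ a ∈ A, a * v * a⁻¹ * v⁻¹ = a * n * a⁻¹ * n⁻¹ := by
  have h1 : N₁ ≤ centralizer (Co : Set G) := by
    intro n hn
    rw [mem_centralizer_iff]
    intro c hc
    exact Xab c (VX (CV hc)) n (VX (NV hn))
  have h2 : v ∈ N₁ ⊔ Co := hV hv
  have h3 : N₁ ≤ normalizer (Co : Set G) := by
    intro n hn
    rw [mem_normalizer_iff]
    intro c
    have h4 : ∀ m ∈ N₁, ∀ d ∈ Co, m * d * m⁻¹ = d := fun m hm d hd => by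
      rw [← mem_centralizer_iff.1 (h1 hm) d hd, mul_inv_cancel_right]
    constructor
    · intro hc
      rw [h4 n hn c hc]; exact hc
    · intro hc
      have h5 := h4 n⁻¹ (inv_mem hn) _ hc
      have h6 : n⁻¹ * (n * c * n⁻¹) * n⁻¹⁻¹ = c := by group
      rw [h6] at h5
      rw [h5]; exact hc
  rw [← SetLike.mem_coe, Subgroup.coe_mul_of_left_le_normalizer_right N₁ Co h3] at h2
  obtain ⟨n, hn, c, hc, rfl⟩ := h2
  refine ⟨n, hn, c, hc, rfl, fun a ha => ?_⟩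
  have h7 : c * a = a * c := mem_centralizer_iff.1 (hC ha) c hc
  have h8 : a * (n * c) * a⁻¹ * (n * c)⁻¹ = a * n * (c * a⁻¹ * c⁻¹) * n⁻¹ := by group
  have h9 : c * a⁻¹ * c⁻¹ = a⁻¹ := by
    have : c * a⁻¹ * c⁻¹ = (c * a * c⁻¹)⁻¹ := by group
    rw [this, h7, mul_inv_cancel_right]
  exact h8.trans (by rw [h9])

theorem comm_mem (XA : X ≤ V ⊔ (X ⊓ centralizer (A : Set G))) : ∀ a ∈ A, ∀ x ∈ X, a * x * a⁻¹ * x⁻¹ ∈ l := by
  intro a ha x hx
  have h3 : V ≤ normalizer ((X ⊓ centralizer (A : Set G) : Subgroup G) : Set G) := by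
    intro v hv
    have h4 : ∀ m ∈ V, ∀ d ∈ X, m * d * m⁻¹ = d := fun m hm d hd => by
      rw [Xab m (VX hm) d hd, mul_inv_cancel_right]
    rw [mem_normalizer_iff]
    intro c
    constructor
    · intro hc
      rw [h4 v hv c hc.1]; exact hc
    · intro hc
      have h5 := h4 v⁻¹ (inv_mem hv) _ hc.1
      have h6 : v⁻¹ * (v * c * v⁻¹) * v⁻¹⁻¹ = c := by group
      rw [h6] at h5
      rw [h5]; exact hc
  have h2 := XA hx
  rw [← SetLike.mem_coe, Subgroup.coe_mul_of_left_le_normalizer_right _ _ h3] at h2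
  obtain ⟨v, hv, y, hy, rfl⟩ := h2
  obtain ⟨n, hn, c, hc, hvn, hcomm⟩ := exists_split Xab VX hV NV CV hr lN hC hv
  have h7 : a * y = y * a := mem_centralizer_iff.1 hy.2 a ha
  have h8 : a * (v * y) * a⁻¹ * (v * y)⁻¹ = a * v * (y * a⁻¹ * y⁻¹) * v⁻¹ := by group
  have h9 : y * a⁻¹ * y⁻¹ = a⁻¹ := by
    have : y * a⁻¹ * y⁻¹ = (y * a * y⁻¹)⁻¹ := by group
    rw [this, ← h7, mul_inv_cancel_right]
  have h10 : a * (v * y) * a⁻¹ * (v * y)⁻¹ = a * n * a⁻¹ * n⁻¹ := by rw [h8, h9]; exact hcomm a ha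
  change a * (v * y) * a⁻¹ * (v * y)⁻¹ ∈ l
  rw [h10]
  exact hr.comm a ha n hn

theorem card_lt [Finite G] {W : Subgroup G} (hW : W ≤ V) (hA : A ≤ normalizer (W : Set G))
    (hne : ¬ A ≤ centralizer (W : Set G)) : Nat.card l < Nat.card W := by
  obtain ⟨a, ha, haW⟩ := SetLike.not_le_iff_exists.1 hne
  rw [mem_centralizer_iff] at haW
  push Not at haW
  obtain ⟨w, hw, hwa⟩ := haW
  have hw' : w ∈ W := hw
  obtain ⟨n, hn, c, hc, hvn, hcomm⟩ := exists_split Xab VX hV NV CV hr lN hC (hW hw')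
  have key : ∀ z ∈ l, ∀ b ∈ A, b * z = z * b := fun z hz b hb => hr.fixZ b hb z hz
  have hnl : n ∉ l := by
    intro hnl
    apply hwa
    have h1 := hcomm a ha
    rw [key n hnl a ha, mul_inv_cancel_right, mul_inv_cancel, mul_inv_eq_one, mul_inv_eq_iff_eq_mul] at h1
    exact h1.symm
  have hwl : w ∉ l := fun hwl => hwa (key w hwl a ha).symm
  have hlW : l ≤ W := by
    rcases hr.full with h0 | h0
    · exfalso
      apply hwa
      have h1 := hcomm a ha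
      rw [← mem_centralizer_iff.1 (h0 ha) n hn, mul_inv_cancel_right, mul_inv_cancel, mul_inv_eq_one,
        mul_inv_eq_iff_eq_mul] at h1
      exact h1.symm
    · intro z hz
      obtain ⟨f, hf, hfz⟩ := (h0 n hn hnl).1 z hz
      rw [← hfz, ← hcomm f hf]
      exact mul_mem ((mem_normalizer_iff.1 (hA hf) w).1 hw') (inv_mem hw')
  refine lt_of_le_of_ne (Subgroup.card_le_of_le hlW) fun h => hwl ?_
  have h1 : l = W := Subgroup.eq_of_le_of_card_ge hlW h.ge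
  rw [h1]; exact hw'

end root

/-- **(2), (3)** with a root group on one block: `C_S(V) ≤ C(X)`. -/
theorem Q_cent_root [Finite G] (S : Sylow 2 G) {X V N₁ Co l A Y : Subgroup G} (Xsq : ∀ x ∈ X, x * x = 1)
    (Xab : ∀ x ∈ X, ∀ y ∈ X, x * y = y * x) (VX : V ≤ X) (SY : (S : Subgroup G) ≤ Y)
    (YX : Y ≤ normalizer (X : Set G)) (YV : Y ≤ normalizer (V : Set G))
    (irr : ∀ U ≤ V, Y ≤ normalizer (U : Set G) → U ≠ ⊥ → V ≤ U)
    (cS : X ⊓ centralizer ((S : Subgroup G) : Set G) ≤ V) (AS : A ≤ (S : Subgroup G))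
    (ne : ¬ A ≤ centralizer (V : Set G)) (hV : V ≤ N₁ ⊔ Co) (NV : N₁ ≤ V) (CV : Co ≤ V) (hr : RootOn A N₁ l)
    (lN : l ≤ N₁) (hC : A ≤ centralizer (Co : Set G)) (XA : X ≤ V ⊔ (X ⊓ centralizer (A : Set G)))
    (no : NoOverM X (S : Subgroup G)) :
    (S : Subgroup G) ⊓ centralizer (V : Set G) ≤ centralizer (X : Set G) :=
  Q_cent S Xsq Xab VX SY YX YV irr cS AS ne (lN.trans NV) hr.fixZ (comm_mem Xab VX hV NV CV hr lN hC XA)
    (fun _ h1 h2 h3 => card_lt Xab VX hV NV CV hr lN hC h1 h2 h3) no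

end Cfsg.Agent.Omega.NOThreeL.RLev.VXmod
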