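import Cfsg.Agent.Omega.NOThreeL.RLev.LevQ
import Cfsg.Agent.Omega.NOThreeL.RLev.NoOverTop
import Cfsg.Agent.Omega.NOThreeL.RLev.TopEnd
import Cfsg.Agent.Omega.NOThreeL.RRed.QFr.MinOne
import Cfsg.Agent.Omega.NOThreeL.RRed.QFr.OfNBs
import Cfsg.Agent.Omega.NOThreeL.RRed.BQ.VX
import Cfsg.Agent.Omega.NOThreeL.RLev.VXroot

/-!
# Box R of NO-3L, natural blocks of one class: the top level is `(Q, V*)` (#27445, helper553; typed by helper540)

* **`vx_step`** : `TopLev S K X` ⟹ `X = V*`, `K = Q := S ⊓ C(V*)`.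
-/

set_option autoImplicit false
set_option linter.unusedSectionVars false

namespace Cfsg.Agent.Omega.NOThreeL.RLev.VXStep

open Subgroup Cfsg Cfsg.Agent.Omega.MinPar Cfsg.Agent.Omega.Frame
open Cfsg.Agent.ZN (o2 zc zl jj)
open Cfsg.Agent.ZN.ChoiceBase hiding mem_zc
open Cfsg.Agent.PLocal.ThompsonJ (isElementaryAbelian_iff)
open Cfsg.Agent.Omega.FFThm (ElemM NoOverM)
open Cfsg.Agent.Omega.NOThreeL.Star (YS le_YS S_le_YS)
open Cfsg.Agent.Omega.NOThreeL.RTree (RB)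
open Cfsg.Agent.Omega.NOThreeL.Merge (MZ)
open Cfsg.Agent.Omega.NOThreeL.RRed (Wd)
open Cfsg.Agent.Omega.NOThreeL.RRed.WideTree (NBs Src CM)
open Cfsg.Agent.Omega.NOThreeL.RRed.QFr (Bq)
open Cfsg.Agent.Omega.NOThreeL.RWide (RootOn)
open Cfsg.Agent.MinSimple.VModule (mem_zc)

universe u

variable {G : Type u} [Group G] [Finite G] {S : Sylow 2 G} {ι : Type u} {N E D l : ι → Subgroup G} {q : ℕ}

/-- **natural blocks of one class: `X = V*`, `K = Q`.** -/
theorem vx_step [Finite ι] (B : RB S) (h : NBs (S : Subgroup G) N E D l (fun _ => q))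
    (hs : Src (S : Subgroup G) N l (fun _ => q)) (hq : 4 ≤ q)
    (hc : CM (S : Subgroup G) (fun _ : PUnit.{u + 1} => Wd (S : Subgroup G))) {K X : Subgroup G} (t : TopLev S K X) :
    X = Wd (S : Subgroup G) ∧ K = (S : Subgroup G) ⊓ centralizer (Wd (S : Subgroup G) : Set G) := by
  have hne : Nonempty ι := by
    by_contra hcon
    rw [not_nonempty_iff] at hcon
    apply t.mv
    have h1 : zl (S : Subgroup G) (YS (S : Subgroup G)) = ⊥ := by
      show Wd (S : Subgroup G) = ⊥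
      rw [← h.dec.sup, iSup_of_empty, sup_bot_eq]
    rw [h1]
    exact fun x _ => mem_centralizer_iff.2 fun y hy => by rw [mem_bot.1 hy, one_mul, mul_one]
  have no : NoOverM (Wd (S : Subgroup G)) (S : Subgroup G) := RRed.QFr.MinOne.no_S B hs
  obtain ⟨noX, A, hA, hE, hmv, hAC, hXA, ex, min⟩ := LevQ.exists_act t no
  have hVX : Wd (S : Subgroup G) ≤ X := t.VX
  have hEV : ElemM (Wd (S : Subgroup G)) A :=
    ⟨fun a ha => centralizer_le hVX (hE.sq a ha), fun a ha b hb => centralizer_le hVX (hE.comm a ha b hb)⟩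
  have tt := RRed.QFr.MinOne.tt_of no hA hEV hmv ex min
  obtain ⟨b, hb, hoth, R, hcard, -⟩ := RRed.QFr.MinOne.min_one B h hs hA tt
  obtain ⟨n, ⟨f⟩⟩ := Finite.exists_equiv_fin ι
  have bq := RRed.QFr.OfNBs.bq_of B h hs hq hc f.symm
  have hXc : ∀ x ∈ X, ∀ y ∈ X, x * y = y * x := fun x hx y hy =>
    ((mem_zc.1 (t.Xle hx)).2.1 y (mem_zc.1 (t.Xle hy)).1).symm
  have hX2 : ∀ x ∈ X, x ^ 2 = 1 := fun x hx => (mem_zc.1 (t.Xle hx)).2.2
  have elX : IsElementaryAbelian 2 X := isElementaryAbelian_iff.2 ⟨hXc, hX2⟩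
  have hXS : X ≤ (S : Subgroup G) := fun x hx => t.le_S (mem_zc.1 (t.Xle hx)).1
  have hYX : MZ (S : Subgroup G) ≤ normalizer (X : Set G) := t.YK.trans t.Xn
  have hMX : ∀ m ∈ MZ (S : Subgroup G), ∀ x ∈ X, m * x * m⁻¹ ∈ X := fun m hm x hx =>
    (mem_normalizer_iff.1 (hYX hm) x).1 hx
  have hsup : Wd (S : Subgroup G) ≤ N b ⊔ ⨆ c : {c // c ≠ b}, N c := by
    rw [← h.dec.sup, sup_bot_eq]
    refine iSup_le fun c => ?_
    by_cases hcb : c = b
    · rw [hcb]; exact le_sup_left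
    · exact (le_iSup (fun c : {c // c ≠ b} => N c) ⟨c, hcb⟩).trans le_sup_right
  have hcent : A ≤ centralizer ((⨆ c : {c // c ≠ b}, N c : Subgroup G) : Set G) := by
    rw [le_centralizer_iff]
    refine iSup_le fun c => ?_
    rw [le_centralizer_iff]
    exact hoth c.1 c.2
  have hlN : l b ≤ N b := by
    obtain ⟨F, _, _, _, e, -, hn⟩ := h.nat b
    exact RRed.QFr.OfNBs.line_le hn
  have hZV : zc (S : Subgroup G) ≤ Wd (S : Subgroup G) := MinSimple.VModule.zc_le_zl _ _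
  have hQ := VXmod.Q_cent_root S (Y := MZ (S : Subgroup G)) (fun x hx => by rw [← pow_two]; exact hX2 x hx) hXc hVX
    h.dec.SL hYX h.dec.LU (hc.irr PUnit.unit)
    (fun x hx => hZV (mem_zc.2 ⟨hXS hx.1, fun y hy => mem_centralizer_iff.1 hx.2 y hy, hX2 x hx.1⟩)) hA hmv hsup
    (h.dec.NU b) (iSup_le fun c => h.dec.NU c.1) R hlN hcent hXA noX
  have h1 := RRed.BQ.vx_bq bq hVX elX hXS hMX hZV noX ⟨A, hA, hE, hmv, hAC, hXA, ex⟩ hQ
  have hX : X = Wd (S : Subgroup G) := le_antisymm h1 hVX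
  exact ⟨hX, le_antisymm (le_inf t.le_S t.cent) ((le_inf inf_le_left hQ).trans (LevQ.cs t))⟩

/-- **`VX S`** -/
theorem vx [Finite ι] (B : RB S) (h : NBs (S : Subgroup G) N E D l (fun _ => q))
    (hs : Src (S : Subgroup G) N l (fun _ => q)) (hq : 4 ≤ q)
    (hc : CM (S : Subgroup G) (fun _ : PUnit.{u + 1} => Wd (S : Subgroup G))) : VX S :=
  fun _ _ t => vx_step B h hs hq hc t

end Cfsg.Agent.Omega.NOThreeL.RLev.VXStep
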