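import Cfsg.Agent.Omega.NOThreeL.RLev.NL
import Cfsg.Agent.Omega.NOThreeL.RLow.Defs
import Cfsg.Agent.Omega.NO3b.Wc.Frame

/-!
# [NL] of box R: the interface of helper492's text #26533

`W^` the largest weakly closed subgroup of `S` in `C_S(V*)`, `M = N_G(W^)`, `V = ⟨Z^M⟩`, `S` does not offend on `V`.

* `Hat S M V` : the data; `prin` is PRINCIPLE' (0);
* `Hat.low` (HatSit.lean, helper492, (1)-(7)) : `V ≤ O₂(C_G(Z))` if some `C_Z(R) ≠ 1`;
* HatNL.lean (helper403, (0), (8)) : `Hat S M V` if no level moves `V*`; `exists_levX`.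
-/

set_option autoImplicit false

namespace Cfsg.Agent.Omega.NOThreeL.RLev

open Subgroup Cfsg Cfsg.Agent.Omega.MinPar Cfsg.Agent.Omega.Frame Cfsg.Agent.Omega.FrameNOFF
open Cfsg.Agent.ZN (o2 zc zl jj)
open Cfsg.Agent.Omega.Node.NO3L Cfsg.Agent.Omega.NOThreeL.Basic
open Cfsg.Agent.Omega.NO3b.Bang
open Cfsg.Agent.Omega.NOThreeL.Star (YS)
open Cfsg.Agent.ZN.ChoiceBase (cj)

universe u

variable {G : Type u} [Group G] [Finite G]

/-- **The data of #26533.** -/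
structure Hat (S : Sylow 2 G) (M V : Subgroup G) : Prop where
  ctx : Ctx G
  full : Full (S : Subgroup G)
  D : Data (S : Subgroup G)
  notA : ¬ CaseA (S : Subgroup G)
  /-- `Y = ⟨P*(S)⟩ ≤ M` -/
  YM : YS (S : Subgroup G) ≤ M
  eqV : V = zl (S : Subgroup G) M
  nn : NN (S : Subgroup G) V
  root : NO3b.Wc.Root S M
  /-- `M = N_G(W^)` -/
  eqM : NO3b.Wc.ML (S : Subgroup G) M = M
  /-- **(0) PRINCIPLE'** -/
  prin : ∀ FF : Set (Subgroup G), (∀ A ∈ FF, ∀ m ∈ M, cj m A ∈ FF) → (∀ A ∈ FF, A ≤ M ∧ IsPGroup 2 A) →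
    (∃ A ∈ FF, A ≤ (S : Subgroup G) ∧ ¬ A ≤ centralizer (V : Set G)) →
    ∃ B ∈ FF, B ≤ (S : Subgroup G) ∧ ∃ P, IsParS (S : Subgroup G) P ∧
      ¬ B ≤ centralizer (zl (S : Subgroup G) P : Set G)

theorem Hat.VL {S : Sylow 2 G} {M V : Subgroup G} (h : Hat S M V) : NO3b.Wc.VL (S : Subgroup G) M = V := by
  rw [NO3b.Wc.VL, h.eqM, h.eqV]

end Cfsg.Agent.Omega.NOThreeL.RLev
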