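import Cfsg.Agent.Omega.NOThreeL.RLev.HatSit
import Cfsg.Agent.Omega.NOThreeL.RLev.HatDef

/-!
# Box R: the front without galleries (helper492 #26533), part 2: `V^ ≤ O₂(C_G(Z))`

`Hat.low : Hat S M V → (∃ R, IsParS S R ∧ zc S ⊓ C(R) ≠ ⊥) → V ≤ o2 (CZ S)`.

If not: a maximal bad `F` of `V` with `W_F ≤ S`; the lines `V_P` (`P ∈ P*(S)`) have `Z ≤ V ∩ C(W_F) = F`, hence are
good; `F⟨V_P^X⟩` is a state with `V ∩ B > F` if `W_F` moves `V_P`.  Take such a state with `|B|` maximal; PRINCIPLE'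
gives a conjugate with `C_W(B) ≤ S` which moves some `V_P`, which is bad by ENLARGE: `SitG`.
-/

set_option autoImplicit false
set_option linter.unusedSectionVars false

namespace Cfsg.Agent.Omega.NOThreeL.RLev

open Subgroup Cfsg
open Cfsg.Agent.ZN hiding mem_zc le_o2 le_normalizer_o2 zl_le
open Cfsg.Agent.Omega.MinPar Cfsg.Agent.Omega.Frame
open Cfsg.Agent.Omega.FrameNOFF
open Cfsg.Agent.Omega.NoFF.Basic (conj_conj mem_conj conj_le_iff conj_le_centralizer comm_symm comm_mono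
  Z_le_V V_le Sys)
open Cfsg.Agent.Omega.NOne.Flat (EE WW Hyp Bad)
open Cfsg.Agent.Omega.NOThreeL.Basic (CaseA)
open Cfsg.Agent.Omega.NOThreeL.Pair (conj_eq_of_mem conj_le_normalizer)
open Cfsg.Agent.Omega.Node.NO3L
open Cfsg.Agent.ZN.ChoiceBase (cj isPGroup_cj)
open Cfsg.Agent.Omega.NOThreeL.RLow (SitG good_of_ne card_zc sit_false parts)
open Cfsg.Agent.Omega.NOThreeL.RLev.Hat (AC NX St)
open Cfsg.Agent.MinSimple.VModule (zc_le_zl zc_le zl_le_zc zl_le o2_isPGroup le_normalizer_o2 le_normalizer_zl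
  mem_zc le_o2 o2_le le_centralizer_zc zc_sq zc_comm normalizer_le_normalizer_zc)
open scoped Pointwise

universe u

variable {G : Type u} [Group G] [Finite G] {S : Sylow 2 G} {M V : Subgroup G}

/-- the start -/
theorem st_start {F : Subgroup G} (hyp : Hyp V F) : St S M V F F where
  hyp := hyp
  FB := le_rfl
  BW := hyp.F_le_E.trans (by
    have := NOne.Flat.Hyp.conjE_le_W (V := V) (F := F) (one_mem (centralizer (F : Set G)))
    rwa [map_one, one_smul] at this)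
  XB := centralizer_le_normalizer _
  comm := hyp.F_le_V.trans hyp.V_le_X
  sq := fun b hb => hyp.sq b (hyp.F_le_V hb)
  inv := by
    intro m _ P _ hE _
    exact (hE.trans inf_le_left).trans hyp.V_le_X

namespace Hat

variable (h : Hat S M V)
include h

theorem MV : M ≤ normalizer (V : Set G) := by
  rw [h.eqV]
  exact MinSimple.VModule.le_normalizer_zl _ _

theorem SM : (S : Subgroup G) ≤ M := by
  have h1 := h.root.S_le
  rwa [h.eqM] at h1

theorem ZV : zc (S : Subgroup G) ≤ V := by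
  rw [h.eqV]
  exact zc_le_zl _ _

theorem LV {Q : Subgroup G} (hQ : IsParS (S : Subgroup G) Q) : zl (S : Subgroup G) Q ≤ V :=
  zl_le h.ZV (((NOThreeL.Star.le_YS hQ).trans h.YM).trans h.MV)

/-- PRINCIPLE' for the groups `C_W(B)` -/
theorem push {F B : Subgroup G} (s : St S M V F B) (hA : AC V F B ≤ (S : Subgroup G)) :
    ∃ F' B', St S M V F' B' ∧ AC V F' B' ≤ (S : Subgroup G) ∧ Nat.card B' = Nat.card B ∧
      (¬ V ⊓ B ≤ F → ¬ V ⊓ B' ≤ F') ∧ (∃ m ∈ M, F' = MulAut.conj m • F ∧ B' = MulAut.conj m • B) ∧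
      ∃ P, IsParS (S : Subgroup G) P ∧ ¬ AC V F' B' ≤ centralizer (zl (S : Subgroup G) P : Set G) := by
  obtain ⟨A', ⟨m, hm, rfl⟩, hS, P, hP, hmv⟩ := h.prin {A | ∃ m ∈ M, A = cj m (AC V F B)}
    (by
      rintro _ ⟨m, hm, rfl⟩ n hn
      refine ⟨n * m, mul_mem hn hm, ?_⟩
      exact ChoiceBase.cj_cj _ _ _)
    (by
      rintro _ ⟨m, hm, rfl⟩
      refine ⟨?_, isPGroup_cj m (S.isPGroup'.to_le hA)⟩
      have h1 : MulAut.conj m • AC V F B ≤ MulAut.conj m • M := conj_le_iff.2 (hA.trans h.SM)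
      rw [conj_eq_of_mem (Subgroup.le_normalizer hm)] at h1
      exact h1)
    ⟨AC V F B, ⟨1, one_mem _, by
      change _ = MulAut.conj (1 : G) • AC V F B
      rw [map_one, one_smul]⟩, hA, s.moves⟩
  have e : cj m (AC V F B) = AC V (MulAut.conj m • F) (MulAut.conj m • B) := Hat.conj_AC (h.MV hm)
  rw [e] at hS hmv
  refine ⟨MulAut.conj m • F, MulAut.conj m • B, s.conj h.MV hm, hS, ?_, ?_, ⟨m, hm, rfl, rfl⟩, P, hP, hmv⟩
  · exact Subgroup.card_map_of_injective (MulAut.conj m).injective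
  · intro h1 h2
    apply h1
    have h3 := conj_le_iff (g := m⁻¹).2 h2
    rw [Subgroup.smul_inf, Hat.conj_inv_conj, Hat.conj_inv_conj, conj_eq_of_mem (h.MV (inv_mem hm))] at h3
    exact h3

/-- **THEOREM** (#26533): `V^ ≤ O₂(C_G(Z))`. -/
theorem low (hR : ∃ R, IsParS (S : Subgroup G) R ∧ zc (S : Subgroup G) ⊓ centralizer (R : Set G) ≠ ⊥) :
    V ≤ o2 (CZ (S : Subgroup G)) := by
  by_contra hn
  have h2 : 2 < Nat.card (zc (S : Subgroup G)) := by
    obtain ⟨R, hR, hz⟩ := hR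
    exact card_zc hR hz
  have hzne : zc (S : Subgroup G) ≠ ⊥ := Low.zc_ne_bot h.ctx
  have hZS : (S : Subgroup G) ≤ centralizer (zc (S : Subgroup G) : Set G) := fun s hs =>
    mem_centralizer_iff.2 fun z hz => ((mem_zc.1 hz).2.1 s hs).symm
  -- the start
  have h0 : ∃ F, Hyp V F ∧ WW V F ≤ (S : Subgroup G) := by
    have h3 := Low.exists_max_bad h.root h.ctx.char2 (F₀ := zc (S : Subgroup G)) (by
      rw [h.VL]
      exact ⟨hzne, h.ZV, hn⟩)
    rw [h.VL] at h3
    obtain ⟨F, hF, hW, -⟩ := h3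
    exact ⟨F, hF, hW⟩
  obtain ⟨F, hF, hW⟩ := h0
  have hAF : AC V F F ≤ (S : Subgroup G) := inf_le_left.trans hW
  obtain ⟨F, B, s, hA, -, -, ⟨m, hm, rfl, rfl⟩, P, hP, hmv⟩ := h.push (st_start hF) hAF
  set F := MulAut.conj m • F with hFdef
  have hWS : WW V F ≤ (S : Subgroup G) := by
    refine le_trans (le_inf le_rfl ?_) hA
    exact NOne.Flat.Hyp.W_le_X
  have hZF : zc (S : Subgroup G) ≤ F := by
    rw [← s.hyp.cent_VW]
    exact le_inf h.ZV (comm_symm (hWS.trans hZS))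
  have hgood : zl (S : Subgroup G) P ≤ EE V F := by
    refine good_of_ne h.D h.notA s.hyp hP (h.LV hP) (g := 1) (one_mem _) ?_
    rw [map_one, one_smul, inf_eq_left.2 hZF]
    exact hzne
  have s1 := s.enlarge h.ctx.char2 h.D.noff hA (one_mem _) hP hgood
  have hUB : zl (S : Subgroup G) P ≤ F ⊔ NX (zl (S : Subgroup G) P) F := by
    have h3 := Z_le_V (Z := zl (S : Subgroup G) P) (one_mem (centralizer (F : Set G)))
    rw [map_one, one_smul] at h3
    exact h3.trans le_sup_right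
  have hne1 : ¬ V ⊓ (F ⊔ NX (zl (S : Subgroup G) P) F) ≤ F := by
    intro h3
    apply hmv
    refine AC_le_C.trans (centralizer_le ?_)
    exact (le_inf (h.LV hP) hUB).trans h3
  have hanti : ∀ {F B B' : Subgroup G}, B ≤ B' → AC V F B' ≤ AC V F B := fun hle =>
    inf_le_inf_left _ (centralizer_le hle)
  -- a maximal state
  obtain ⟨⟨F₁, B₁⟩, ⟨t1, t2, t3⟩, hmax⟩ := Set.exists_max_image
    {q : Subgroup G × Subgroup G | St S M V q.1 q.2 ∧ AC V q.1 q.2 ≤ (S : Subgroup G) ∧ ¬ V ⊓ q.2 ≤ q.1}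
    (fun q => Nat.card q.2) (Set.toFinite _)
    ⟨(F, F ⊔ NX (zl (S : Subgroup G) P) F), s1, (hanti le_sup_left).trans hA, hne1⟩
  dsimp only at t1 t2 t3 hmax
  obtain ⟨F₂, B₂, u, uA, ucard, une, -, Q, hQ, hQm⟩ := h.push t1 t2
  have une' := une t3
  -- ENLARGE gives nothing new
  have key : ∀ R, IsParS (S : Subgroup G) R → zl (S : Subgroup G) R ≤ EE V F₂ →
      zl (S : Subgroup G) R ≤ B₂ := by
    intro R hR' hRE
    have u1 := u.enlarge h.ctx.char2 h.D.noff uA (one_mem _) hR' hRE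
    have h3 := hmax (F₂, B₂ ⊔ NX (zl (S : Subgroup G) R) F₂)
      ⟨u1, (hanti le_sup_left).trans uA, fun h4 => une' ((inf_le_inf_left _ le_sup_left).trans h4)⟩
    dsimp only at h3
    rw [← ucard] at h3
    have h4 : B₂ = B₂ ⊔ NX (zl (S : Subgroup G) R) F₂ := eq_of_le_of_card_ge le_sup_left h3
    rw [h4]
    have h5 := Z_le_V (Z := zl (S : Subgroup G) R) (one_mem (centralizer (F₂ : Set G)))
    rw [map_one, one_smul] at h5
    exact h5.trans le_sup_right
  have hbad : ¬ zl (S : Subgroup G) Q ≤ EE V F₂ := fun hE =>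
    hQm (AC_le_C.trans (centralizer_le (key Q hQ hE)))
  exact sit_false parts (u.sit h.ctx h.D h.notA uA une' h.nn.le h.ZV (fun _ hR' => h.LV hR') key hQ hbad h2) hR

end Hat

end Cfsg.Agent.Omega.NOThreeL.RLev
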