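import Cfsg.Agent.Omega.NOThreeL.RLev.HatNL
import Cfsg.Agent.Omega.NOThreeL.RLev.HatLow
import Cfsg.Agent.Omega.NOThreeL.RRed.FourTree
import Cfsg.Agent.Omega.NO3b.BasePt.Weak

/-!
# Box R of NO-3L: some level moves `V*` (helper492 #26533, helper812, helper319)

* **`exists_levX`** : box R, `V*` FF: `J(S)` moves `V* = Wd S`, or `nxtX S X` does, for some level `(K, X)` over `V*`;
* `exists_lev_wc` : the same with more information: `K`, `nxtX S X` weakly closed in `S`, `Y ≤ N_G(K)`.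
-/

set_option autoImplicit false

namespace Cfsg.Agent.Omega.NOThreeL.RLev

open Subgroup Cfsg Cfsg.Agent.Omega.MinPar Cfsg.Agent.Omega.Frame Cfsg.Agent.Omega.FrameNOFF
open Cfsg.Agent.ZN (o2 zc zl jj)
open Cfsg.Agent.Omega.NO3b.Wc (WC)
open Cfsg.Agent.Omega.NO3S.Level (Lev)
open Cfsg.Agent.Omega.NOThreeL.Merge (MZ)
open Cfsg.Agent.Omega.NOThreeL.Star (YS)
open Cfsg.Agent.Omega.NOThreeL.RTreeF (RBF)
open Cfsg.Agent.Omega.NOThreeL.RRed (Wd)
open Cfsg.Agent.Omega.NO3b.EndX (AbsP)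
open Cfsg.Agent.Omega.ML.Final (MLK)

universe u

variable {G : Type u} [Group G] [Finite G] {S : Sylow 2 G}

/-- **Some level moves `V*`.** -/
theorem exists_lev_wc (ml : MLK.{u, u}) (ha : AbsP.{u, u}) (h : RBF S) :
    ¬ jj (S : Subgroup G) ≤ centralizer (zl (S : Subgroup G) (YS (S : Subgroup G)) : Set G) ∨
    ∃ K X : Subgroup G, Lev (S : Subgroup G) K ∧ X ≤ zc K ∧ normalizer (K : Set G) ≤ normalizer (X : Set G) ∧
      zl (S : Subgroup G) (YS (S : Subgroup G)) ≤ X ∧ YS (S : Subgroup G) ≤ normalizer (K : Set G) ∧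
      WC (S : Subgroup G) K ∧ WC (S : Subgroup G) (nxtX (S : Subgroup G) X) ∧
      ¬ nxtX (S : Subgroup G) X ≤ centralizer (zl (S : Subgroup G) (YS (S : Subgroup G)) : Set G) :=
  exists_levX_of h (fun _ r => NO3b.BasePt.false_of_nfRoot h.ctx ml ha r) fun _ _ H => H.low h.ex

/-- **Some level moves `V*`.** -/
theorem exists_levX (ml : MLK.{u, u}) (ha : AbsP.{u, u}) (h : RBF S) :
    ¬ jj (S : Subgroup G) ≤ centralizer (Wd (S : Subgroup G) : Set G) ∨
      ∃ K X, RRed.FourTree.LevX (S : Subgroup G) K X ∧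
        ¬ RRed.FourTree.nxtX (S : Subgroup G) X ≤ centralizer (Wd (S : Subgroup G) : Set G) := by
  rcases exists_lev_wc ml ha h with h1 | ⟨K, X, h1, h2, h3, h4, h5, -, -, h6⟩
  · exact Or.inl h1
  · exact Or.inr ⟨K, X, { toLev := h1, Xle := h2, Xn := h3, VX := h4, MX := h5.trans h3 }, h6⟩

end Cfsg.Agent.Omega.NOThreeL.RLev
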