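import Cfsg.Agent.Omega.NOThreeL.RLev.HatMk
import Cfsg.Agent.Omega.NOThreeL.RLev.HatLow

/-!
# Box R of NO-3L, [NL] (text #26533 helper492; literal #25877 (3) helper319)

* `hatS_false` : the setting of [NL] (no level moves `V*`) does not occur in box R, not (A);
* **`exists_levX`** : box R, not (A), `V*` FF: `J(S)`, or the best offenders at some level, move `V*`.
-/

set_option autoImplicit false

namespace Cfsg.Agent.Omega.NOThreeL.RLev.HatFin

open Subgroup Cfsg
open Cfsg.Agent.ZN (o2 zc zl jj)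
open Cfsg.Agent.Omega.MinPar Cfsg.Agent.Omega.Frame Cfsg.Agent.Omega.FrameNOFF
open Cfsg.Agent.Omega.NOThreeL.RTreeF (RBF)
open Cfsg.Agent.Omega.NOThreeL.RRed (Wd)
open Cfsg.Agent.Omega.NOThreeL.RRed.FourTree (nxtX LevX)
open Cfsg.Agent.Omega.NOThreeL.RLev.HatEnd (HatS LowH)
open Cfsg.Agent.Omega.NOThreeL.RLev.HatMk (LowHat exists_levX_of_low lowH_of)
open Cfsg.Agent.Omega.NO3b.EndX (AbsP)
open Cfsg.Agent.Omega.ML.Final (MLK)

universe u

theorem lowHat : LowHat.{u} := fun _ _ _ _ _ _ h hR => h.low hR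

variable {G : Type u} [Group G] [Finite G] {S : Sylow 2 G}

/-- The setting of [NL] does not occur. -/
theorem hatS_false (ml : MLK.{u, u}) (ha : AbsP.{u, u}) (h : HatS S) : False :=
  h.false_of ml ha (lowH_of lowHat G S h)

/-- **[NL]**: `J(S)`, or the best offenders at some level, move `V*`. -/
theorem exists_levX (ml : MLK.{u, u}) (ha : AbsP.{u, u}) (h : RBF S) :
    ¬ jj (S : Subgroup G) ≤ centralizer (Wd (S : Subgroup G) : Set G) ∨
      ∃ K X, LevX (S : Subgroup G) K X ∧
        ¬ nxtX (S : Subgroup G) X ≤ centralizer (Wd (S : Subgroup G) : Set G) :=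
  exists_levX_of_low ml ha lowHat h

end Cfsg.Agent.Omega.NOThreeL.RLev.HatFin
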