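import Cfsg.Agent.Omega.NOThreeL.RLev.HatEnd
import Cfsg.Agent.Omega.NOThreeL.RLev.HatDef

/-!
# Box R of NO-3L, [NL]: the data `Hat` exist (#26533 helper492, (0) PRINCIPLE' and (8))

* `prin` : PRINCIPLE': an `M`-invariant family of 2-groups with a member in `S` moving `V = ⟨Z^M⟩` has a member in
  `S` which moves some line `V_P`, `P ∈ P*(S)`;
* `HatEnd.HatS.toHat : HatS S → Hat S (MH S) (VH S)`;
* `lowH_of`, **`exists_levX_of_low`** : [NL] from `Hat.low`.
-/

set_option autoImplicit false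
set_option linter.unusedSectionVars false

namespace Cfsg.Agent.Omega.NOThreeL.RLev.HatMk

open Subgroup Cfsg
open Cfsg.Agent.ZN (o2 zc zl jj zj)
open Cfsg.Agent.ZN.ChoiceBase hiding mem_zc
open Cfsg.Agent.Omega.MinPar Cfsg.Agent.Omega.Frame Cfsg.Agent.Omega.FrameNOFF
open Cfsg.Agent.Omega.Node.NO3L Cfsg.Agent.Omega.NOThreeL.Basic
open Cfsg.Agent.Omega.NO3b.Bang
open Cfsg.Agent.Omega.NOThreeL.RTreeF (RBF)
open Cfsg.Agent.Omega.NOThreeL.Merge (MZ le_MZ S_le_MZ isLoc_MZ)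
open Cfsg.Agent.Omega.NOThreeL.RRed (Wd zc_le_Wd)
open Cfsg.Agent.Omega.NOThreeL.RRed.FourTree (nxtX LevX)
open Cfsg.Agent.Omega.NOThreeL.RLev (Hat)
open Cfsg.Agent.Omega.NOThreeL.RLev.HatEnd
open Cfsg.Agent.Omega.NO3S (FFMod)
open Cfsg.Agent.Omega.NO3S.Level (Lev)
open Cfsg.Agent.Omega.NO3b.Wc (WC WH QL ML VL wc_WH WH_le WH_le_S le_WH mem_ML_of_le Root cj_sSup)
open Cfsg.Agent.Omega.NO3b.EndX (AbsP)
open Cfsg.Agent.Omega.ML.Final (MLK)
open Cfsg.Agent.MinSimple.VModule (zc_le_zl le_normalizer_zl zl_le zc_le mem_zc le_centralizer_zc zc_sq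
  le_normalizer_o2 o2_isPGroup le_o2 zc_comm normalizer_le_normalizer_zc)

universe u

variable {G : Type u} [Group G] [Finite G] {S : Sylow 2 G}

/-- a weakly closed subgroup of `S` which centralises all `V_P`, `P ∈ P*(S)`, centralises `V*` -/
theorem cent_Wd_of (hc : IsCharacteristicTwoType G) {K : Subgroup G} (hw : WC (S : Subgroup G) K)
    (h : ∀ P, IsParS (S : Subgroup G) P → K ≤ centralizer (zl (S : Subgroup G) P : Set G)) :
    K ≤ centralizer (Wd (S : Subgroup G) : Set G) := by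
  have hn : MZ (S : Subgroup G) ≤ normalizer (K : Set G) := by
    refine sSup_le fun P hP p hp => ?_
    rw [mem_normalizer_iff_cj]
    refine hw.eq p ?_
    have h1 : K ≤ o2 P := fun x hx => mem_o2_of_cent hc S hP (hw.le hx) (h P hP hx)
    have h2 := cj_mono p h1
    rw [cj_eq_of_mem_normalizer (le_normalizer_o2 P hp)] at h2
    exact h2.trans (hP.isLoc.o2_le S)
  apply NO3b.EZero.cent_symm
  refine zl_le ?_ ?_
  · intro z hz
    rw [mem_centralizer_iff]
    intro k hk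
    exact (mem_zc.1 hz).2.1 k (hw.le hk)
  · intro l hl
    rw [mem_normalizer_iff_cj, cj_centralizer, cj_eq_of_mem_normalizer (hn hl)]

/-- **(0) PRINCIPLE'.** -/
theorem prin (hc : IsCharacteristicTwoType G)
    (hJ : jj (S : Subgroup G) ≤ centralizer (Wd (S : Subgroup G) : Set G)) (FF : Set (Subgroup G))
    (hFF : ∀ A ∈ FF, ∀ m ∈ MH (S : Subgroup G), cj m A ∈ FF)
    (hA : ∃ A ∈ FF, A ≤ (S : Subgroup G) ∧ ¬ A ≤ centralizer (VH (S : Subgroup G) : Set G)) :
    ∃ B ∈ FF, B ≤ (S : Subgroup G) ∧ ∃ P, IsParS (S : Subgroup G) P ∧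
      ¬ B ≤ centralizer (zl (S : Subgroup G) P : Set G) := by
  obtain ⟨A, hA, hAS, hAV⟩ := hA
  by_contra hcon
  push Not at hcon
  set W := WH (S : Subgroup G) (MZ (S : Subgroup G)) with hW
  set K : Subgroup G := W ⊔ sSup {B | B ∈ FF ∧ B ≤ (S : Subgroup G)} with hK
  have hKS : K ≤ (S : Subgroup G) := sup_le (WH_le_S _ _) (sSup_le fun B hB => hB.2)
  have hKw : WC (S : Subgroup G) K := by
    refine ⟨hKS, fun g hg => ?_⟩
    have h2 : g ∈ MH (S : Subgroup G) := mem_ML_of_le ((cj_mono g le_sup_left).trans hg)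
    have h4 : cj g K ≤ K := by
      change Subgroup.map _ _ ≤ _
      rw [hK, Subgroup.map_sup]
      refine sup_le_sup (cj_eq_of_mem_normalizer h2).le ?_
      change cj g (sSup {B | B ∈ FF ∧ B ≤ (S : Subgroup G)}) ≤ _
      rw [cj_sSup]
      refine iSup_le fun B => ?_
      have h5 : cj g (B : Subgroup G) ≤ (S : Subgroup G) :=
        (cj_mono g ((le_sSup B.2).trans le_sup_right)).trans hg
      exact le_sSup (a := cj g (B : Subgroup G)) ⟨hFF _ B.2.1 g h2, h5⟩
    exact Subgroup.eq_of_le_of_card_ge h4 (card_cj _ _).ge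
  have hKc : K ≤ centralizer (Wd (S : Subgroup G) : Set G) := by
    refine cent_Wd_of hc hKw fun P hP => ?_
    refine sup_le ?_ (sSup_le fun B hB => hcon B hB.1 hB.2 P hP)
    exact (WH_le _ _).trans (inf_le_right.trans (centralizer_le (Star.zl_mono _ (le_MZ hP))))
  have hKW : K ≤ W := le_WH hKw (le_inf hKS hKc)
  have h6 : A ≤ K := (le_sSup (s := {B | B ∈ FF ∧ B ≤ (S : Subgroup G)}) ⟨hA, hAS⟩).trans le_sup_right
  exact hAV (h6.trans (hKW.trans (WH_cent hJ)))

/-- **The data of [NL].** -/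
theorem _root_.Cfsg.Agent.Omega.NOThreeL.RLev.HatEnd.HatS.toHat (h : HatS S) :
    Hat S (MH (S : Subgroup G)) (VH (S : Subgroup G)) where
  ctx := h.ctx
  full := h.full
  D := h.data
  notA := h.notA
  YM := MZ_le h.ctx.char2
  eqV := rfl
  nn :=
    { le := VH_le_S h.jc
      norm := S_le.trans (le_normalizer_zl _ _)
      comm := VH_comm h.jc
      sq := fun v hv => zc_sq _ v (VH_le h.jc hv)
      nff := fun A hA ho => h.nff ⟨A, hA, ho⟩ }
  root := h.root
  eqM := h.ML_eq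
  prin := fun FF hFF _ hA => prin h.ctx.char2 h.jc FF hFF hA

/-- `Hat.low` -/
def LowHat : Prop :=
  ∀ (G : Type u) [Group G] [Finite G] (S : Sylow 2 G) (M V : Subgroup G), Hat S M V →
    (∃ R, IsParS (S : Subgroup G) R ∧ zc (S : Subgroup G) ⊓ centralizer (R : Set G) ≠ ⊥) →
      V ≤ o2 (CZ (S : Subgroup G))

theorem lowH_of (h : LowHat.{u}) : LowH.{u} := fun G _ _ S hS => h G S _ _ hS.toHat hS.ex

/-- **[NL]** from `Hat.low`: `J(S)`, or the best offenders at some level, move `V*`. -/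
theorem exists_levX_of_low (ml : MLK.{u, u}) (ha : AbsP.{u, u}) (low : LowHat.{u}) (h : RBF S) :
    ¬ jj (S : Subgroup G) ≤ centralizer (Wd (S : Subgroup G) : Set G) ∨
      ∃ K X, LevX (S : Subgroup G) K X ∧
        ¬ nxtX (S : Subgroup G) X ≤ centralizer (Wd (S : Subgroup G) : Set G) :=
  exists_levX_of ml ha (lowH_of low) h

end Cfsg.Agent.Omega.NOThreeL.RLev.HatMk
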