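import Cfsg.Agent.Omega.NOThreeL.RLev.HatDef

/-!
# [NL] of box R: helper492's text #26533, (0) and (8)

`W^ = Wc.WH S Y` the largest weakly closed subgroup of `S` in `C_S(V*)`, `M = N_G(W^)`, `V = ⟨Z^M⟩`; `J(S) ≤ C(V*)`.

* `ys_wc` : weakly closed subgroups of `C_S(V*)` are normalised by `Y`; `jj_le_W`, `V_le_W`, `lev_W` : `Lev S W^`;
* `nxt_wc` : `nxtX S V` is weakly closed;
* `nn_V`, `cs_eq` : if it centralises `V*` then `V ∈ NN(S)`, `C_S(V) = W^`;
* `prin` : PRINCIPLE' (0);  `hat_of` : the data `Hat S M V`;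
* **`exists_levX_of`** : from `NFRoot.false` and `Hat.low`: `J(S)` moves `V*`, or a level `(K, X)` does.
-/

set_option autoImplicit false
set_option linter.unusedSectionVars false

namespace Cfsg.Agent.Omega.NOThreeL.RLev

open Subgroup Cfsg Cfsg.Agent.Omega.MinPar Cfsg.Agent.Omega.Frame Cfsg.Agent.Omega.FrameNOFF
open Cfsg.Agent.ZN (o2 zc zl jj)
open Cfsg.Agent.ZN.ChoiceBase hiding mem_zc
open Cfsg.Agent.Omega.Node.NO3L Cfsg.Agent.Omega.NOThreeL.Basic
open Cfsg.Agent.Omega.NO3b.Bang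
open Cfsg.Agent.Omega.NO3b.Wc (WC WH ML VL QL cj_sSup wc_WH WH_le WH_le_S le_WH mem_ML_of_le ML_le_norm_V)
open Cfsg.Agent.Omega.NOThreeL.Star (YS le_YS S_le_YS)
open Cfsg.Agent.Omega.NOThreeL.MergeNF (NFRoot)
open Cfsg.Agent.Omega.NO1.BestOff (Best exists_best)
open Cfsg.Agent.Omega.FFThm (OffM ElemM)
open Cfsg.Agent.Omega.NO3S.Level (Lev)
open Cfsg.Agent.Omega.NOThreeL.RTreeF (RBF)
open Cfsg.Agent.MinSimple.VModule (zc_le le_normalizer_o2 le_normalizer_zl zc_le_zl zl_le o2_isPGroup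
  o2_le le_o2 zc_sq mem_zc normalizer_le_normalizer_zc)

universe u

variable {G : Type u} [Group G]

section fin

variable [Finite G] {S : Sylow 2 G}

/-- `K` w.c. in `S`, `K ≤ O₂(P)`: `P ≤ N_G(K)` -/
theorem par_le_of_wc {K P : Subgroup G} (hK : WC (S : Subgroup G) K) (hP : IsParS (S : Subgroup G) P)
    (h : K ≤ o2 P) : P ≤ normalizer (K : Set G) := by
  intro p hp
  rw [mem_normalizer_iff_cj]
  refine hK.eq p ((cj_mono p h).trans ?_)
  rw [cj_eq_of_mem_normalizer (le_normalizer_o2 P hp)]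
  exact hP.isLoc.o2_le S

/-- `K` w.c. in `S`, `K ≤ C(V*)`: `Y ≤ N_G(K)` -/
theorem ys_wc {K : Subgroup G} (hK : WC (S : Subgroup G) K)
    (hc : K ≤ centralizer (zl (S : Subgroup G) (YS (S : Subgroup G)) : Set G)) :
    YS (S : Subgroup G) ≤ normalizer (K : Set G) := sSup_le fun _ hP =>
  par_le_of_wc hK hP (le_o2_of_cent hK.le hc hP)

/-- `Y ≤ M` -/
theorem ys_le_M : YS (S : Subgroup G) ≤ ML (S : Subgroup G) (YS (S : Subgroup G)) :=
  ys_wc (wc_WH _ _) ((WH_le _ _).trans inf_le_right)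

theorem vs_le_V : zl (S : Subgroup G) (YS (S : Subgroup G)) ≤ VL (S : Subgroup G) (YS (S : Subgroup G)) :=
  Star.zl_mono _ ys_le_M

theorem wc_jj : WC (S : Subgroup G) (jj (S : Subgroup G)) := by
  refine ⟨jj_le _, fun g hg => ?_⟩
  have h1 : jj (S : Subgroup G) ≤ cj g⁻¹ (S : Subgroup G) := cj_le_iff.1 hg
  have h2 := MinSimple.EmptyTI.jj_eq S (isPGroup_cj g⁻¹ S.isPGroup') h1
  rw [jj_cj] at h2
  have h3 := congrArg (cj g) h2
  rw [cj_cj_inv] at h3
  exact h3.symm

section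

variable (hj : jj (S : Subgroup G) ≤ centralizer (zl (S : Subgroup G) (YS (S : Subgroup G)) : Set G))
include hj

theorem jj_le_W : jj (S : Subgroup G) ≤ WH (S : Subgroup G) (YS (S : Subgroup G)) :=
  le_WH wc_jj (le_inf (jj_le _) hj)

/-- `V ≤ Ω₁(Z(W^))` -/
theorem V_le_zcW : VL (S : Subgroup G) (YS (S : Subgroup G)) ≤
    zc (WH (S : Subgroup G) (YS (S : Subgroup G))) := by
  refine zl_le ?_ (normalizer_le_normalizer_zc _)
  intro x hx
  have h1 := mem_zc.1 hx
  refine mem_zc.2 ⟨jj_le_W hj (mem_zj.1 (zc_le_zj _ hx)).1, fun y hy => h1.2.1 y (WH_le_S _ _ hy), h1.2.2⟩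

theorem W_cent : WH (S : Subgroup G) (YS (S : Subgroup G)) ≤
    centralizer (VL (S : Subgroup G) (YS (S : Subgroup G)) : Set G) :=
  cent_symm ((V_le_zcW hj).trans fun _ hx => mem_centralizer_iff.2 fun y hy => (mem_zc.1 hx).2.1 y hy)

/-- `Lev S W^` -/
theorem lev_W : Lev (S : Subgroup G) (WH (S : Subgroup G) (YS (S : Subgroup G))) where
  le := WH_le_S _ _
  jjle := jj_le_W hj
  norm := fun _ h1 h2 => NO3b.Wc.Root.norm_le h1 h2

/-- `⟨best offenders of S on V⟩ C_S(V)` is weakly closed. -/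
theorem nxt_wc : WC (S : Subgroup G) (nxtX (S : Subgroup G) (VL (S : Subgroup G) (YS (S : Subgroup G)))) := by
  set V := VL (S : Subgroup G) (YS (S : Subgroup G)) with hV
  refine ⟨nxtX_le _ _, fun g hg => ?_⟩
  have h1 : WH (S : Subgroup G) (YS (S : Subgroup G)) ≤ nxtX (S : Subgroup G) V :=
    (le_inf (WH_le_S _ _) (W_cent hj)).trans (inf_cent_le _ _)
  have h2 : g ∈ ML (S : Subgroup G) (YS (S : Subgroup G)) := mem_ML_of_le ((cj_mono g h1).trans hg)
  have hgV : g ∈ normalizer (V : Set G) := ML_le_norm_V _ _ h2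
  have h4 : cj g (nxtX (S : Subgroup G) V) ≤ nxtX (S : Subgroup G) V := by
    have hg' := hg
    rw [nxtX] at hg' ⊢
    change Subgroup.map _ _ ≤ _
    rw [Subgroup.map_sup]
    refine sup_le ((le_inf ?_ ?_).trans le_sup_left) (le_trans ?_ le_sup_right)
    · exact (cj_mono g le_sup_left).trans hg'
    · refine (cj_mono g inf_le_right).trans ?_
      rw [cj_centralizer, cj_eq_of_mem_normalizer hgV]
    · change cj g (sSup {A | A ≤ (S : Subgroup G) ∧ Best V A}) ≤ _
      rw [cj_sSup]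
      refine iSup_le fun B => ?_
      exact le_sSup (a := cj g (B : Subgroup G)) ⟨(cj_mono g ((le_sSup B.2).trans le_sup_right)).trans hg', B.2.2.conj hgV⟩
  exact Subgroup.eq_of_le_of_card_ge h4 (card_cj _ _).ge

variable (hn : nxtX (S : Subgroup G) (VL (S : Subgroup G) (YS (S : Subgroup G))) ≤
  centralizer (zl (S : Subgroup G) (YS (S : Subgroup G)) : Set G))
include hn

theorem nxt_le_W : nxtX (S : Subgroup G) (VL (S : Subgroup G) (YS (S : Subgroup G))) ≤
    WH (S : Subgroup G) (YS (S : Subgroup G)) := le_WH (nxt_wc hj) (le_inf (nxtX_le _ _) hn)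

/-- `C_S(V) = W^` -/
theorem cs_eq : (S : Subgroup G) ⊓ centralizer (VL (S : Subgroup G) (YS (S : Subgroup G)) : Set G) =
    WH (S : Subgroup G) (YS (S : Subgroup G)) :=
  le_antisymm ((inf_cent_le _ _).trans (nxt_le_W hj hn)) (le_inf (WH_le_S _ _) (W_cent hj))

/-- `V ∈ NN(S)` -/
theorem nn_V : NN (S : Subgroup G) (VL (S : Subgroup G) (YS (S : Subgroup G))) := by
  refine nn_of (lev_W hj) (V_le_zcW hj) (le_normalizer_zl _ _) fun A hA ho => ?_
  obtain ⟨X, hXA, hb, hne⟩ := exists_best ho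
  exact hne ((best_le (hXA.trans hA) hb).trans ((nxt_le_W hj hn).trans (W_cent hj)))

/-- **(0) PRINCIPLE'** -/
theorem prin (FF : Set (Subgroup G)) (hF : ∀ A ∈ FF, ∀ m ∈ ML (S : Subgroup G) (YS (S : Subgroup G)), cj m A ∈ FF)
    (hex : ∃ A ∈ FF, A ≤ (S : Subgroup G) ∧
      ¬ A ≤ centralizer (VL (S : Subgroup G) (YS (S : Subgroup G)) : Set G)) :
    ∃ B ∈ FF, B ≤ (S : Subgroup G) ∧ ∃ P, IsParS (S : Subgroup G) P ∧
      ¬ B ≤ centralizer (zl (S : Subgroup G) P : Set G) := by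
  by_contra hcon
  push Not at hcon
  obtain ⟨A, hA, hAS, hAV⟩ := hex
  set K : Subgroup G := WH (S : Subgroup G) (YS (S : Subgroup G)) ⊔ sSup {B | B ∈ FF ∧ B ≤ (S : Subgroup G)}
    with hK
  have hKS : K ≤ (S : Subgroup G) := sup_le (WH_le_S _ _) (sSup_le fun B hB => hB.2)
  have hKwc : WC (S : Subgroup G) K := by
    refine ⟨hKS, fun g hg => ?_⟩
    have h2 : g ∈ ML (S : Subgroup G) (YS (S : Subgroup G)) := mem_ML_of_le ((cj_mono g le_sup_left).trans hg)
    have h4 : cj g K ≤ K := by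
      change Subgroup.map _ _ ≤ _
      rw [hK, Subgroup.map_sup]
      refine sup_le_sup (cj_eq_of_mem_normalizer h2).le ?_
      change cj g (sSup {B | B ∈ FF ∧ B ≤ (S : Subgroup G)}) ≤ _
      rw [cj_sSup]
      refine iSup_le fun B => ?_
      have h5 : cj g (B : Subgroup G) ≤ (S : Subgroup G) :=
        (cj_mono g ((le_sSup B.2).trans le_sup_right)).trans hg
      exact le_sSup (a := cj g (B : Subgroup G)) ⟨hF _ B.2.1 g h2, h5⟩
    exact Subgroup.eq_of_le_of_card_ge h4 (card_cj _ _).ge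
  have hKP : ∀ P, IsParS (S : Subgroup G) P → K ≤ o2 P := by
    intro P hP
    refine (le_inf hKS (sup_le ?_ (sSup_le fun B hB => hcon B hB.1 hB.2 P hP))).trans (cs_le_o2 hP)
    exact ((WH_le _ _).trans inf_le_right).trans (centralizer_le (Star.zl_mono _ (le_YS hP)))
  have hY : YS (S : Subgroup G) ≤ normalizer (K : Set G) := sSup_le fun P hP => par_le_of_wc hKwc hP (hKP P hP)
  have hKc : K ≤ centralizer (zl (S : Subgroup G) (YS (S : Subgroup G)) : Set G) := by
    apply cent_symm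
    refine zl_le ?_ (hY.trans ?_)
    · intro z hz
      rw [mem_centralizer_iff]
      intro k hk
      exact (mem_zc.1 hz).2.1 k (hKS hk)
    · intro y hy
      rw [mem_normalizer_iff_cj, cj_centralizer, cj_eq_of_mem_normalizer hy]
  have hKW : K ≤ WH (S : Subgroup G) (YS (S : Subgroup G)) := le_WH hKwc (le_inf hKS hKc)
  have h6 : A ≤ K := (le_sSup (s := {B | B ∈ FF ∧ B ≤ (S : Subgroup G)}) ⟨hA, hAS⟩).trans le_sup_right
  exact hAV (h6.trans (hKW.trans (W_cent hj)))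

theorem WH_eq : WH (S : Subgroup G) (ML (S : Subgroup G) (YS (S : Subgroup G))) =
    WH (S : Subgroup G) (YS (S : Subgroup G)) := by
  apply le_antisymm
  · refine (WH_le _ _).trans ?_
    exact (cs_eq hj hn).le
  · refine le_WH (wc_WH _ _) ?_
    exact (cs_eq hj hn).ge

/-- **The data.** -/
theorem hat_of (h : RBF S) : Hat S (ML (S : Subgroup G) (YS (S : Subgroup G)))
    (VL (S : Subgroup G) (YS (S : Subgroup G))) where
  ctx := h.ctx
  full := h.full
  D := h.data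
  notA := h.notA
  YM := ys_le_M
  eqV := rfl
  nn := nn_V hj hn
  root := by
    have hSM : (S : Subgroup G) ≤ ML (S : Subgroup G) (YS (S : Subgroup G)) := (S_le_YS h.ctx h.full).trans ys_le_M
    refine ⟨hSM, (nn_V hj hn).comm, (nn_V hj hn).sq, notFF_nn hSM (nn_V hj hn), ?_⟩
    have e : (S : Subgroup G) ⊓ centralizer (zl (S : Subgroup G) (ML (S : Subgroup G) (YS (S : Subgroup G))) : Set G) =
        WH (S : Subgroup G) (YS (S : Subgroup G)) := cs_eq hj hn
    rw [e]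
    exact le_rfl
  eqM := by
    show normalizer (WH (S : Subgroup G) (ML (S : Subgroup G) (YS (S : Subgroup G))) : Set G) = _
    rw [WH_eq hj hn]
    rfl
  prin := fun FF h1 _ h3 => prin hj hn FF h1 h3

end

/-- **Some level moves `V*`**, from `NFRoot.false` and `Hat.low`. -/
theorem exists_levX_of (h : RBF S) (hf : ∀ L : Subgroup G, NFRoot (S : Subgroup G) L → False)
    (low : ∀ M V : Subgroup G, Hat S M V → V ≤ o2 (CZ (S : Subgroup G))) :
    ¬ jj (S : Subgroup G) ≤ centralizer (zl (S : Subgroup G) (YS (S : Subgroup G)) : Set G) ∨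
    ∃ K X : Subgroup G, Lev (S : Subgroup G) K ∧ X ≤ zc K ∧ normalizer (K : Set G) ≤ normalizer (X : Set G) ∧
      zl (S : Subgroup G) (YS (S : Subgroup G)) ≤ X ∧ YS (S : Subgroup G) ≤ normalizer (K : Set G) ∧
      WC (S : Subgroup G) K ∧ WC (S : Subgroup G) (nxtX (S : Subgroup G) X) ∧
      ¬ nxtX (S : Subgroup G) X ≤ centralizer (zl (S : Subgroup G) (YS (S : Subgroup G)) : Set G) := by
  by_cases hj : jj (S : Subgroup G) ≤ centralizer (zl (S : Subgroup G) (YS (S : Subgroup G)) : Set G)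
  · right
    by_cases hn : nxtX (S : Subgroup G) (VL (S : Subgroup G) (YS (S : Subgroup G))) ≤
        centralizer (zl (S : Subgroup G) (YS (S : Subgroup G)) : Set G)
    · exfalso
      have H := hat_of hj hn h
      have hSM : (S : Subgroup G) ≤ ML (S : Subgroup G) (YS (S : Subgroup G)) := H.root.le
      have hZ : zc (S : Subgroup G) ≠ ⊥ := MinSimple.Basic.zc_ne_bot S.isPGroup' (h.ctx.sylow_ne_bot S)
      refine hf _ (nfRoot_of (M := ML (S : Subgroup G) (YS (S : Subgroup G))) hSM (nn_V hj hn) hZ (low _ _ H) ?_)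
      intro U hU h2 h3
      exact eq_bot_of_norm h.ctx S h.full hU (fun P hP => (le_YS hP).trans (ys_le_M.trans h2)) h3
    · exact ⟨WH (S : Subgroup G) (YS (S : Subgroup G)), VL (S : Subgroup G) (YS (S : Subgroup G)), lev_W hj,
        V_le_zcW hj, le_normalizer_zl _ _, vs_le_V, ys_le_M, wc_WH _ _, nxt_wc hj, hn⟩
  · exact Or.inl hj

end fin

end Cfsg.Agent.Omega.NOThreeL.RLev
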