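import Cfsg.Agent.Omega.NOThreeL.RLev.HatMk
import Cfsg.Agent.Omega.NOThreeL.VF.One
import Cfsg.Agent.Omega.NOThreeL.RRed.OneTwoFour
import Cfsg.Agent.Omega.NOThreeL.StarEnd

/-!
# Box R: no over-offender on `V^` at the maximal weakly closed level (helper443, #27341)

`K` a weakly closed subgroup of `S`, the largest one which centralises `V* = ⟨Z^Y⟩`; `X ≥ V*` a subgroup with
`K ≤ C(X)`, `N_G(K) ≤ N_G(X)`.

* `wc_of_fam` : `C_S(X) ⟨FF ∩ S⟩` is weakly closed for every `N_G(K)`-invariant family `FF`;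
* `exists_act` : an `N_G(K)`-invariant family with a member in `S` which moves `X` has a member in `S` which moves
  some `V_P`, `P ∈ P*(S)`;
* `fM_le_S`, **`noOver_hat`**, **`noOver_hat'`** : no subgroup of a group `M`, `S ≤ M ≤ N_G(X)`, over-offends on `X`
  (`noOver_hat'` : `NO` for the `V_P` from the FF theorem, `StarEnd.stmtM`).
-/

set_option autoImplicit false
set_option linter.unusedSectionVars false

namespace Cfsg.Agent.Omega.NOThreeL.RLev.NoOverHat

open Subgroup Cfsg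
open Cfsg.Agent.ZN (o2 zc zl jj zj)
open Cfsg.Agent.ZN.ChoiceBase hiding mem_zc
open Cfsg.Agent.Omega.MinPar Cfsg.Agent.Omega.Frame
open Cfsg.Agent.Omega.FFThm (ElemM OffM NoOverM StmtM ConclM syl_of_sylow)
open Cfsg.Agent.Omega.NOThreeL.VF (fM fM_le fM_cj fM_congr fM_le_iff le_fM_iff fM_of_le elemM_cj elemM_mono
  exists_two card_eq_rel)
open Cfsg.Agent.Omega.NOThreeL.Star (YS le_YS)
open Cfsg.Agent.Omega.NO3b.Wc (WC cj_sSup)

universe u

variable {G : Type u} [Group G] [Finite G] {S : Sylow 2 G} {K X : Subgroup G}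

/-- `C_S(X) ⟨FF ∩ S⟩` is weakly closed. -/
theorem wc_of_fam (hK : WC (S : Subgroup G) K) (MX : normalizer (K : Set G) ≤ normalizer (X : Set G))
    (KX : K ≤ centralizer (X : Set G)) (FF : Set (Subgroup G))
    (hF : ∀ A ∈ FF, ∀ m ∈ normalizer (K : Set G), cj m A ∈ FF) :
    WC (S : Subgroup G) ((S : Subgroup G) ⊓ centralizer (X : Set G) ⊔ sSup {B | B ∈ FF ∧ B ≤ (S : Subgroup G)}) := by
  refine ⟨sup_le inf_le_left (sSup_le fun B hB => hB.2), fun g hg => ?_⟩
  have h2 : g ∈ normalizer (K : Set G) :=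
    mem_normalizer_iff_cj.2 (hK.eq g ((cj_mono g ((le_inf hK.le KX).trans le_sup_left)).trans hg))
  have h4 : cj g ((S : Subgroup G) ⊓ centralizer (X : Set G) ⊔ sSup {B | B ∈ FF ∧ B ≤ (S : Subgroup G)}) ≤
      (S : Subgroup G) ⊓ centralizer (X : Set G) ⊔ sSup {B | B ∈ FF ∧ B ≤ (S : Subgroup G)} := by
    have hg' := hg
    change Subgroup.map _ _ ≤ _
    rw [Subgroup.map_sup]
    refine sup_le ((le_inf ?_ ?_).trans le_sup_left) (le_trans ?_ le_sup_right)
    · exact (cj_mono g le_sup_left).trans hg'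
    · refine (cj_mono g inf_le_right).trans ?_
      rw [cj_centralizer, cj_eq_of_mem_normalizer (MX h2)]
    · change cj g (sSup {B | B ∈ FF ∧ B ≤ (S : Subgroup G)}) ≤ _
      rw [cj_sSup]
      refine iSup_le fun B => ?_
      exact le_sSup (a := cj g (B : Subgroup G))
        ⟨hF _ B.2.1 g h2, (cj_mono g ((le_sSup B.2).trans le_sup_right)).trans hg'⟩
  exact Subgroup.eq_of_le_of_card_ge h4 (card_cj _ _).ge

/-- **An invariant family which moves `X` moves some `V_P`.** -/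
theorem exists_act (hc : IsCharacteristicTwoType G) (hK : WC (S : Subgroup G) K)
    (hmax : ∀ D, WC (S : Subgroup G) D → D ≤ centralizer (zl (S : Subgroup G) (YS (S : Subgroup G)) : Set G) → D ≤ K)
    (MX : normalizer (K : Set G) ≤ normalizer (X : Set G))
    (VX : zl (S : Subgroup G) (YS (S : Subgroup G)) ≤ X) (KX : K ≤ centralizer (X : Set G))
    (FF : Set (Subgroup G)) (hF : ∀ A ∈ FF, ∀ m ∈ normalizer (K : Set G), cj m A ∈ FF)
    (hex : ∃ A ∈ FF, A ≤ (S : Subgroup G) ∧ ¬ A ≤ centralizer (X : Set G)) :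
    ∃ B ∈ FF, B ≤ (S : Subgroup G) ∧ ∃ P, IsParS (S : Subgroup G) P ∧
      ¬ B ≤ centralizer (zl (S : Subgroup G) P : Set G) := by
  by_contra hcon
  push Not at hcon
  obtain ⟨A, hA, hAS, hAX⟩ := hex
  have hw := wc_of_fam hK MX KX FF hF
  have h1 := hmax _ hw (HatMk.cent_Wd_of hc hw fun P hP => sup_le
    (inf_le_right.trans (centralizer_le ((Star.zl_mono _ (le_YS hP)).trans VX)))
    (sSup_le fun B hB => hcon B hB.1 hB.2 P hP))
  exact hAX (((le_sSup (s := {B | B ∈ FF ∧ B ≤ (S : Subgroup G)}) ⟨hA, hAS⟩).trans le_sup_right).trans (h1.trans KX))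

/-- No subgroup of `S` over-offends on `X`. -/
theorem fM_le_S (hc : IsCharacteristicTwoType G) (hK : WC (S : Subgroup G) K)
    (hmax : ∀ D, WC (S : Subgroup G) D → D ≤ centralizer (zl (S : Subgroup G) (YS (S : Subgroup G)) : Set G) → D ≤ K)
    (MX : normalizer (K : Set G) ≤ normalizer (X : Set G))
    (VX : zl (S : Subgroup G) (YS (S : Subgroup G)) ≤ X) (KX : K ≤ centralizer (X : Set G))
    (no : ∀ P, IsParS (S : Subgroup G) P → ∀ A ≤ (S : Subgroup G), ElemM (zl (S : Subgroup G) P) A →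
      Nat.card A * Nat.card ↥(zl (S : Subgroup G) P ⊓ centralizer (A : Set G)) ≤
        Nat.card (zl (S : Subgroup G) P) * Nat.card ↥(A ⊓ centralizer (zl (S : Subgroup G) P : Set G)))
    {A : Subgroup G} (hA : A ≤ (S : Subgroup G)) (hE : ElemM X A) : fM X A ≤ Nat.card X := by
  by_contra hlt
  rw [not_le] at hlt
  let 𝒞 : Set (Subgroup G) := {B | B ≤ (S : Subgroup G) ∧ ElemM X B}
  obtain ⟨A₁, hA₁, hmx⟩ := Set.exists_max_image 𝒞 (fM X) (Set.toFinite _) ⟨A, hA, hE⟩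
  obtain ⟨A₂, ⟨hA₂, hf₂⟩, hmin⟩ := Set.exists_min_image {B | B ∈ 𝒞 ∧ fM X B = fM X A₁}
    (fun B => (centralizer (X : Set G)).relIndex B) (Set.toFinite _) ⟨A₁, hA₁, rfl⟩
  have hf : Nat.card X < fM X A₁ := hlt.trans_le (hmx A ⟨hA, hE⟩)
  -- the family
  let FF : Set (Subgroup G) := {B | ElemM X B ∧ fM X B = fM X A₁ ∧
    (centralizer (X : Set G)).relIndex B = (centralizer (X : Set G)).relIndex A₂}
  have hFF : ∀ B ∈ FF, ∀ m ∈ normalizer (K : Set G), cj m B ∈ FF := fun B hB m hm =>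
    ⟨elemM_cj (MX hm) hB.1, (fM_cj (MX hm)).1.trans hB.2.1, (fM_cj (MX hm)).2.trans hB.2.2⟩
  have hne : ∀ B : Subgroup G, fM X B = fM X A₁ → ¬ B ≤ centralizer (X : Set G) := by
    intro B hB hle
    rw [fM_of_le hle] at hB
    omega
  obtain ⟨B, hB, hBS, P, hP, hBP⟩ := exists_act hc hK hmax MX VX KX FF hFF
    ⟨A₂, ⟨hA₂.2, hf₂, rfl⟩, hA₂.1, hne _ hf₂⟩
  set W : Subgroup G := zl (S : Subgroup G) P with hW
  have hWX : W ≤ X := (Star.zl_mono _ (le_YS hP)).trans VX
  have hCX : centralizer (X : Set G) ≤ centralizer (W : Set G) := centralizer_le hWX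
  have hBW : ElemM W B := ⟨fun a ha => hCX (hB.1.sq a ha), fun a ha b hb => hCX (hB.1.comm a ha b hb)⟩
  have hle := fM_le hWX (no P hP B hBS hBW)
  set B₁ : Subgroup G := B ⊓ centralizer (W : Set G) with hB₁
  have hmem : B₁ ∈ 𝒞 := ⟨inf_le_left.trans hBS, elemM_mono hB.1 inf_le_left⟩
  have h2 : fM X B₁ = fM X A₁ := le_antisymm (hmx B₁ hmem) (hB.2.1 ▸ hle)
  have h3 := hmin B₁ ⟨hmem, h2⟩
  rw [← hB.2.2] at h3
  have e4 : B₁ ⊓ centralizer (X : Set G) = B ⊓ centralizer (X : Set G) := by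
    rw [hB₁, inf_assoc, inf_eq_right.2 hCX]
  have h4 : Nat.card B ≤ Nat.card B₁ := by
    rw [card_eq_rel X B, card_eq_rel X B₁, e4]
    exact Nat.mul_le_mul_right _ h3
  have h5 : B₁ = B := Subgroup.eq_of_le_of_card_ge inf_le_left h4
  exact hBP (inf_eq_left.1 h5)

/-- **No over-offender on `V^`.** -/
theorem noOver_hat (hc : IsCharacteristicTwoType G) (hK : WC (S : Subgroup G) K)
    (hmax : ∀ D, WC (S : Subgroup G) D → D ≤ centralizer (zl (S : Subgroup G) (YS (S : Subgroup G)) : Set G) → D ≤ K)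
    (MX : normalizer (K : Set G) ≤ normalizer (X : Set G))
    (VX : zl (S : Subgroup G) (YS (S : Subgroup G)) ≤ X) (KX : K ≤ centralizer (X : Set G))
    (no : ∀ P, IsParS (S : Subgroup G) P → ∀ A ≤ (S : Subgroup G), ElemM (zl (S : Subgroup G) P) A →
      Nat.card A * Nat.card ↥(zl (S : Subgroup G) P ⊓ centralizer (A : Set G)) ≤
        Nat.card (zl (S : Subgroup G) P) * Nat.card ↥(A ⊓ centralizer (zl (S : Subgroup G) P : Set G)))
    {M : Subgroup G} (SM : (S : Subgroup G) ≤ M) (hM : M ≤ normalizer (X : Set G)) : NoOverM X M := by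
  intro D hD hE
  rw [← fM_le_iff]
  obtain ⟨B, hBD, h2, hB⟩ := exists_two (hD.trans hM) hE
  rw [← fM_congr hBD hB]
  obtain ⟨p, hp, hpS⟩ := RRed.OneTwoFour.conj_into SM (hBD.trans hD) h2
  have h3 : cj p B ≤ (S : Subgroup G) := by
    rintro _ ⟨b, hb, rfl⟩
    exact hpS b hb
  rw [← (fM_cj (A := B) (hM hp)).1]
  exact fM_le_S hc hK hmax MX VX KX no h3 (elemM_cj (hM hp) (elemM_mono hE hBD))

/-- `NO` for `V_P`, `P ∈ P*(S)`, from the FF theorem. -/
theorem no_par (hFF : StmtM.{u}) (hc : IsCharacteristicTwoType G) {P : Subgroup G} (hP : IsParS (S : Subgroup G) P)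
    {A : Subgroup G} (hA : A ≤ (S : Subgroup G)) (hE : ElemM (zl (S : Subgroup G) P) A) :
    Nat.card A * Nat.card ↥(zl (S : Subgroup G) P ⊓ centralizer (A : Set G)) ≤
      Nat.card (zl (S : Subgroup G) P) * Nat.card ↥(A ⊓ centralizer (zl (S : Subgroup G) P : Set G)) := by
  by_contra hcon
  have hmP : ¬ A ≤ centralizer (zl (S : Subgroup G) P : Set G) := by
    intro h
    apply hcon
    rw [inf_eq_left.2 h, inf_eq_left.2 (le_centralizer_iff.1 h), mul_comm]
  have hoffW : OffM (zl (S : Subgroup G) P) A := ⟨hE, hmP, (not_le.1 hcon).le⟩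
  exact hcon ((hFF G (S : Subgroup G) P (syl_of_sylow S hP.le) hP.toIsMinPar (hP.isLoc.char2 S hc)
    ⟨A, hA.trans hP.le, hoffW⟩).1 A (hA.trans hP.le) hE)

/-- **No over-offender on `V^`.** -/
theorem noOver_hat' (hc : IsCharacteristicTwoType G) (hK : WC (S : Subgroup G) K)
    (hmax : ∀ D, WC (S : Subgroup G) D → D ≤ centralizer (zl (S : Subgroup G) (YS (S : Subgroup G)) : Set G) → D ≤ K)
    (MX : normalizer (K : Set G) ≤ normalizer (X : Set G))
    (VX : zl (S : Subgroup G) (YS (S : Subgroup G)) ≤ X) (KX : K ≤ centralizer (X : Set G))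
    {M : Subgroup G} (SM : (S : Subgroup G) ≤ M) (hM : M ≤ normalizer (X : Set G)) : NoOverM X M :=
  noOver_hat hc hK hmax MX VX KX (fun _ hP _ hA hE => no_par StarEnd.stmtM hc hP hA hE) SM hM

end Cfsg.Agent.Omega.NOThreeL.RLev.NoOverHat
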