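import Cfsg.Agent.Omega.NOThreeL.RLev.Chain
import Cfsg.Agent.Omega.NOThreeL.ZCut
import Cfsg.Agent.Omega.NOThreeL.RTreeF

/-!
# Box R of NO-3L: the refined (RC') (helper319, THEOREM A; for the tree `RRed/GlueRef`)

`K_e = ke S` the last level of the refined chain, `N_z = ⟨z^Y⟩`, `Y = ⟨P*(S)⟩`, `V* = ⟨Z^Y⟩`.

* `RCw S` : `K_e ≰ C_G(N_z)` for all `z ∈ Z#`;
* `nn_jj` : `J(S)` centralises the members of `NN(S)`;
* `step` : a `Y`-invariant `W = ⟨(W ∩ Z)^Y⟩` which is centralised by the level `K` lies in `xm S K`;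
* `rr_eq_bot` : `RCw S` implies `RR S = 1`;
* `mv_exists` : under `RCw`, for `z ∈ Z#`: `J(S) ≰ C(N_z)`, or some level `K = chn S n ≤ C(N_z)`, `N_z ≤ xm S K`, and a
  best offender `A ≤ S` on `xm S K` does not centralise `N_z` (so `A` offends on `N_z`);
* `lev_exists` : under `RCw`: `J(S) ≰ O₂(P)` for some `P ∈ P*(S)`, or some level `K = chn S n` lies in all `O₂(P)`,
  `V* ≤ xm S K` and `chn S (n + 1) ≰ O₂(P)` for some `P ∈ P*(S)`;
* `act_lev` : `chn S n ≤ O₂(P)`, `chn S (n + 1) ≰ O₂(P)`: a best offender on `xm S (chn S n)` is not in `O₂(P)` and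
  offends on `⟨Z^P⟩`.
-/

set_option autoImplicit false
set_option linter.unusedSectionVars false

namespace Cfsg.Agent.Omega.NOThreeL.RLev

open Subgroup Cfsg Cfsg.Agent.Omega.MinPar Cfsg.Agent.Omega.Frame Cfsg.Agent.Omega.FrameNOFF
open Cfsg.Agent.ZN (o2 zc zl jj)
open Cfsg.Agent.ZN.ChoiceBase hiding mem_zc
open Cfsg.Agent.Omega.Node.NO3L Cfsg.Agent.Omega.NOThreeL.Basic
open Cfsg.Agent.Omega.NOThreeL.ZCut (FZ XZ XZ_le mem_XZ XZ_mono le_normalizer_XZ conj_mem_XZ)
open Cfsg.Agent.Omega.NOThreeL.Star (YS le_YS S_le_YS)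
open Cfsg.Agent.Omega.NO3b.Bang
open Cfsg.Agent.Omega.NO1.BestOff (Best)
open Cfsg.Agent.Omega.FFThm (OffM ElemM)
open Cfsg.Agent.Omega.NO3S.Level (Lev)
open Cfsg.Agent.Omega.NOThreeL.RZ (Inv RR V_le_of le_norm_V V_mono inv_RR)
open Cfsg.Agent.Omega.NOThreeL.RTreeF (RBF)
open Cfsg.Agent.PLocal.ThompsonJ
open Cfsg.Agent.PLocal.ElemAbSup
open Cfsg.Agent.MinSimple.VModule (zc_le le_normalizer_o2 le_normalizer_zl zc_le_zl zl_le o2_isPGroup
  o2_le le_o2 zc_sq)
open Cfsg.Agent.Omega.SQ1.Bau (mem_AA_of_comm elem_comm elem_sq card_sup_comm)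
open scoped Pointwise

universe u

variable {G : Type u} [Group G]

/-- **The refined (RC').** `K_e` does not centralise `N_z = ⟨z^Y⟩`, for all `z ∈ Z#`. -/
def RCw (S : Subgroup G) : Prop := ∀ z ∈ zc S, z ≠ 1 → ¬ ke S ≤ centralizer (XZ z (YS S) : Set G)

section fin

variable [Finite G]

/-! ### `J(S)` centralises the members of `NN(S)` -/

theorem elem_of_nn {S W : Subgroup G} (h : NN S W) : IsElementaryAbelian 2 W :=
  isElementaryAbelian_iff.2 ⟨fun x hx _ hy => (mem_centralizer_iff.1 (h.comm hy) x hx), h.sq⟩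

/-- `A ∈ A(S)` centralises `W ∈ NN(S)` (Thompson's inequality). -/
theorem nn_AA {S W A : Subgroup G} (h : NN S W) (hA : A ∈ AA S) : A ≤ centralizer (W : Set G) := by
  by_contra hne
  apply h.nff A hA.2.1
  have hAc : A ≤ centralizer (A : Set G) := fun a ha =>
    mem_centralizer_iff.2 fun b hb => (elem_comm hA.1 b hb a ha)
  refine { toElemM := offM_of_abel hAc (fun a ha => elem_sq hA.1 a ha), ne := hne, le := ?_ }
  set C := A ⊓ centralizer (W : Set G) with hC
  have hc : ∀ a ∈ C, ∀ v ∈ W, a * v = v * a := fun a ha v hv =>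
    (mem_centralizer_iff.1 (mem_inf.1 ha).2 v hv).symm
  have h1 : IsElementaryAbelian 2 (C ⊔ W : Subgroup G) :=
    isElementaryAbelian_sup (isElementaryAbelian_mono hA.1 inf_le_left) (elem_of_nn h)
      fun v hv => mem_centralizer_iff.2 fun a ha => hc a ha v hv
  have h3 := hA.2.2 _ h1 (sup_le (inf_le_left.trans hA.2.1) h.le)
  have h4 := card_sup_comm hc
  have h5 : Nat.card ↥(C ⊓ W) ≤ Nat.card ↥(W ⊓ centralizer (A : Set G)) := by
    refine Subgroup.card_le_of_le ?_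
    rintro x ⟨hx1, hx2⟩
    exact ⟨hx2, mem_centralizer_iff.2 fun a ha => elem_comm hA.1 a ha x (mem_inf.1 hx1).1⟩
  calc Nat.card W * Nat.card C = Nat.card ↥(C ⊔ W) * Nat.card ↥(C ⊓ W) := by rw [h4]; ring
    _ ≤ _ := Nat.mul_le_mul h3 h5

/-- **`J(S)` centralises `W ∈ NN(S)`.** -/
theorem nn_jj {S W : Subgroup G} (h : NN S W) : jj S ≤ centralizer (W : Set G) := by
  rw [jj_eq]
  exact sSup_le fun A hA => nn_AA h hA

/-! ### The step -/

/-- `L' = ⟨P ∈ P*(S) : K ≤ O₂(P)⟩ S` normalises the level `K`. -/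
theorem norm_of_o2 {S : Sylow 2 G} {K : Subgroup G} (hK : Lev (S : Subgroup G) K) :
    sSup {P | IsParS (S : Subgroup G) P ∧ K ≤ o2 P} ⊔ (S : Subgroup G) ≤ normalizer (K : Set G) := by
  refine sup_le (sSup_le ?_) hK.S_norm
  rintro P ⟨hP, h1⟩
  exact hK.le_norm_of_o2 h1 (hP.isLoc.o2_le S)

/-- **The step**: a `Y`-invariant `W = ⟨(W ∩ Z)^Y⟩` which is centralised by the level `K` lies in the module of `K`. -/
theorem step {S : Sylow 2 G} (hS : (S : Subgroup G) ≤ YS (S : Subgroup G)) {K W : Subgroup G}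
    (hK : Lev (S : Subgroup G) K) (hY : YS (S : Subgroup G) ≤ normalizer (W : Set G))
    (gen : W ≤ NoFF.Basic.V (W ⊓ zc (S : Subgroup G)) (YS (S : Subgroup G)))
    (hc : K ≤ centralizer (W : Set G)) : W ≤ zl (S : Subgroup G) (normalizer (K : Set G)) ∧ W ≤ xm (S : Subgroup G) K := by
  have key : W ≤ zl (S : Subgroup G) (normalizer (K : Set G)) := by
    set L := sSup {P | IsParS (S : Subgroup G) P ∧ K ≤ o2 P} ⊔ (S : Subgroup G) with hL
    have hLY : L ≤ YS (S : Subgroup G) := sup_le (sSup_le fun P hP => le_YS hP.1) hS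
    have h1 : NoFF.Basic.V (W ⊓ zc (S : Subgroup G)) L ≤ W := V_le_of inf_le_left (hLY.trans hY)
    have h2 : W ≤ NoFF.Basic.V (W ⊓ zc (S : Subgroup G)) L := by
      refine gen.trans (V_le_of (RZ.Z_le _ _) ?_)
      refine sSup_le fun P hP => ?_
      by_cases h3 : K ≤ o2 P
      · exact (le_trans (show P ≤ sSup {P | IsParS (S : Subgroup G) P ∧ K ≤ o2 P} from le_sSup ⟨hP, h3⟩)
          le_sup_left).trans (le_norm_V _ L)
      · have hn : P ≤ normalizer ((P ⊓ centralizer (W : Set G) : Subgroup G) : Set G) := by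
          intro p hp
          rw [mem_normalizer_iff_cj, cj_inf, cj_centralizer, cj_eq_of_mem_normalizer (le_normalizer hp),
            cj_eq_of_mem_normalizer (hY (le_YS hP hp))]
        rcases hP.toIsPar.sup_eq_or_inf_le S inf_le_left hn with h4 | h4
        · rw [← h4]
          refine sup_le ?_ (le_sup_right.trans (le_norm_V _ L))
          refine inf_le_right.trans ?_
          exact (centralizer_le h1).trans (centralizer_le_normalizer _)
        · exfalso
          refine h3 (le_trans ?_ h4)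
          exact le_inf hK.le (le_inf (hK.le.trans hP.le) hc)
    refine h2.trans (V_le_of ?_ ?_)
    · exact inf_le_right.trans (zc_le_zl _ _)
    · exact (norm_of_o2 hK).trans (le_normalizer_zl _ _)
  exact ⟨key, key.trans (zl_le_xm hK)⟩

/-- the next level centralises `W`, up to best offenders on the module -/
theorem exists_best_of {S W : Subgroup G} {n : ℕ} (hW : W ≤ xm S (chn S n))
    (h : ¬ chn S (n + 1) ≤ centralizer (W : Set G)) :
    ∃ A : Subgroup G, A ≤ S ∧ Best (xm S (chn S n)) A ∧ ¬ A ≤ centralizer (W : Set G) := by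
  by_contra hcon
  push Not at hcon
  apply h
  show nxtX S (xm S (chn S n)) ≤ _
  refine sup_le (inf_le_right.trans (centralizer_le hW)) (sSup_le ?_)
  rintro A ⟨h1, h2⟩
  exact hcon A h1 h2

/-- all levels centralise the members of `NN(S)` of this form -/
theorem chn_cent {S : Sylow 2 G} (hS : (S : Subgroup G) ≤ YS (S : Subgroup G)) {W : Subgroup G}
    (h : Inv (S : Subgroup G) W) (n : ℕ) : chn (S : Subgroup G) n ≤ centralizer (W : Set G) := by
  induction n with
  | zero => exact nn_jj h.nn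
  | succ n ih =>
    have hW := (step hS (chn_lev (S : Subgroup G) n) h.ys h.gen ih).2
    by_contra hne
    obtain ⟨A, hA, hb, hneA⟩ := exists_best_of hW hne
    exact hneA (h.nn.best hA hW hb)

theorem ke_cent {S : Sylow 2 G} (hS : (S : Subgroup G) ≤ YS (S : Subgroup G)) {W : Subgroup G}
    (h : Inv (S : Subgroup G) W) : ke (S : Subgroup G) ≤ centralizer (W : Set G) := by
  obtain ⟨n, h1, -⟩ := ke_eq (S : Subgroup G)
  rw [h1]
  exact chn_cent hS h n

/-- **`RCw S` implies `RR S = 1`.** -/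
theorem rr_bot {S : Sylow 2 G} (hS : (S : Subgroup G) ≤ YS (S : Subgroup G)) (hr : RCw (S : Subgroup G)) :
    RR (S : Subgroup G) = ⊥ := by
  by_contra hne
  have hi := inv_RR (S : Subgroup G)
  have h0 : RR (S : Subgroup G) ⊓ zc (S : Subgroup G) ≠ ⊥ := by
    intro h0
    apply hne
    rw [eq_bot_iff]
    refine hi.gen.trans ?_
    rw [h0]
    refine NoFF.Basic.V_le fun p _ => ?_
    rw [show MulAut.conj p • (⊥ : Subgroup G) = ⊥ from Subgroup.map_bot _]
  obtain ⟨⟨z, hz⟩, hz1'⟩ := Subgroup.ne_bot_iff_exists_ne_one.1 h0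
  have hz1 : z ≠ 1 := fun h => hz1' (Subtype.ext h)
  refine hr z hz.2 hz1 ((ke_cent hS hi).trans (centralizer_le ?_))
  refine XZ_le fun p hp => ?_
  exact (mem_normalizer_iff.1 (hi.ys hp) z).1 hz.1

/-- **`hR` of `RRed/GlueRef`.** -/
theorem rr_eq_bot {S : Sylow 2 G} (h : RBF S) (hr : RCw (S : Subgroup G)) : RR (S : Subgroup G) = ⊥ :=
  rr_bot (S_le_YS h.ctx h.full) hr

/-! ### (mv): `N_z` is moved -/

/-- `N_z = ⟨z^Y⟩`, `z ∈ Z` -/
theorem XZ_gen {S : Subgroup G} {z : G} (hz : z ∈ zc S) :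
    XZ z (YS S) ≤ NoFF.Basic.V (XZ z (YS S) ⊓ zc S) (YS S) := by
  refine XZ_le fun p hp => ?_
  have h1 : z ∈ NoFF.Basic.V (XZ z (YS S) ⊓ zc S) (YS S) := RZ.Z_le _ _ ⟨mem_XZ, hz⟩
  exact (mem_normalizer_iff.1 (le_norm_V _ _ hp) z).1 h1

/-- **(mv).** Under `RCw`, for `z ∈ Z#`: `J(S)` moves `N_z`, or `N_z ≤ xm S K` for a level `K = chn S n` which
centralises `N_z`, and a best offender `A ≤ S` on `xm S K` moves `N_z` (so it offends on `N_z`). -/
theorem mv_exists {S : Sylow 2 G} (hS : (S : Subgroup G) ≤ YS (S : Subgroup G)) (hr : RCw (S : Subgroup G))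
    {z : G} (hz : z ∈ zc (S : Subgroup G)) (hz1 : z ≠ 1) :
    (∃ A ∈ AA (S : Subgroup G), ¬ A ≤ centralizer (XZ z (YS (S : Subgroup G)) : Set G)) ∨
    ∃ n, chn (S : Subgroup G) n ≤ centralizer (XZ z (YS (S : Subgroup G)) : Set G) ∧
      XZ z (YS (S : Subgroup G)) ≤ xm (S : Subgroup G) (chn (S : Subgroup G) n) ∧
      ∃ A : Subgroup G, A ≤ (S : Subgroup G) ∧ Best (xm (S : Subgroup G) (chn (S : Subgroup G) n)) A ∧
        ¬ A ≤ centralizer (XZ z (YS (S : Subgroup G)) : Set G) ∧ OffM (XZ z (YS (S : Subgroup G))) A := by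
  classical
  have h0 : ∃ n, ¬ chn (S : Subgroup G) n ≤ centralizer (XZ z (YS (S : Subgroup G)) : Set G) := by
    obtain ⟨n, h1, -⟩ := ke_eq (S : Subgroup G)
    exact ⟨n, h1 ▸ hr z hz hz1⟩
  obtain ⟨m, hm, hmin⟩ : ∃ m, ¬ chn (S : Subgroup G) m ≤ centralizer (XZ z (YS (S : Subgroup G)) : Set G) ∧
      ∀ k < m, chn (S : Subgroup G) k ≤ centralizer (XZ z (YS (S : Subgroup G)) : Set G) :=
    ⟨Nat.find h0, Nat.find_spec h0, fun k hk => not_not.1 (Nat.find_min h0 hk)⟩
  rcases m with _ | n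
  · left
    by_contra hcon
    push Not at hcon
    apply hm
    show jj (S : Subgroup G) ≤ _
    rw [jj_eq]
    exact sSup_le fun A hA => hcon A hA
  · right
    have h1 := hmin n (Nat.lt_succ_self n)
    have h2 := (step hS (chn_lev (S : Subgroup G) n) (le_normalizer_XZ z _) (XZ_gen hz) h1).2
    obtain ⟨A, hA, hb, hne⟩ := exists_best_of h2 hm
    exact ⟨n, h1, h2, A, hA, hb, hne, hb.offM h2 hne⟩

/-! ### The first level which moves something -/

/-- **The level `k₀`.** Under `RCw` (`Z ≠ 1`): `J(S) ≰ O₂(P)` for some `P ∈ P*(S)`, or for some `n` the level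
`K = chn S n` lies in `O₂(P)` for all `P ∈ P*(S)`, `Y ≤ N_G(K)`, `V* ≤ xm S K`, and `chn S (n + 1) ≰ O₂(P)` for some
`P ∈ P*(S)`. -/
theorem lev_exists {S : Sylow 2 G} (hr : RCw (S : Subgroup G))
    (hZ : zc (S : Subgroup G) ≠ ⊥) :
    (∃ P, IsParS (S : Subgroup G) P ∧ ¬ jj (S : Subgroup G) ≤ o2 P) ∨
    ∃ n, (∀ P, IsParS (S : Subgroup G) P → chn (S : Subgroup G) n ≤ o2 P) ∧
      YS (S : Subgroup G) ≤ normalizer (chn (S : Subgroup G) n : Set G) ∧
      zl (S : Subgroup G) (YS (S : Subgroup G)) ≤ xm (S : Subgroup G) (chn (S : Subgroup G) n) ∧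
      ∃ P, IsParS (S : Subgroup G) P ∧ ¬ chn (S : Subgroup G) (n + 1) ≤ o2 P := by
  classical
  have hN : ∀ n, (∀ P, IsParS (S : Subgroup G) P → chn (S : Subgroup G) n ≤ o2 P) →
      YS (S : Subgroup G) ≤ normalizer (chn (S : Subgroup G) n : Set G) := fun n h => sSup_le fun P hP =>
    (chn_lev (S : Subgroup G) n).le_norm_of_o2 (h P hP) (hP.isLoc.o2_le S)
  have h0 : ∃ n, ∃ P, IsParS (S : Subgroup G) P ∧ ¬ chn (S : Subgroup G) n ≤ o2 P := by
    by_contra hcon
    push Not at hcon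
    obtain ⟨n, h1, -⟩ := ke_eq (S : Subgroup G)
    obtain ⟨⟨z, hz⟩, hz1'⟩ := Subgroup.ne_bot_iff_exists_ne_one.1 hZ
    have hz1 : z ≠ 1 := fun h => hz1' (Subtype.ext h)
    have hY : YS (S : Subgroup G) ≤ normalizer (ke (S : Subgroup G) : Set G) := by
      rw [h1]; exact hN n (hcon n)
    refine hr z hz hz1 ((NO3S.Level.le_centralizer_zc (ke (S : Subgroup G))).trans (centralizer_le ?_))
    refine XZ_le fun p hp => ?_
    exact (mem_normalizer_iff.1 (NO3S.Level.normalizer_le_zc _ (hY hp)) z).1 ((ke_lev (S : Subgroup G)).zc_le hz)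
  obtain ⟨m, hm, hmin⟩ : ∃ m, (∃ P, IsParS (S : Subgroup G) P ∧ ¬ chn (S : Subgroup G) m ≤ o2 P) ∧
      ∀ k < m, ¬ ∃ P, IsParS (S : Subgroup G) P ∧ ¬ chn (S : Subgroup G) k ≤ o2 P :=
    ⟨Nat.find h0, Nat.find_spec h0, fun k hk => Nat.find_min h0 hk⟩
  rcases m with _ | n
  · exact Or.inl hm
  · right
    have h1 : ∀ P, IsParS (S : Subgroup G) P → chn (S : Subgroup G) n ≤ o2 P := fun P hP => by
      by_contra hne
      exact hmin n (Nat.lt_succ_self n) ⟨P, hP, hne⟩
    refine ⟨n, h1, hN n h1, ?_, hm⟩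
    exact (Star.zl_mono _ (hN n h1)).trans (zl_le_xm (chn_lev (S : Subgroup G) n))

/-- `P ∈ P*(S)` normalises the level `K` and `K' = nxtX S (xm S K) ≰ O₂(P)`: a best offender `A ≤ S` on `xm S K`
is not in `O₂(P)`, and it offends on `⟨Z^P⟩`. -/
theorem act_lev {S : Sylow 2 G} {n : ℕ} {P : Subgroup G} (hP : IsParS (S : Subgroup G) P)
    (h1 : chn (S : Subgroup G) n ≤ o2 P) (h2 : ¬ chn (S : Subgroup G) (n + 1) ≤ o2 P) :
    ∃ A : Subgroup G, A ≤ (S : Subgroup G) ∧ Best (xm (S : Subgroup G) (chn (S : Subgroup G) n)) A ∧ ¬ A ≤ o2 P ∧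
      OffM (zl (S : Subgroup G) P) A := by
  set X := xm (S : Subgroup G) (chn (S : Subgroup G) n) with hX
  have hK := chn_lev (S : Subgroup G) n
  have hPK : P ≤ normalizer (chn (S : Subgroup G) n : Set G) := hK.le_norm_of_o2 h1 (hP.isLoc.o2_le S)
  have hPX : P ≤ normalizer (X : Set G) := hPK.trans (le_norm_xm _ _)
  have hzX : zl (S : Subgroup G) P ≤ X := (Star.zl_mono _ hPK).trans (zl_le_xm hK)
  have hcz : (S : Subgroup G) ⊓ centralizer (zl (S : Subgroup G) P : Set G) ≤ o2 P := by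
    have hn : P ≤ normalizer ((P ⊓ centralizer (zl (S : Subgroup G) P : Set G) : Subgroup G) : Set G) := by
      intro p hp
      rw [mem_normalizer_iff_cj, cj_inf, cj_centralizer, cj_eq_of_mem_normalizer (le_normalizer hp),
        cj_eq_of_mem_normalizer (le_normalizer_zl _ _ hp)]
    rcases hP.toIsPar.sup_eq_or_inf_le S inf_le_left hn with h4 | h4
    · exfalso
      apply hP.not_zc
      rw [← h4]
      refine sup_le ?_ ?_
      · exact inf_le_right.trans ((centralizer_le (zc_le_zl _ _)).trans (centralizer_le_normalizer _))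
      · exact (le_CZ S).trans (centralizer_le_normalizer _)
    · exact le_trans (le_inf inf_le_left (le_inf (inf_le_left.trans hP.le) inf_le_right)) h4
  have hcX : (S : Subgroup G) ⊓ centralizer (X : Set G) ≤ o2 P :=
    (inf_le_inf_left _ (centralizer_le hzX)).trans hcz
  by_contra hcon
  push Not at hcon
  apply h2
  show nxtX (S : Subgroup G) X ≤ _
  refine sup_le hcX (sSup_le ?_)
  rintro A ⟨hA, hb⟩
  by_contra hne
  refine hcon A hA hb hne (hb.offM hzX fun h5 => hne ?_)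
  exact (le_inf hA h5).trans hcz

end fin

end Cfsg.Agent.Omega.NOThreeL.RLev
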