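import Cfsg.Agent.Omega.NOThreeL.RLev.Ref
import Cfsg.Agent.Omega.NOThreeL.EndFive
import Cfsg.Agent.Omega.NO3b.Final
import Cfsg.Agent.Omega.NOThreeL.MergeNF

/-!
# Box R of NO-3L: the NotFF root of the last level (helper319, THEOREM A (3))

`M ≥ S`, `V = ⟨Z^M⟩ ∈ NN(S)`, `L = Lr S M = M ∩ N_G(C_S(V))`.

* `factor` : `M = C_M(V) L` (Frattini); `zl_Lr` : `⟨Z^L⟩ = V`;
* `nonLoc_Lr` : `⟨M, C_G(Z)⟩` nonlocal implies `⟨L, C_G(Z)⟩` nonlocal;
* `notFF_nn` : `V` is not FF in the strong sense;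
* `nfRoot_of` : `V ≤ O₂(C_G(Z))`, `⟨M, C_G(Z)⟩` nonlocal: `NFRoot S L`.
-/

set_option autoImplicit false
set_option linter.unusedSectionVars false

namespace Cfsg.Agent.Omega.NOThreeL.RLev

open Subgroup Cfsg Cfsg.Agent.Omega.MinPar Cfsg.Agent.Omega.Frame Cfsg.Agent.Omega.FrameNOFF
open Cfsg.Agent.ZN (o2 zc zl jj)
open Cfsg.Agent.ZN.ChoiceBase hiding mem_zc
open Cfsg.Agent.Omega.Node.NO3L Cfsg.Agent.Omega.NOThreeL.Basic
open Cfsg.Agent.Omega.NO3b.Bang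
open Cfsg.Agent.Omega.NO3b.EZero (NotFF)
open Cfsg.Agent.Omega.NOThreeL.Star (YS le_YS S_le_YS)
open Cfsg.Agent.Omega.NOThreeL.MergeNF (NFRoot)
open Cfsg.Agent.MinSimple.VModule (zc_le le_normalizer_o2 le_normalizer_zl zc_le_zl zl_le o2_isPGroup
  o2_le le_o2 zc_sq)

universe u

variable {G : Type u} [Group G]

/-- `L = M ∩ N_G(C_S(V_M))`, `V_M = ⟨Z^M⟩` -/
def Lr (S M : Subgroup G) : Subgroup G :=
  M ⊓ normalizer ((S ⊓ centralizer (zl S M : Set G) : Subgroup G) : Set G)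

section fin

variable [Finite G] {S : Sylow 2 G} {M : Subgroup G}

theorem Lr_le : Lr (S : Subgroup G) M ≤ M := inf_le_left

theorem le_Lr (hM : (S : Subgroup G) ≤ M) : (S : Subgroup G) ≤ Lr (S : Subgroup G) M := by
  refine le_inf hM fun s hs => ?_
  rw [mem_normalizer_iff_cj, cj_inf, cj_centralizer, cj_eq_of_mem_normalizer (le_normalizer hs),
    cj_eq_of_mem_normalizer (le_normalizer_zl _ _ (hM hs))]

/-- `M = C_M(V) L` -/
theorem factor (hM : (S : Subgroup G) ≤ M) {m : G} (hm : m ∈ M) :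
    ∃ c ∈ centralizer (zl (S : Subgroup G) M : Set G), c⁻¹ * m ∈ Lr (S : Subgroup G) M := by
  set K : Subgroup G := M ⊓ centralizer (zl (S : Subgroup G) M : Set G) with hK
  have hMK : M ≤ normalizer (K : Set G) := by
    intro g hg
    rw [mem_normalizer_iff_cj, hK, cj_inf, cj_centralizer, cj_eq_of_mem_normalizer (le_normalizer hg),
      cj_eq_of_mem_normalizer (le_normalizer_zl _ _ hg)]
  obtain ⟨c, hc, h1⟩ := EndFive.frattini (S := S) (hM.trans hMK) (hMK hm)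
  have e : (S : Subgroup G) ⊓ K = (S : Subgroup G) ⊓ centralizer (zl (S : Subgroup G) M : Set G) := by
    rw [hK, ← inf_assoc, inf_eq_left.2 hM]
  rw [e] at h1
  exact ⟨c, hc.2, M.mul_mem (M.inv_mem hc.1) hm, h1⟩

/-- `⟨Z^L⟩ = V` -/
theorem zl_Lr (hM : (S : Subgroup G) ≤ M) :
    zl (S : Subgroup G) (Lr (S : Subgroup G) M) = zl (S : Subgroup G) M := by
  have h1 : zl (S : Subgroup G) (Lr (S : Subgroup G) M) ≤ zl (S : Subgroup G) M := Star.zl_mono _ Lr_le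
  refine le_antisymm h1 (zl_le (zc_le_zl _ _) fun m hm => ?_)
  obtain ⟨c, hc, hl⟩ := factor hM hm
  have h2 : c ∈ normalizer (zl (S : Subgroup G) (Lr (S : Subgroup G) M) : Set G) :=
    centralizer_le_normalizer _ (centralizer_le h1 hc)
  have h3 := mul_mem h2 (le_normalizer_zl (S : Subgroup G) _ hl)
  rwa [mul_inv_cancel_left] at h3

/-- `⟨L, C_G(Z)⟩` is nonlocal if `⟨M, C_G(Z)⟩` is. -/
theorem nonLoc_Lr (hM : (S : Subgroup G) ≤ M) (hn : NonLoc M (CZ (S : Subgroup G))) :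
    NonLoc (Lr (S : Subgroup G) M) (CZ (S : Subgroup G)) := by
  intro U hU h1 h2
  refine hn U hU (fun m hm => ?_) h2
  obtain ⟨c, hc, hl⟩ := factor hM hm
  have h3 := mul_mem (h2 (centralizer_le (zc_le_zl _ _) hc)) (h1 hl)
  rwa [mul_inv_cancel_left] at h3

/-- `V ∈ NN(S)` is not FF in the strong sense. -/
theorem notFF_nn (hM : (S : Subgroup G) ≤ M) (nn : NN (S : Subgroup G) (zl (S : Subgroup G) M)) :
    NotFF (zl (S : Subgroup G) M) := by
  refine NO3b.Final.notFF_of hM ?_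
  rintro ⟨A, hA, ho⟩
  exact nn.nff A hA ho

/-- **The root.** -/
theorem nfRoot_of (hM : (S : Subgroup G) ≤ M) (nn : NN (S : Subgroup G) (zl (S : Subgroup G) M))
    (hZ : zc (S : Subgroup G) ≠ ⊥) (low : zl (S : Subgroup G) M ≤ o2 (CZ (S : Subgroup G)))
    (hn : NonLoc M (CZ (S : Subgroup G))) : NFRoot (S : Subgroup G) (Lr (S : Subgroup G) M) := by
  have hcs : (S : Subgroup G) ⊓ centralizer (zl (S : Subgroup G) M : Set G) ≤ o2 (Lr (S : Subgroup G) M) :=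
    le_o2 (inf_le_left.trans (le_Lr hM)) (S.isPGroup'.to_le inf_le_left) inf_le_right
  refine ⟨⟨le_Lr hM, fun h0 => hZ ?_⟩, ?_, ?_, ?_, nonLoc_Lr hM hn⟩
  · rw [eq_bot_iff, ← h0]
    exact ((zc_le_zl _ _).trans (le_inf nn.le nn.comm)).trans hcs
  · rw [zl_Lr hM]; exact hcs
  · rw [zl_Lr hM]; exact low
  · rw [zl_Lr hM]; exact notFF_nn hM nn

end fin

end Cfsg.Agent.Omega.NOThreeL.RLev
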