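import Cfsg.Agent.Omega.NOThreeL.RLev.SeedXOf
import Cfsg.Agent.Omega.NOThreeL.RLev.LowQ
import Cfsg.Agent.Omega.NOThreeL.RRed.Base

/-!
# Box R of NO-3L: the level `(Q, Ω₁(Z(Q)))`, `Q = C_S(V*)` (helper678 #27071, helper2 #27139)

* `low_of_com` : `Ω₁(Z(Q)) ≤ O₂(C_G(Z))` if the `C_G(Z)`-conjugates of `V*` commute with `V*`; `low_Q` : if
  `V* ≤ WP S` (the product of all lines on `Z`);
* **`seedX_Q`**, `topLev_Q` : `J(S) ≤ C(V*)`, `W^ = Q`, `V* ≤ WP S`: `TopLev S Q (Ω₁(Z(Q)))`.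
-/

set_option autoImplicit false
set_option linter.unusedSectionVars false

namespace Cfsg.Agent.Omega.NOThreeL.RLev.SeedQ

open Subgroup Cfsg Cfsg.Agent.Omega.MinPar Cfsg.Agent.Omega.Frame Cfsg.Agent.Omega.FrameNOFF
open Cfsg.Agent.ZN (o2 zc zl jj)
open Cfsg.Agent.Omega.Node.NO3L Cfsg.Agent.Omega.NOThreeL.Basic
open Cfsg.Agent.Omega.NO3b.Wc (WC WH)
open Cfsg.Agent.Omega.NO3b.EndX (AbsP)
open Cfsg.Agent.Omega.NOThreeL.Star (YS le_YS S_le_YS)
open Cfsg.Agent.Omega.NOThreeL.RTreeF (RBF)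
open Cfsg.Agent.Omega.NOThreeL.RRed (Wd)
open Cfsg.Agent.Omega.ML.Final (MLK)
open Cfsg.Agent.MinSimple.VModule (normalizer_le_normalizer_zc le_normalizer_zl zc_le_zl zc_sq)

universe u

variable {G : Type u} [Group G] [Finite G] {S : Sylow 2 G}

/-- `C_G(Z)` has characteristic 2 -/
theorem char2_CZ (h : RBF S) :
    CZ (S : Subgroup G) ⊓ centralizer (o2 (CZ (S : Subgroup G)) : Set G) ≤ o2 (CZ (S : Subgroup G)) := by
  have h1 : IsLoc (S : Subgroup G) (CZ (S : Subgroup G)) :=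
    isLoc_of_le_normalizer S (le_CZ S) (S.isPGroup'.to_le (MinSimple.VModule.zc_le _))
      (MinSimple.Basic.zc_ne_bot S.isPGroup' (h.ctx.sylow_ne_bot S)) (centralizer_le_normalizer _)
  exact h1.char2 S h.ctx.char2

/-- `Ω₁(Z(Q)) ≤ O₂(C_G(Z))` if the `C_G(Z)`-conjugates of `V*` commute with `V*`. -/
theorem low_of_com (h : RBF S)
    (sq : ∀ v ∈ zl (S : Subgroup G) (YS (S : Subgroup G)), v * v = 1)
    (com : ∀ x ∈ CZ (S : Subgroup G), ∀ v ∈ zl (S : Subgroup G) (YS (S : Subgroup G)),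
      ∀ w ∈ zl (S : Subgroup G) (YS (S : Subgroup G)), v * (x * w * x⁻¹) = x * w * x⁻¹ * v) :
    zc ((S : Subgroup G) ⊓ centralizer (zl (S : Subgroup G) (YS (S : Subgroup G)) : Set G)) ≤
      o2 (CZ (S : Subgroup G)) :=
  LowQ.zcQ_le (char2_CZ h) ((S_le_YS h.ctx h.full).trans (le_normalizer_zl _ _))
    (centralizer_le (zc_le_zl _ _)) sq com

/-- **`Ω₁(Z(Q)) ≤ O₂(C_G(Z))`**, `V* ≤ WP S`. -/
theorem low_Q (h : RBF S) (hwp : Wd (S : Subgroup G) ≤ WP (S : Subgroup G)) :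
    zc ((S : Subgroup G) ⊓ centralizer (zl (S : Subgroup G) (YS (S : Subgroup G)) : Set G)) ≤
      o2 (CZ (S : Subgroup G)) := by
  have hg := NOThreeL.Basic.geo h.ctx.char2 h.data
  refine low_of_com h (fun v hv => ?_) fun x hx v hv w hw => ?_
  · have h1 := hg.W_sq v (hwp hv)
    rwa [pow_two] at h1
  · have h1 : x * w * x⁻¹ ∈ WP (S : Subgroup G) := by
      rw [← conj_WP hx]
      exact ⟨w, hwp hw, rfl⟩
    exact (mem_centralizer_iff.1 (hg.W_comm h1) v (hwp hv))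

/-- **`nxtX S (Ω₁(Z(Q)))` moves `V*`** if `W^ = Q`. -/
theorem seedX_Q (ml : MLK.{u, u}) (ha : AbsP.{u, u}) (h : RBF S)
    (hj : jj (S : Subgroup G) ≤ centralizer (zl (S : Subgroup G) (YS (S : Subgroup G)) : Set G))
    (hwp : Wd (S : Subgroup G) ≤ WP (S : Subgroup G))
    (hQ : WH (S : Subgroup G) (YS (S : Subgroup G)) =
      (S : Subgroup G) ⊓ centralizer (zl (S : Subgroup G) (YS (S : Subgroup G)) : Set G)) :
    ¬ nxtX (S : Subgroup G) (zc ((S : Subgroup G) ⊓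
      centralizer (zl (S : Subgroup G) (YS (S : Subgroup G)) : Set G))) ≤
        centralizer (zl (S : Subgroup G) (YS (S : Subgroup G)) : Set G) := by
  have h1 := SeedHat.seedX_of_low ml ha h hj (by rw [hQ]; exact low_Q h hwp)
  rwa [hQ] at h1

/-- **The level `(Q, Ω₁(Z(Q)))`.** -/
theorem topLev_Q (ml : MLK.{u, u}) (ha : AbsP.{u, u}) (h : RBF S)
    (hj : jj (S : Subgroup G) ≤ centralizer (zl (S : Subgroup G) (YS (S : Subgroup G)) : Set G))
    (hwp : Wd (S : Subgroup G) ≤ WP (S : Subgroup G))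
    (hQ : WH (S : Subgroup G) (YS (S : Subgroup G)) =
      (S : Subgroup G) ⊓ centralizer (zl (S : Subgroup G) (YS (S : Subgroup G)) : Set G)) :
    TopLev S ((S : Subgroup G) ⊓ centralizer (zl (S : Subgroup G) (YS (S : Subgroup G)) : Set G))
      (zc ((S : Subgroup G) ⊓ centralizer (zl (S : Subgroup G) (YS (S : Subgroup G)) : Set G))) := by
  have h1 := SeedHat.topLev_zc ml ha h hj (by rw [hQ]; exact low_Q h hwp)
  rwa [hQ] at h1

end Cfsg.Agent.Omega.NOThreeL.RLev.SeedQ
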