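import Cfsg.Agent.Omega.NOThreeL.RLev.LowZc
import Cfsg.Agent.Omega.NOThreeL.RRed.LevVX

/-!
# Box R of NO-3L, one class of `𝔽₂`-blocks, `J(S) ≤ C(V*)`: `Top S` (helper978 `RRed/LevVX`)

* `vx_bks` : `VX S`;  `top_bks` : `Top S` from `SeedQ S`;  **`top_bks'`** : `Top S`, no open input.
-/

set_option autoImplicit false
set_option linter.unusedSectionVars false

namespace Cfsg.Agent.Omega.NOThreeL.RLev

open Subgroup Cfsg Cfsg.Agent.Omega.MinPar Cfsg.Agent.Omega.Frame Cfsg.Agent.Omega.FrameNOFF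
open Cfsg.Agent.ZN (o2 zc zl jj)
open Cfsg.Agent.Omega.NOThreeL.RTreeF (RBF)
open Cfsg.Agent.Omega.NOThreeL.RTree (RB)
open Cfsg.Agent.Omega.NOThreeL.Merge (MZ)
open Cfsg.Agent.Omega.NOThreeL.RRed (Wd)
open Cfsg.Agent.Omega.NOThreeL.RRed.FourTree (Bks)
open Cfsg.Agent.Omega.NO3b.EndX (AbsP)
open Cfsg.Agent.Omega.ML.Final (MLK)

universe u

variable {G : Type u} [Group G] [Finite G] {S : Sylow 2 G}
  {I : Type u} [Fintype I] [DecidableEq I] {N E : I → Subgroup G} {Om : I → Type u}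
  [∀ i, Fintype (Om i)] [∀ i, DecidableEq (Om i)] {phi : ∀ i, Finset (Om i) → G}

/-- **`VX S`**, `𝔽₂`-blocks -/
theorem vx_bks (B : RB S) (hB : Bks S N E ⊥ Om phi)
    (irr : ∀ U : Subgroup G, U ≤ Wd (S : Subgroup G) → MZ (S : Subgroup G) ≤ normalizer (U : Set G) → U ≠ ⊥ →
      Wd (S : Subgroup G) ≤ U) : VX S := fun _ _ h =>
  ⟨RRed.LevVX.top_X B hB irr h, RRed.LevVX.top_K B hB irr h⟩

/-- **`Top S`**, `𝔽₂`-blocks, from `SeedQ S` -/
theorem top_bks (ml : MLK.{u, u}) (ha : AbsP.{u, u}) (h : RBF S)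
    (hj : jj (S : Subgroup G) ≤ centralizer (Wd (S : Subgroup G) : Set G)) (hB : Bks S N E ⊥ Om phi)
    (irr : ∀ U : Subgroup G, U ≤ Wd (S : Subgroup G) → MZ (S : Subgroup G) ≤ normalizer (U : Set G) → U ≠ ⊥ →
      Wd (S : Subgroup G) ≤ U) (sd : SeedQ S) : Top S :=
  top_of ml ha h hj (vx_bks h.toRB hB irr) sd

/-- **`Top S`**, `𝔽₂`-blocks -/
theorem top_bks' (ml : MLK.{u, u}) (ha : AbsP.{u, u}) (h : RBF S)
    (hj : jj (S : Subgroup G) ≤ centralizer (Wd (S : Subgroup G) : Set G)) (hB : Bks S N E ⊥ Om phi)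
    (irr : ∀ U : Subgroup G, U ≤ Wd (S : Subgroup G) → MZ (S : Subgroup G) ≤ normalizer (U : Set G) → U ≠ ⊥ →
      Wd (S : Subgroup G) ≤ U) : Top S :=
  top_bks ml ha h hj hB irr (LowZc.seedQ ml ha h hj)

end Cfsg.Agent.Omega.NOThreeL.RLev
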