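import Cfsg.Agent.Omega.NOThreeL.RLev.LowZc
import Cfsg.Agent.Omega.NOThreeL.RLev.VXStep

/-!
# Box R of NO-3L, one class of natural blocks, `J(S) ≤ C(V*)`: `Top S` (helper540 `RLev/VXStep`, helper2 `RLev/LowZc`)
-/

set_option autoImplicit false
set_option linter.unusedSectionVars false

namespace Cfsg.Agent.Omega.NOThreeL.RLev

open Subgroup Cfsg Cfsg.Agent.Omega.MinPar Cfsg.Agent.Omega.Frame
open Cfsg.Agent.ZN (zc zl jj)
open Cfsg.Agent.Omega.NOThreeL.RTreeF (RBF)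
open Cfsg.Agent.Omega.NOThreeL.RRed (Wd)
open Cfsg.Agent.Omega.NOThreeL.RRed.WideTree (NBs Src CM)
open Cfsg.Agent.Omega.NO3b.EndX (AbsP)
open Cfsg.Agent.Omega.ML.Final (MLK)

universe u

variable {G : Type u} [Group G] [Finite G] {S : Sylow 2 G} {ι : Type u} {N E D l : ι → Subgroup G} {q : ℕ}

/-- **`Top S`**, natural blocks of one class -/
theorem top_nbs [Finite ι] (ml : MLK.{u, u}) (ha : AbsP.{u, u}) (h : RBF S)
    (hj : jj (S : Subgroup G) ≤ centralizer (Wd (S : Subgroup G) : Set G))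
    (hN : NBs (S : Subgroup G) N E D l (fun _ => q)) (hs : Src (S : Subgroup G) N l (fun _ => q)) (hq : 4 ≤ q)
    (hc : CM (S : Subgroup G) (fun _ : PUnit.{u + 1} => Wd (S : Subgroup G))) : Top S :=
  LowZc.top_of_vx ml ha h hj (VXStep.vx h.toRB hN hs hq hc)

end Cfsg.Agent.Omega.NOThreeL.RLev
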