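import Cfsg.Agent.Omega.NOThreeL.RLev.LevQ
import Cfsg.Agent.Omega.NOThreeL.RLev.VXroot
import Cfsg.Agent.Omega.NOThreeL.RLev.LowZc
import Cfsg.Agent.Omega.NOThreeL.RRed.QFr.MinOne
import Cfsg.Agent.Omega.NOThreeL.RRed.QFr.OfNBs
import Cfsg.Agent.Omega.NOThreeL.RRed.BQ.VX

/-!
# Box R of NO-3L, one class of natural blocks, `q ≥ 4` (helper978; bricks: helper553 `LevQ`, helper816 `VXroot`,
helper540 `MinOne`, helper461 `BQ.VX`, helper2 `LowZc`)

* **`vx_nat`** : 319's literal `VX S` over `NBs` + `Src` + one class;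
* **`top_src`** : `J(S) ≤ C(V*)` ⟹ `Top S`.
-/

set_option autoImplicit false
set_option linter.unusedSectionVars false

namespace Cfsg.Agent.Omega.NOThreeL.RLev.VXNat

open Subgroup Cfsg Cfsg.Agent.Omega.MinPar Cfsg.Agent.Omega.Frame Cfsg.Agent.Omega.FrameNOFF
open Cfsg.Agent.ZN (o2 zc zl jj)
open Cfsg.Agent.ZN.ChoiceBase hiding mem_zc
open Cfsg.Agent.PLocal.ThompsonJ (isElementaryAbelian_iff)
open Cfsg.Agent.Omega.FFThm (ElemM NoOverM)
open Cfsg.Agent.Omega.NO3b.EndX (AbsP)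
open Cfsg.Agent.Omega.ML.Final (MLK)
open Cfsg.Agent.Omega.NOThreeL.Star (YS)
open Cfsg.Agent.Omega.NOThreeL.Merge (MZ)
open Cfsg.Agent.Omega.NOThreeL.RTree (RB)
open Cfsg.Agent.Omega.NOThreeL.RTreeF (RBF)
open Cfsg.Agent.Omega.NOThreeL.RRed (Wd)
open Cfsg.Agent.Omega.NOThreeL.RRed.WideTree (NBs Src CM)
open Cfsg.Agent.Omega.NOThreeL.RRed.QFr
open Cfsg.Agent.MinSimple.VModule (zc_le_zl le_normalizer_zl mem_zc)

universe u

variable {G : Type u} [Group G] [Finite G] {S : Sylow 2 G} {ι : Type u} [Finite ι] {N E D l : ι → Subgroup G} {q : ℕ}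

/-- **`VX S`**, natural blocks, one class, `q ≥ 4`. -/
theorem vx_nat (B : RB S) (h : NBs (S : Subgroup G) N E D l (fun _ => q))
    (hs : Src (S : Subgroup G) N l (fun _ => q)) (hq : 4 ≤ q)
    (hc : CM (S : Subgroup G) (fun _ : PUnit.{u + 1} => Wd (S : Subgroup G))) : VX S := by
  intro K X H
  have hsup : (⨆ b, N b) = Wd (S : Subgroup G) := by rw [← h.dec.sup, sup_bot_eq]
  have hne : Nonempty ι := by
    by_contra hcon
    rw [not_nonempty_iff] at hcon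
    apply hc.ne PUnit.unit
    rw [← hsup]
    exact iSup_of_empty _
  have MX : MZ (S : Subgroup G) ≤ normalizer (X : Set G) := H.YK.trans H.Xn
  have elX : IsElementaryAbelian 2 X := isElementaryAbelian_iff.2
    ⟨fun x hx y hy => ((mem_zc.1 (H.Xle hx)).2.1 y (mem_zc.1 (H.Xle hy)).1).symm, fun x hx => (mem_zc.1 (H.Xle hx)).2.2⟩
  have VX : Wd (S : Subgroup G) ≤ X := H.VX
  have XS : X ≤ (S : Subgroup G) := fun x hx => H.le_S (mem_zc.1 (H.Xle hx)).1
  have SM : (S : Subgroup G) ≤ MZ (S : Subgroup G) := h.dec.SL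
  have Xsq : ∀ x ∈ X, x * x = 1 := fun x hx => by rw [← pow_two]; exact (mem_zc.1 (H.Xle hx)).2.2
  have Xab : ∀ x ∈ X, ∀ y ∈ X, x * y = y * x := fun x hx y hy =>
    ((mem_zc.1 (H.Xle hx)).2.1 y (mem_zc.1 (H.Xle hy)).1).symm
  have cS : X ⊓ centralizer ((S : Subgroup G) : Set G) ≤ Wd (S : Subgroup G) := by
    rintro x ⟨hx, hxS⟩
    exact zc_le_zl _ _ (mem_zc.2 ⟨XS hx, fun y hy => mem_centralizer_iff.1 hxS y hy, (mem_zc.1 (H.Xle hx)).2.2⟩)
  have no := MinOne.no_S B hs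
  obtain ⟨noX, A, hAS, hE, hAne, hAc, hXA, ex, hmin⟩ := LevQ.exists_act H no
  have hE' : ElemM (Wd (S : Subgroup G)) A :=
    ⟨fun a ha => centralizer_le VX (hE.sq a ha), fun a ha b hb => centralizer_le VX (hE.comm a ha b hb)⟩
  have t := MinOne.tt_of no hAS hE' hAne ex hmin
  obtain ⟨b, hb, hoth, hr, -, -⟩ := MinOne.min_one B h hs hAS t
  have hlN : l b ≤ N b := by
    obtain ⟨F, _, _, _, e, -, hn⟩ := h.nat b
    exact fun v hv => ((hn.line v).1 hv).1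
  have hV : Wd (S : Subgroup G) ≤ N b ⊔ ⨆ c : {c // c ≠ b}, N c := by
    rw [← hsup]
    refine iSup_le fun c => ?_
    by_cases hcb : c = b
    · rw [hcb]; exact le_sup_left
    · exact (le_iSup (fun c : {c // c ≠ b} => N c) ⟨c, hcb⟩).trans le_sup_right
  have hC : A ≤ centralizer ((⨆ c : {c // c ≠ b}, N c : Subgroup G) : Set G) := by
    rw [le_centralizer_iff]
    refine iSup_le fun c => ?_
    rw [le_centralizer_iff]
    exact hoth c c.2
  have hQ := VXmod.Q_cent_root S Xsq Xab VX SM MX (le_normalizer_zl _ _) (hc.irr PUnit.unit) cS hAS hAne hV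
    (h.dec.NU b) (iSup_le fun c => h.dec.NU c) hr hlN hC hXA noX
  have hX : X ≤ Wd (S : Subgroup G) := by
    obtain ⟨n, ⟨f⟩⟩ := Finite.exists_equiv_fin ι
    exact RRed.BQ.vx_bq (OfNBs.bq_of B h hs hq hc f.symm) VX elX XS
      (fun m hm x hx => (mem_normalizer_iff.1 (MX hm) x).1 hx) (zc_le_zl _ _) noX
      ⟨A, hAS, hE, hAne, hAc, hXA, ex⟩ hQ
  exact ⟨le_antisymm hX VX, le_antisymm (le_inf H.le_S H.cent) ((le_inf inf_le_left hQ).trans (LevQ.cs H))⟩

/-- **`Top S`**, natural blocks, one class, `q ≥ 4`. -/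
theorem top_src (ml : MLK.{u, u}) (ha : AbsP.{u, u}) (R : RBF S)
    (hj : jj (S : Subgroup G) ≤ centralizer (Wd (S : Subgroup G) : Set G))
    (h : NBs (S : Subgroup G) N E D l (fun _ => q)) (hs : Src (S : Subgroup G) N l (fun _ => q)) (hq : 4 ≤ q)
    (hc : CM (S : Subgroup G) (fun _ : PUnit.{u + 1} => Wd (S : Subgroup G))) : RLev.Top S :=
  LowZc.top_of_vx ml ha R hj (vx_nat R.toRB h hs hq hc)

end Cfsg.Agent.Omega.NOThreeL.RLev.VXNat
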