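import Cfsg.Agent.Omega.NOThreeL.RLev.VXu

/-!
# #27445 (helper553), step (2), in the form of #28138

`comm_cent` : `[a, g] ∈ C(X)` for `a ∈ A`, `g ∈ S ⊓ C(V)`.
-/

set_option autoImplicit false
set_option linter.unusedSectionVars false

namespace Cfsg.Agent.Omega.NOThreeL.RLev.VXc

open Subgroup Cfsg
open Cfsg.Agent.Omega.FFThm
open Cfsg.Agent.Omega.NOThreeL.RLev.VXu (comm_of)

universe u

variable {G : Type u} [Group G]

/-- the form of `u_cent` with an arbitrary `L`-invariant subgroup `W` instead of `N` -/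
theorem u_cent' [Finite G] {S X V Q l L : Subgroup G} {u : G} (no : NoOverM X S) (QS : Q ≤ S)
    (Xc : X ≤ centralizer (X : Set G)) (hX2 : ∀ x ∈ X, x ^ 2 = 1) (VX : V ≤ X) (QV : Q ≤ centralizer (V : Set G))
    (lV : l ≤ V) (hu : u ∈ Q) (ul : ∀ x ∈ X, u * x * u⁻¹ * x⁻¹ ∈ l)
    (LX : ∀ m ∈ L, ∀ x ∈ X, m * x * m⁻¹ * x⁻¹ ∈ V) (LQ : L ≤ normalizer (Q : Set G))
    (big : ∀ c ∈ l, c ≠ 1 → ∀ W : Subgroup G, W ≤ V → c ∈ W → L ≤ normalizer (W : Set G) → Nat.card l < Nat.card W) :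
    u ∈ centralizer (X : Set G) := by
  by_contra hne
  have hex : ∃ x₀ ∈ X, u * x₀ * u⁻¹ * x₀⁻¹ ≠ 1 := by
    by_contra hcon
    push Not at hcon
    apply hne
    rw [mem_centralizer_iff]
    intro x hx
    exact comm_of (hcon x hx)
  obtain ⟨x₀, hx₀, hc1⟩ := hex
  set c : G := u * x₀ * u⁻¹ * x₀⁻¹ with hc
  have hcl : c ∈ l := ul x₀ hx₀
  have LV : L ≤ normalizer (V : Set G) := fun m hm => Cfsg.Agent.ZN.ChoiceBase.mem_normalizer_of_cj_le (by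
    rintro _ ⟨v, hv, rfl⟩
    have h1 := mul_mem (LX m hm v (VX hv)) hv
    rwa [inv_mul_cancel_right] at h1)
  set W : Subgroup G := closure {x | ∃ m ∈ L, x = m * c * m⁻¹} with hW
  have hWV : W ≤ V := by
    rw [hW, closure_le]
    rintro _ ⟨m, hm, rfl⟩
    exact (mem_normalizer_iff.1 (LV hm) c).1 (lV hcl)
  have hcW : c ∈ W := subset_closure ⟨1, one_mem _, by group⟩
  have hLW : L ≤ normalizer (W : Set G) := fun m hm => Cfsg.Agent.ZN.ChoiceBase.mem_normalizer_of_cj_le (by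
    change W.map (MulAut.conj m).toMonoidHom ≤ W
    rw [map_le_iff_le_comap, hW, closure_le]
    rintro _ ⟨m', hm', rfl⟩
    refine subset_closure ⟨m * m', mul_mem hm hm', ?_⟩
    change m * (m' * c * m'⁻¹) * m⁻¹ = _
    group)
  have hb := big c hcl hc1 W hWV hcW hLW
  -- the group `⟨u ^ L⟩`
  have cX : ∀ x ∈ X, ∀ y ∈ X, x * y = y * x := fun x hx y hy => mem_centralizer_iff.1 (Xc hy) x hx
  have lX : l ≤ X := lV.trans VX
  have hgen : ∀ m ∈ L, ∀ x ∈ X, (m * u * m⁻¹) * x * (m * u * m⁻¹)⁻¹ * x⁻¹ = m * (u * x * u⁻¹ * x⁻¹) * m⁻¹ := by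
    intro m hm x hx
    set v : G := m⁻¹ * x * m * x⁻¹ with hv
    have hvV : v ∈ V := by
      have := LX m⁻¹ (inv_mem hm) x hx
      rwa [inv_inv] at this
    have e1 : m⁻¹ * x * m = v * x := by rw [hv]; group
    have h1 : v * u = u * v := mem_centralizer_iff.1 (QV hu) v hvV
    have h2 : v * (u * x * u⁻¹ * x⁻¹) = (u * x * u⁻¹ * x⁻¹) * v := cX v (VX hvV) _ (lX (ul x hx))
    calc (m * u * m⁻¹) * x * (m * u * m⁻¹)⁻¹ * x⁻¹
        = m * (u * (m⁻¹ * x * m) * u⁻¹ * (m⁻¹ * x * m)⁻¹) * m⁻¹ := by group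
      _ = m * ((u * v) * x * u⁻¹ * x⁻¹ * v⁻¹) * m⁻¹ := by rw [e1]; group
      _ = m * (v * (u * x * u⁻¹ * x⁻¹) * v⁻¹) * m⁻¹ := by rw [← h1]; group
      _ = m * (u * x * u⁻¹ * x⁻¹) * m⁻¹ := by rw [h2, mul_inv_cancel_right]
  set U : Subgroup G := closure {w | ∃ m ∈ L, w = m * u * m⁻¹} with hU
  have hP : ∀ b ∈ U, b ∈ Q ∧ (∀ x ∈ X, b * x * b⁻¹ * x⁻¹ ∈ V) ∧ ∀ x ∈ X, u * x = x * u → b * x = x * b := by
    intro b hb
    induction hb using closure_induction with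
    | mem b hb =>
      obtain ⟨m, hm, rfl⟩ := hb
      refine ⟨(mem_normalizer_iff.1 (LQ hm) u).1 hu, fun x hx => ?_, fun x hx hux => ?_⟩
      · rw [hgen m hm x hx]
        exact (mem_normalizer_iff.1 (LV hm) _).1 (lV (ul x hx))
      · have h1 := hgen m hm x hx
        rw [show u * x * u⁻¹ * x⁻¹ = 1 by rw [hux]; group, mul_one, mul_inv_cancel] at h1
        exact (comm_of h1).symm
    | one => exact ⟨one_mem _, fun x hx => by simp, fun x hx _ => by simp⟩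
    | mul a b ha hb iha ihb =>
      refine ⟨mul_mem iha.1 ihb.1, fun x hx => ?_, fun x hx hux => ?_⟩
      · have h1 : a * (b * x * b⁻¹ * x⁻¹) * a⁻¹ = b * x * b⁻¹ * x⁻¹ := by
          have h2 := mem_centralizer_iff.1 (QV iha.1) _ (ihb.2.1 x hx)
          rw [← h2, mul_inv_cancel_right]
        have e1 : a * b * x * (a * b)⁻¹ * x⁻¹ = (a * (b * x * b⁻¹ * x⁻¹) * a⁻¹) * (a * x * a⁻¹ * x⁻¹) := by group
        rw [e1, h1]
        exact mul_mem (ihb.2.1 x hx) (iha.2.1 x hx)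
      · rw [mul_assoc, ihb.2.2 x hx hux, ← mul_assoc, iha.2.2 x hx hux, mul_assoc]
    | inv b hb ih =>
      refine ⟨inv_mem ih.1, fun x hx => ?_, fun x hx hux => ?_⟩
      · have h1 : b⁻¹ * (b * x * b⁻¹ * x⁻¹)⁻¹ * b = (b * x * b⁻¹ * x⁻¹)⁻¹ := by
          have h2 := mem_centralizer_iff.1 (QV ih.1) _ (inv_mem (ih.2.1 x hx))
          calc b⁻¹ * (b * x * b⁻¹ * x⁻¹)⁻¹ * b = b⁻¹ * ((b * x * b⁻¹ * x⁻¹)⁻¹ * b) := by group
            _ = b⁻¹ * (b * (b * x * b⁻¹ * x⁻¹)⁻¹) := by rw [h2]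
            _ = (b * x * b⁻¹ * x⁻¹)⁻¹ := by group
        have e1 : b⁻¹ * x * b⁻¹⁻¹ * x⁻¹ = b⁻¹ * (b * x * b⁻¹ * x⁻¹)⁻¹ * b := by group
        rw [e1, h1]
        exact inv_mem (ih.2.1 x hx)
      · have h1 := ih.2.2 x hx hux
        calc b⁻¹ * x = b⁻¹ * (x * b) * b⁻¹ := by group
          _ = b⁻¹ * (b * x) * b⁻¹ := by rw [h1]
          _ = x * b⁻¹ := by group
  have hmul : ∀ a ∈ U, ∀ b ∈ U, ∀ x ∈ X, a * b * x * (a * b)⁻¹ * x⁻¹ = (a * x * a⁻¹ * x⁻¹) * (b * x * b⁻¹ * x⁻¹) := by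
    intro a ha b hb x hx
    have h1 : a * (b * x * b⁻¹ * x⁻¹) * a⁻¹ = b * x * b⁻¹ * x⁻¹ := by
      have h2 := mem_centralizer_iff.1 (QV (hP a ha).1) _ ((hP b hb).2.1 x hx)
      rw [← h2, mul_inv_cancel_right]
    have e1 : a * b * x * (a * b)⁻¹ * x⁻¹ = (a * (b * x * b⁻¹ * x⁻¹) * a⁻¹) * (a * x * a⁻¹ * x⁻¹) := by group
    rw [e1, h1]
    exact cX _ (VX ((hP b hb).2.1 x hx)) _ (VX ((hP a ha).2.1 x hx))
  have hUX : ∀ a ∈ U, ∀ x ∈ X, a * x * a⁻¹ ∈ X := by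
    intro a ha x hx
    have e1 : a * x * a⁻¹ = (a * x * a⁻¹ * x⁻¹) * x := by group
    rw [e1]
    exact mul_mem (VX ((hP a ha).2.1 x hx)) hx
  have hEl : ElemM X U := by
    refine ⟨fun b hb => ?_, fun a ha b hb => ?_⟩
    · rw [mem_centralizer_iff]
      intro x hx
      have h1 := hmul b hb b hb x hx
      have h2 := hX2 _ (VX ((hP b hb).2.1 x hx))
      rw [pow_two] at h2 ⊢
      rw [h2] at h1
      exact comm_of h1
    · rw [mem_centralizer_iff]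
      intro y hy
      set x : G := (b * a)⁻¹ * y * (b * a) with hx
      have hxX : x ∈ X := by
        have := hUX (b * a)⁻¹ (inv_mem (mul_mem hb ha)) y hy
        rwa [inv_inv] at this
      have h1 := hmul a ha b hb x hxX
      have h2 := hmul b hb a ha x hxX
      rw [cX _ (VX ((hP b hb).2.1 x hxX)) _ (VX ((hP a ha).2.1 x hxX)), ← h1] at h2
      have h3 : b * a * x * (b * a)⁻¹ = a * b * x * (a * b)⁻¹ := mul_right_cancel h2
      have h4 : b * a * x * (b * a)⁻¹ = y := by rw [hx]; group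
      rw [h4] at h3
      calc y * (a * b * a⁻¹ * b⁻¹) = (a * b * x * (a * b)⁻¹) * (a * b * a⁻¹ * b⁻¹) := by rw [← h3]
        _ = (a * b * a⁻¹ * b⁻¹) * (b * a * x * (b * a)⁻¹) := by group
        _ = (a * b * a⁻¹ * b⁻¹) * y := by rw [h4]
  have hUQ : U ≤ Q := fun b hb => (hP b hb).1
  have h1 := no U (hUQ.trans QS) hEl
  have h2 : Nat.card X ≤ Nat.card ↥(X ⊓ centralizer (U : Set G)) * Nat.card l := by
    let f : X →* l := MonoidHom.mk' (fun x => ⟨u * x * u⁻¹ * (x : G)⁻¹, ul x x.2⟩) (by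
      intro x y
      apply Subtype.ext
      change u * ((x * y : X) : G) * u⁻¹ * ((x * y : X) : G)⁻¹ = (u * x * u⁻¹ * (x : G)⁻¹) * (u * y * u⁻¹ * (y : G)⁻¹)
      have h3 : (x : G) * (u * y * u⁻¹ * (y : G)⁻¹) = (u * y * u⁻¹ * (y : G)⁻¹) * x := cX x x.2 _ (lX (ul y y.2))
      calc u * ((x * y : X) : G) * u⁻¹ * ((x * y : X) : G)⁻¹
          = (u * x * u⁻¹ * (x : G)⁻¹) * (x * (u * y * u⁻¹ * (y : G)⁻¹)) * (x : G)⁻¹ := by rw [Subgroup.coe_mul]; group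
        _ = (u * x * u⁻¹ * (x : G)⁻¹) * (u * y * u⁻¹ * (y : G)⁻¹) := by rw [h3]; group)
    have h3 : Nat.card X = Nat.card f.ker * Nat.card f.range := by
      rw [← index_ker f, card_mul_index]
    have h4 : Nat.card f.ker ≤ Nat.card ↥(X ⊓ centralizer (U : Set G)) := by
      rw [← Subgroup.card_map_of_injective (K := f.ker) X.subtype_injective]
      refine Subgroup.card_le_of_le ?_
      rintro _ ⟨x, hx, rfl⟩
      refine mem_inf.2 ⟨x.2, mem_centralizer_iff.2 fun b hb => ?_⟩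
      refine (hP b hb).2.2 x x.2 ?_
      have h5 : u * (x : G) * u⁻¹ * (x : G)⁻¹ = 1 := congrArg Subtype.val (show f x = 1 from hx)
      exact (comm_of h5).symm
    have h5 : Nat.card f.range ≤ Nat.card l :=
      Nat.card_le_card_of_injective (Subtype.val : f.range → l) Subtype.val_injective
    rw [h3]
    exact Nat.mul_le_mul h4 h5
  have h3 : Nat.card ↥(U ⊓ centralizer (X : Set G)) * Nat.card W ≤ Nat.card U := by
    let p : U →* V := MonoidHom.mk' (fun b => ⟨b * x₀ * (b : G)⁻¹ * x₀⁻¹, (hP b b.2).2.1 x₀ hx₀⟩) (by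
      intro a b
      apply Subtype.ext
      exact hmul a a.2 b b.2 x₀ hx₀)
    have h4 : Nat.card U = Nat.card p.ker * Nat.card p.range := by
      rw [← index_ker p, card_mul_index]
    have h5 : Nat.card ↥(U ⊓ centralizer (X : Set G)) ≤ Nat.card p.ker := by
      rw [← Subgroup.card_map_of_injective (K := p.ker) U.subtype_injective]
      refine Subgroup.card_le_of_le ?_
      rintro b ⟨hb, hbX⟩
      refine ⟨⟨b, hb⟩, ?_, rfl⟩
      change p ⟨b, hb⟩ = 1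
      apply Subtype.ext
      change b * x₀ * b⁻¹ * x₀⁻¹ = 1
      rw [← mem_centralizer_iff.1 hbX x₀ hx₀]
      group
    have h6 : W ≤ p.range.map V.subtype := by
      rw [hW, closure_le]
      rintro _ ⟨m, hm, rfl⟩
      refine ⟨p ⟨m * u * m⁻¹, subset_closure ⟨m, hm, rfl⟩⟩, ⟨_, rfl⟩, ?_⟩
      exact hgen m hm x₀ hx₀
    have h7 : Nat.card W ≤ Nat.card p.range := by
      rw [← Subgroup.card_map_of_injective (K := p.range) V.subtype_injective]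
      exact Subgroup.card_le_of_le h6
    rw [h4]
    exact Nat.mul_le_mul h5 h7
  have p1 : 0 < Nat.card ↥(X ⊓ centralizer (U : Set G)) := Nat.card_pos
  have p2 : 0 < Nat.card ↥(U ⊓ centralizer (X : Set G)) := Nat.card_pos
  have h4 : Nat.card W ≤ Nat.card l := by
    apply Nat.le_of_mul_le_mul_left _ (Nat.mul_pos p2 p1)
    calc Nat.card ↥(U ⊓ centralizer (X : Set G)) * Nat.card ↥(X ⊓ centralizer (U : Set G)) * Nat.card W
        = (Nat.card ↥(U ⊓ centralizer (X : Set G)) * Nat.card W) * Nat.card ↥(X ⊓ centralizer (U : Set G)) := by ring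
      _ ≤ Nat.card U * Nat.card ↥(X ⊓ centralizer (U : Set G)) := Nat.mul_le_mul_right _ h3
      _ ≤ Nat.card X * Nat.card ↥(U ⊓ centralizer (X : Set G)) := h1
      _ ≤ (Nat.card ↥(X ⊓ centralizer (U : Set G)) * Nat.card l) * Nat.card ↥(U ⊓ centralizer (X : Set G)) :=
        Nat.mul_le_mul_right _ h2
      _ = Nat.card ↥(U ⊓ centralizer (X : Set G)) * Nat.card ↥(X ⊓ centralizer (U : Set G)) * Nat.card l := by ring
  exact absurd hb (not_lt.2 h4)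

/-- **(2) of #27445**, literal of #28138 -/
theorem comm_cent [Finite G] {S X V A l L : Subgroup G} (no : NoOverM X S) (hc : ∀ x ∈ X, ∀ y ∈ X, x * y = y * x)
    (hX2 : ∀ x ∈ X, x ^ 2 = 1) (SX : S ≤ normalizer (X : Set G)) (VX : V ≤ X)
    (LQ : L ≤ normalizer ((S ⊓ centralizer (V : Set G) : Subgroup G) : Set G))
    (LV : ∀ g ∈ L, ∀ x ∈ X, g * x * g⁻¹ * x⁻¹ ∈ V) (hA : A ≤ S) (AV : A ≤ normalizer (V : Set G))
    (hl : ∀ a ∈ A, ∀ x ∈ X, a * x * a⁻¹ * x⁻¹ ∈ l) (lV : l ≤ V)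
    (big : ∀ c ∈ l, c ≠ 1 → ∀ W : Subgroup G, W ≤ V → c ∈ W → L ≤ normalizer (W : Set G) → Nat.card l < Nat.card W) :
    ∀ a ∈ A, ∀ g ∈ S ⊓ centralizer (V : Set G), a * g * a⁻¹ * g⁻¹ ∈ centralizer (X : Set G) := by
  intro a ha g hg
  have Xc : X ≤ centralizer (X : Set G) := fun x hx => mem_centralizer_iff.2 fun y hy => hc y hy x hx
  have hgV : ∀ v ∈ V, g * v * g⁻¹ = v := fun v hv => by
    rw [← mem_centralizer_iff.1 hg.2 v hv, mul_inv_cancel_right]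
  -- `g a⁻¹ g⁻¹` moves `X` into `l`
  have h1 : ∀ x ∈ X, (g * a⁻¹ * g⁻¹) * x * (g * a⁻¹ * g⁻¹)⁻¹ * x⁻¹ ∈ l := by
    intro x hx
    have hx' : g⁻¹ * x * g ∈ X := by
      have := (mem_normalizer_iff.1 (inv_mem (SX hg.1)) x).1 hx
      rwa [inv_inv] at this
    have h2 := hl a⁻¹ (inv_mem ha) _ hx'
    have e1 : (g * a⁻¹ * g⁻¹) * x * (g * a⁻¹ * g⁻¹)⁻¹ * x⁻¹ =
        g * (a⁻¹ * (g⁻¹ * x * g) * a⁻¹⁻¹ * (g⁻¹ * x * g)⁻¹) * g⁻¹ := by group
    rw [e1, hgV _ (lV h2)]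
    exact h2
  have haX : ∀ x ∈ X, a * x * a⁻¹ ∈ X := fun x hx => (mem_normalizer_iff.1 (SX (hA ha)) x).1 hx
  have hu : a * g * a⁻¹ * g⁻¹ ∈ S ⊓ centralizer (V : Set G) := by
    refine mem_inf.2 ⟨mul_mem (mul_mem (mul_mem (hA ha) hg.1) (inv_mem (hA ha))) (inv_mem hg.1), ?_⟩
    rw [mem_centralizer_iff]
    intro v hv
    have hv' : a⁻¹ * v * a ∈ V := by
      have := (mem_normalizer_iff.1 (inv_mem (AV ha)) v).1 hv
      rwa [inv_inv] at this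
    have h2 := hgV _ hv'
    have h3 : g⁻¹ * v * g = v := by
      calc g⁻¹ * v * g = g⁻¹ * (g * v * g⁻¹) * g := by rw [hgV v hv]
        _ = v := by group
    have h4 : a * g * a⁻¹ * g⁻¹ * v * (a * g * a⁻¹ * g⁻¹)⁻¹ = v := by
      calc a * g * a⁻¹ * g⁻¹ * v * (a * g * a⁻¹ * g⁻¹)⁻¹ = a * (g * (a⁻¹ * (g⁻¹ * v * g) * a) * g⁻¹) * a⁻¹ := by group
        _ = a * (a⁻¹ * v * a) * a⁻¹ := by rw [h3, h2]
        _ = v := by group
    calc v * (a * g * a⁻¹ * g⁻¹) = a * g * a⁻¹ * g⁻¹ * v * (a * g * a⁻¹ * g⁻¹)⁻¹ * (a * g * a⁻¹ * g⁻¹) := by rw [h4]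
      _ = (a * g * a⁻¹ * g⁻¹) * v := by group
  refine u_cent' no inf_le_left Xc hX2 VX inf_le_right lV hu (fun x hx => ?_) LV LQ big
  -- `[a (g a⁻¹ g⁻¹), x]`
  have h2 := h1 x hx
  set b : G := g * a⁻¹ * g⁻¹ with hb
  have e1 : a * g * a⁻¹ * g⁻¹ = a * b := by rw [hb]; group
  rw [e1]
  have hbx : b * x * b⁻¹ ∈ X := by
    have e2 : b * x * b⁻¹ = (b * x * b⁻¹ * x⁻¹) * x := by group
    rw [e2]
    exact mul_mem (VX (lV h2)) hx
  have e3 : a * b * x * (a * b)⁻¹ * x⁻¹ = (a * (b * x * b⁻¹) * a⁻¹ * (b * x * b⁻¹)⁻¹) * (b * x * b⁻¹ * x⁻¹) := by group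
  rw [e3]
  exact mul_mem (hl a ha _ hbx) h2

end Cfsg.Agent.Omega.NOThreeL.RLev.VXc
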