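import Cfsg.Agent.Omega.NOThreeL.EndFive
import Cfsg.Agent.PLocal.OffenderStep

/-!
# Box R, t = 1: the level `(Q, V*)` (#27445 (2), (3)), block-free

`Q = C_S(V)`, `V ≤ X` elementary abelian, `E = ⟨A^n : n ∈ N_Y(Q)⟩`, `[X, E] ≤ V`, `[X, A] ≤ Z ≤ V`:

* `comm_cent` : (2) `[A, Q] ≤ C(X)`;
* `comm_of_gen`, `cent_of` : (3) `[Q, X] ≤ C_X(E)`;
* **`Q_cent`** : `Q ≤ C(X)`.
-/

set_option autoImplicit false
set_option linter.unusedSectionVars false

namespace Cfsg.Agent.Omega.NOThreeL.RLev.VXmod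

open Subgroup Cfsg Cfsg.Agent.ZN Cfsg.Agent.ZN.ChoiceBase
open Cfsg.Agent.Omega.FFThm (ElemM NoOverM)

universe u

variable {G : Type u} [Group G]

section two

variable {X V Z Q A E T : Subgroup G}

/-- the elements acting trivially on `V` and on `X / V` -/
def RR (X V : Subgroup G) (Xab : ∀ x ∈ X, ∀ y ∈ X, x * y = y * x) (VX : V ≤ X) : Subgroup G where
  carrier := {w | w ∈ centralizer (V : Set G) ∧ ∀ x ∈ X, w * x * w⁻¹ * x⁻¹ ∈ V}
  one_mem' := ⟨one_mem _, fun x _ => by simp⟩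
  mul_mem' := by
    rintro w w' ⟨h1, h2⟩ ⟨h3, h4⟩
    refine ⟨mul_mem h1 h3, fun x hx => ?_⟩
    have h5 : w * (w' * x * w'⁻¹ * x⁻¹) * w⁻¹ = w' * x * w'⁻¹ * x⁻¹ := by
      rw [← mem_centralizer_iff.1 h1 _ (h4 x hx), mul_inv_cancel_right]
    have h6 : w * w' * x * (w * w')⁻¹ * x⁻¹ = (w * (w' * x * w'⁻¹ * x⁻¹) * w⁻¹) * (w * x * w⁻¹ * x⁻¹) := by group
    rw [h6, h5]
    exact mul_mem (h4 x hx) (h2 x hx)
  inv_mem' := by
    rintro w ⟨h1, h2⟩
    refine ⟨inv_mem h1, fun x hx => ?_⟩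
    have h5 : w⁻¹ * (w * x * w⁻¹ * x⁻¹)⁻¹ * w⁻¹⁻¹ = (w * x * w⁻¹ * x⁻¹)⁻¹ := by
      rw [← mem_centralizer_iff.1 (inv_mem h1) _ (inv_mem (h2 x hx)), mul_inv_cancel_right]
    have h6 : w⁻¹ * x * w⁻¹⁻¹ * x⁻¹ = w⁻¹ * (w * x * w⁻¹ * x⁻¹)⁻¹ * w⁻¹⁻¹ := by group
    rw [h6, h5]
    exact inv_mem (h2 x hx)

theorem RR_mul (Xab : ∀ x ∈ X, ∀ y ∈ X, x * y = y * x) (VX : V ≤ X) {w w' : G} (h : w ∈ RR X V Xab VX)
    (h' : w' ∈ RR X V Xab VX) {x : G} (hx : x ∈ X) :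
    w * w' * x * (w * w')⁻¹ * x⁻¹ = (w * x * w⁻¹ * x⁻¹) * (w' * x * w'⁻¹ * x⁻¹) := by
  have h5 : w * (w' * x * w'⁻¹ * x⁻¹) * w⁻¹ = w' * x * w'⁻¹ * x⁻¹ := by
    rw [← mem_centralizer_iff.1 h.1 _ (h'.2 x hx), mul_inv_cancel_right]
  have h6 : w * w' * x * (w * w')⁻¹ * x⁻¹ = (w * (w' * x * w'⁻¹ * x⁻¹) * w⁻¹) * (w * x * w⁻¹ * x⁻¹) := by group
  rw [h6, h5]
  exact Xab _ (VX (h'.2 x hx)) _ (VX (h.2 x hx))

/-- the map `w ↦ [w, x]` -/
def phi (Xab : ∀ x ∈ X, ∀ y ∈ X, x * y = y * x) (VX : V ≤ X) (D : Subgroup G) (hD : D ≤ RR X V Xab VX) {x : G}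
    (hx : x ∈ X) : D →* G where
  toFun w := (w : G) * x * (w : G)⁻¹ * x⁻¹
  map_one' := by simp
  map_mul' w w' := RR_mul Xab VX (hD w.2) (hD w'.2) hx

/-- the map `x ↦ [u, x]` -/
def psi (Xab : ∀ x ∈ X, ∀ y ∈ X, x * y = y * x) {u : G} (hu : ∀ x ∈ X, u * x * u⁻¹ * x⁻¹ ∈ X) : X →* G where
  toFun x := u * (x : G) * u⁻¹ * (x : G)⁻¹
  map_one' := by simp
  map_mul' x y := by
    have h1 : u * ((x : G) * (y : G)) * u⁻¹ * ((x : G) * (y : G))⁻¹ =
        (u * (x : G) * u⁻¹ * (x : G)⁻¹) * ((x : G) * (u * (y : G) * u⁻¹ * (y : G)⁻¹) * (x : G)⁻¹) := by group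
    rw [coe_mul, h1, Xab _ x.2 _ (hu y y.2), mul_inv_cancel_right]

end two

variable [Finite G]

/-- **(2)** `[A, Q] ≤ C(X)` -/
theorem comm_cent {X V Z Q A E T : Subgroup G} (Xsq : ∀ x ∈ X, x * x = 1) (Xab : ∀ x ∈ X, ∀ y ∈ X, x * y = y * x)
    (VX : V ≤ X) (ZV : Z ≤ V) (QV : Q ≤ centralizer (V : Set G)) (QX : Q ≤ normalizer (X : Set G))
    (AZ : A ≤ normalizer (Z : Set G)) (AQ : A ≤ normalizer (Q : Set G))
    (EQ : E ≤ normalizer (Q : Set G)) (EV : E ≤ normalizer (V : Set G))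
    (EX : ∀ e ∈ E, ∀ x ∈ X, e * x * e⁻¹ * x⁻¹ ∈ V) (hA : ∀ a ∈ A, ∀ x ∈ X, a * x * a⁻¹ * x⁻¹ ∈ Z)
    (big : ∀ W ≤ V, E ≤ normalizer (W : Set G) → W ≠ ⊥ → Nat.card Z < Nat.card W)
    (QT : Q ≤ T) (no : NoOverM X T) : ∀ a ∈ A, ∀ g ∈ Q, a * g * a⁻¹ * g⁻¹ ∈ centralizer (X : Set G) := by
  intro a ha g hg
  set u : G := a * g * a⁻¹ * g⁻¹ with hu
  have uQ : u ∈ Q := mul_mem ((mem_normalizer_iff.1 (AQ ha) g).1 hg) (inv_mem hg)
  have huZ : ∀ x ∈ X, u * x * u⁻¹ * x⁻¹ ∈ Z := by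
    intro x hx
    have hy : g⁻¹ * x * g ∈ X := (mem_normalizer_iff''.1 (QX hg) x).1 hx
    have hz := hA a⁻¹ (inv_mem ha) _ hy
    set z : G := a⁻¹ * (g⁻¹ * x * g) * a⁻¹⁻¹ * (g⁻¹ * x * g)⁻¹ with hzdef
    have h1 : u * x * u⁻¹ * x⁻¹ = (a * (g * z * g⁻¹) * a⁻¹) * (a * x * a⁻¹ * x⁻¹) := by
      rw [hu, hzdef]; group
    have h2 : g * z * g⁻¹ = z := by
      rw [← mem_centralizer_iff.1 (QV hg) z (ZV hz), mul_inv_cancel_right]
    rw [h1, h2]
    exact mul_mem ((mem_normalizer_iff.1 (AZ ha) z).1 hz) (hA a ha x hx)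
  by_contra hcon
  rw [mem_centralizer_iff] at hcon
  push Not at hcon
  obtain ⟨x, hx, hux⟩ := hcon
  have hx' : x ∈ X := hx
  have uR : u ∈ RR X V Xab VX := ⟨QV uQ, fun y hy => ZV (huZ y hy)⟩
  -- conjugates of `u`
  have key : ∀ e ∈ E, ∀ w ∈ RR X V Xab VX, ∀ y ∈ X,
      (e * w * e⁻¹) * y * (e * w * e⁻¹)⁻¹ * y⁻¹ = e * (w * y * w⁻¹ * y⁻¹) * e⁻¹ := by
    intro e he w hw y hy
    have hv : e⁻¹ * y * e⁻¹⁻¹ * y⁻¹ ∈ V := EX e⁻¹ (inv_mem he) y hy
    set v : G := e⁻¹ * y * e⁻¹⁻¹ * y⁻¹ with hvdef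
    have h1 : (e * w * e⁻¹) * y * (e * w * e⁻¹)⁻¹ * y⁻¹ =
        e * ((w * v * w⁻¹) * (w * y * w⁻¹ * y⁻¹) * v⁻¹) * e⁻¹ := by
      rw [hvdef]; group
    have h2 : w * v * w⁻¹ = v := by rw [← mem_centralizer_iff.1 hw.1 v hv, mul_inv_cancel_right]
    rw [h1, h2, Xab v (VX hv) _ (VX (hw.2 y hy)), mul_inv_cancel_right]
  have conjR : ∀ e ∈ E, ∀ w ∈ RR X V Xab VX, e * w * e⁻¹ ∈ RR X V Xab VX := by
    intro e he w hw
    refine ⟨?_, fun y hy => ?_⟩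
    · rw [mem_centralizer_iff]
      intro v hv
      have h1 : e⁻¹ * v * e ∈ V := (mem_normalizer_iff''.1 (EV he) v).1 hv
      have h2 := mem_centralizer_iff.1 hw.1 _ h1
      have h3 : v * (e * w * e⁻¹) = e * ((e⁻¹ * v * e) * w) * e⁻¹ := by group
      rw [h3, h2]; group
    · rw [key e he w hw y hy]
      exact (mem_normalizer_iff.1 (EV he) _).1 (hw.2 y hy)
  set D : Subgroup G := closure {w | ∃ e ∈ E, w = e * u * e⁻¹} with hD
  have DR : D ≤ RR X V Xab VX := by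
    rw [hD, closure_le]
    rintro _ ⟨e, he, rfl⟩
    exact conjR e he u uR
  have DQ : D ≤ Q := by
    rw [hD, closure_le]
    rintro _ ⟨e, he, rfl⟩
    exact (mem_normalizer_iff.1 (EQ he) u).1 uQ
  have uD : u ∈ D := subset_closure ⟨1, one_mem _, by simp⟩
  have DE : ∀ e ∈ E, ∀ w ∈ D, e * w * e⁻¹ ∈ D := by
    intro e he w hw
    refine closure_induction (p := fun w _ => e * w * e⁻¹ ∈ D) ?_ (by simp) ?_ ?_ hw
    · rintro _ ⟨f, hf, rfl⟩
      exact subset_closure ⟨e * f, mul_mem he hf, by group⟩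
    · intro y z _ _ h1 h2
      have : e * (y * z) * e⁻¹ = (e * y * e⁻¹) * (e * z * e⁻¹) := by group
      rw [this]; exact mul_mem h1 h2
    · intro y _ h1
      have : e * y⁻¹ * e⁻¹ = (e * y * e⁻¹)⁻¹ := by group
      rw [this]; exact inv_mem h1
  -- `C_X(D) = C_X(u)`
  have hC : ∀ y ∈ X, u * y * u⁻¹ * y⁻¹ = 1 → y ∈ X ⊓ centralizer (D : Set G) := by
    intro y hy h1
    refine ⟨hy, mem_centralizer_iff.2 fun w hw => ?_⟩
    refine closure_induction (p := fun w _ => w * y = y * w) ?_ (by simp) ?_ ?_ hw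
    · rintro _ ⟨e, he, rfl⟩
      have h2 := key e he u uR y hy
      rw [h1] at h2
      simp only [mul_one, mul_inv_cancel] at h2
      rw [mul_inv_eq_one, mul_inv_eq_iff_eq_mul] at h2
      exact h2
    · intro a b _ _ h2 h3
      rw [mul_assoc, h3, ← mul_assoc, h2, mul_assoc]
    · intro a _ h2
      rw [inv_mul_eq_iff_eq_mul, ← mul_assoc, h2, mul_assoc, mul_inv_cancel, mul_one]
  -- the two homs
  have h1 : Nat.card X ≤ Nat.card ↥(X ⊓ centralizer (D : Set G)) * Nat.card Z := by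
    let ψ := psi Xab (u := u) (fun y hy => VX (ZV (huZ y hy)))
    have h2 := Subgroup.card_mul_index ψ.ker
    rw [Subgroup.index_ker] at h2
    have h3 : Nat.card ψ.range ≤ Nat.card Z := by
      apply Subgroup.card_le_of_le
      rintro _ ⟨y, rfl⟩
      exact huZ y y.2
    have h4 : Nat.card ψ.ker ≤ Nat.card ↥(X ⊓ centralizer (D : Set G)) := by
      refine Nat.card_le_card_of_injective
        (fun y : ψ.ker => (⟨((y : X) : G), hC _ (y : X).2 (MonoidHom.mem_ker.1 y.2)⟩ :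
          ↥(X ⊓ centralizer (D : Set G)))) ?_
      intro y y' h
      have h' : ((y : X) : G) = ((y' : X) : G) :=
        congrArg (fun t : ↥(X ⊓ centralizer (D : Set G)) => (t : G)) h
      exact Subtype.ext (Subtype.ext h')
    rw [← h2]
    exact Nat.mul_le_mul h4 h3
  have h5 : ∃ W : Subgroup G, W ≤ V ∧ E ≤ normalizer (W : Set G) ∧ W ≠ ⊥ ∧
      Nat.card ↥(D ⊓ centralizer (X : Set G)) * Nat.card W ≤ Nat.card D := by
    let φ := phi Xab VX D DR hx'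
    have hmem : ∀ w ∈ φ.range, ∀ e ∈ E, e * w * e⁻¹ ∈ φ.range := by
      rintro _ ⟨w, rfl⟩ e he
      refine ⟨⟨e * (w : G) * e⁻¹, DE e he w w.2⟩, ?_⟩
      exact key e he w (DR w.2) x hx'
    refine ⟨φ.range, ?_, ?_, ?_, ?_⟩
    · rintro _ ⟨w, rfl⟩
      exact (DR w.2).2 x hx'
    · intro e he
      rw [mem_normalizer_iff]
      intro w
      refine ⟨fun hw => hmem w hw e he, fun hw => ?_⟩
      have h2 := hmem _ hw e⁻¹ (inv_mem he)
      have h3 : e⁻¹ * (e * w * e⁻¹) * e⁻¹⁻¹ = w := by group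
      rwa [h3] at h2
    · intro hbot
      have h2 : φ ⟨u, uD⟩ ∈ φ.range := ⟨_, rfl⟩
      rw [hbot, mem_bot] at h2
      have h3 : u * x * u⁻¹ * x⁻¹ = 1 := h2
      rw [mul_inv_eq_one, mul_inv_eq_iff_eq_mul] at h3
      exact hux h3.symm
    · have h2 := Subgroup.card_mul_index φ.ker
      rw [Subgroup.index_ker] at h2
      rw [← h2]
      refine Nat.mul_le_mul_right _ ?_
      refine Nat.card_le_card_of_injective
        (fun y : ↥(D ⊓ centralizer (X : Set G)) => (⟨⟨(y : G), y.2.1⟩, ?_⟩ : φ.ker)) ?_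
      · rw [MonoidHom.mem_ker]
        change (y : G) * x * (y : G)⁻¹ * x⁻¹ = 1
        rw [← mem_centralizer_iff.1 y.2.2 x hx', mul_inv_cancel_right, mul_inv_cancel]
      · intro y y' h
        exact Subtype.ext (congrArg (fun t : φ.ker => ((t : D) : G)) h)
  obtain ⟨W, WV, WE, Wne, hW⟩ := h5
  have hEl : ElemM X D := by
    refine ⟨fun w hw => ?_, fun w hw w' hw' => ?_⟩
    · rw [mem_centralizer_iff]
      intro y hy
      have h2 := RR_mul Xab VX (DR hw) (DR hw) hy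
      rw [Xsq _ (VX ((DR hw).2 y hy)), mul_inv_eq_one, mul_inv_eq_iff_eq_mul, ← pow_two] at h2
      exact h2.symm
    · rw [mem_centralizer_iff]
      intro y hy
      have h2 := RR_mul Xab VX (DR hw) (DR hw') hy
      have h3 := RR_mul Xab VX (DR hw') (DR hw) hy
      rw [Xab _ (VX ((DR hw).2 y hy)) _ (VX ((DR hw').2 y hy)), ← h3] at h2
      have h4 : w * w' * y * (w * w')⁻¹ = w' * w * y * (w' * w)⁻¹ := mul_right_cancel h2
      have h5 : ∀ y ∈ X, w * w' * y * (w * w')⁻¹ = w' * w * y * (w' * w)⁻¹ := by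
        intro y hy
        have h2 := RR_mul Xab VX (DR hw) (DR hw') hy
        have h3 := RR_mul Xab VX (DR hw') (DR hw) hy
        rw [Xab _ (VX ((DR hw).2 y hy)) _ (VX ((DR hw').2 y hy)), ← h3] at h2
        exact mul_right_cancel h2
      have hmem : w * w' * w⁻¹ * w'⁻¹ ∈ RR X V Xab VX :=
        mul_mem (mul_mem (mul_mem (DR hw) (DR hw')) (inv_mem (DR hw))) (inv_mem (DR hw'))
      have h6 : (w * w' * w⁻¹ * w'⁻¹) * (w' * w) = w * w' := by group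
      have h7 := RR_mul Xab VX hmem (mul_mem (DR hw') (DR hw)) hy
      rw [h6, h5 y hy] at h7
      have h8 : (w * w' * w⁻¹ * w'⁻¹) * y * (w * w' * w⁻¹ * w'⁻¹)⁻¹ * y⁻¹ = 1 := by
        have := h7.symm
        rwa [mul_eq_right] at this
      rw [mul_inv_eq_one, mul_inv_eq_iff_eq_mul] at h8
      exact h8.symm
  have h6 := no D (DQ.trans QT) hEl
  have h7 := big W WV WE Wne
  have p1 : 0 < Nat.card ↥(D ⊓ centralizer (X : Set G)) := Nat.card_pos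
  have p2 : 0 < Nat.card ↥(X ⊓ centralizer (D : Set G)) := Nat.card_pos
  have h8 : Nat.card ↥(D ⊓ centralizer (X : Set G)) * Nat.card W * Nat.card ↥(X ⊓ centralizer (D : Set G)) ≤
      Nat.card ↥(X ⊓ centralizer (D : Set G)) * Nat.card Z * Nat.card ↥(D ⊓ centralizer (X : Set G)) :=
    (Nat.mul_le_mul_right _ hW).trans (h6.trans (Nat.mul_le_mul_right _ h1))
  have h9 : (Nat.card ↥(D ⊓ centralizer (X : Set G)) * Nat.card ↥(X ⊓ centralizer (D : Set G))) * Nat.card W ≤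
      (Nat.card ↥(D ⊓ centralizer (X : Set G)) * Nat.card ↥(X ⊓ centralizer (D : Set G))) * Nat.card Z := by
    calc _ = Nat.card ↥(D ⊓ centralizer (X : Set G)) * Nat.card W *
          Nat.card ↥(X ⊓ centralizer (D : Set G)) := by ring
      _ ≤ _ := h8
      _ = _ := by ring
  exact absurd (Nat.le_of_mul_le_mul_left h9 (Nat.mul_pos p1 p2)) (not_le.2 h7)

/-- `[e, g] ∈ C(X)`, `[e, x] ∈ V`, `g ∈ C(V)` ⟹ `e` commutes with `[g, x]` -/
theorem cent_of {X V : Subgroup G} (Xab : ∀ x ∈ X, ∀ y ∈ X, x * y = y * x) (VX : V ≤ X) {e g x : G}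
    (hgX : g ∈ normalizer (X : Set G)) (hgV : g ∈ centralizer (V : Set G)) (hx : x ∈ X)
    (hv : e * x * e⁻¹ * x⁻¹ ∈ V) (hc : e * g * e⁻¹ * g⁻¹ ∈ centralizer (X : Set G)) :
    e * (g * x * g⁻¹ * x⁻¹) * e⁻¹ = g * x * g⁻¹ * x⁻¹ := by
  set v : G := e * x * e⁻¹ * x⁻¹ with hvdef
  set c : G := e * g * e⁻¹ * g⁻¹ with hcdef
  have hgx : g * x * g⁻¹ ∈ X := (mem_normalizer_iff.1 hgX x).1 hx
  have h1 : e * (g * x * g⁻¹ * x⁻¹) * e⁻¹ = c * ((g * v * g⁻¹) * (g * x * g⁻¹)) * c⁻¹ * (x⁻¹ * v⁻¹) := by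
    rw [hvdef, hcdef]; group
  have h2 : g * v * g⁻¹ = v := by rw [← mem_centralizer_iff.1 hgV v hv, mul_inv_cancel_right]
  have h3 : c * (v * (g * x * g⁻¹)) * c⁻¹ = v * (g * x * g⁻¹) := by
    rw [← mem_centralizer_iff.1 hc _ (mul_mem (VX hv) hgx), mul_inv_cancel_right]
  have h4 : v * (g * x * g⁻¹) * (x⁻¹ * v⁻¹) = v * (g * x * g⁻¹ * x⁻¹) * v⁻¹ := by group
  rw [h1, h2, h3, h4, Xab v (VX hv) _ (mul_mem hgx (inv_mem hx)), mul_inv_cancel_right]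

/-- `[E, Q] ≤ C(X)` from `[A, Q] ≤ C(X)`, `E = ⟨A^N⟩` -/
theorem comm_of_gen {X Q A N : Subgroup G} (NX : N ≤ normalizer (X : Set G)) (NQ : N ≤ normalizer (Q : Set G))
    (AN : A ≤ N) (h : ∀ a ∈ A, ∀ g ∈ Q, a * g * a⁻¹ * g⁻¹ ∈ centralizer (X : Set G)) :
    ∀ e ∈ closure {w | ∃ n ∈ N, ∃ a ∈ A, w = n * a * n⁻¹}, ∀ g ∈ Q,
      e * g * e⁻¹ * g⁻¹ ∈ centralizer (X : Set G) := by
  have hcj : ∀ n ∈ N, ∀ c ∈ centralizer (X : Set G), n * c * n⁻¹ ∈ centralizer (X : Set G) := by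
    intro n hn c hc
    rw [mem_centralizer_iff]
    intro x hx
    have h1 : n⁻¹ * x * n ∈ X := (mem_normalizer_iff''.1 (NX hn) x).1 hx
    have h2 := mem_centralizer_iff.1 hc _ h1
    have h3 : x * (n * c * n⁻¹) = n * ((n⁻¹ * x * n) * c) * n⁻¹ := by group
    rw [h3, h2]; group
  have hEN : closure {w | ∃ n ∈ N, ∃ a ∈ A, w = n * a * n⁻¹} ≤ N := by
    rw [closure_le]
    rintro _ ⟨n, hn, a, ha, rfl⟩
    exact mul_mem (mul_mem hn (AN ha)) (inv_mem hn)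
  intro e he
  refine closure_induction (p := fun e _ => ∀ g ∈ Q, e * g * e⁻¹ * g⁻¹ ∈ centralizer (X : Set G))
    ?_ ?_ ?_ ?_ he
  · rintro _ ⟨n, hn, a, ha, rfl⟩ g hg
    have h1 : n⁻¹ * g * n ∈ Q := (mem_normalizer_iff''.1 (NQ hn) g).1 hg
    have h2 : n * a * n⁻¹ * g * (n * a * n⁻¹)⁻¹ * g⁻¹ =
        n * (a * (n⁻¹ * g * n) * a⁻¹ * (n⁻¹ * g * n)⁻¹) * n⁻¹ := by group
    rw [h2]
    exact hcj n hn _ (h a ha _ h1)
  · intro g _
    simp
  · intro y z hy _ h1 h2 g hg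
    have h3 : y * z * g * (y * z)⁻¹ * g⁻¹ = (y * (z * g * z⁻¹ * g⁻¹) * y⁻¹) * (y * g * y⁻¹ * g⁻¹) := by group
    rw [h3]
    exact mul_mem (hcj y (hEN hy) _ (h2 g hg)) (h1 g hg)
  · intro y hy h1 g hg
    have h3 : y⁻¹ * g * y⁻¹⁻¹ * g⁻¹ = y⁻¹ * (y * g * y⁻¹ * g⁻¹)⁻¹ * y⁻¹⁻¹ := by group
    rw [h3]
    exact hcj y⁻¹ (inv_mem (hEN hy)) _ (inv_mem (h1 g hg))

/-- **(2), (3)** `Q = C_S(V) ≤ C(X)` -/
theorem Q_cent (S : Sylow 2 G) {X V Z A Y : Subgroup G} (Xsq : ∀ x ∈ X, x * x = 1)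
    (Xab : ∀ x ∈ X, ∀ y ∈ X, x * y = y * x) (VX : V ≤ X) (SY : (S : Subgroup G) ≤ Y)
    (YX : Y ≤ normalizer (X : Set G)) (YV : Y ≤ normalizer (V : Set G))
    (irr : ∀ U ≤ V, Y ≤ normalizer (U : Set G) → U ≠ ⊥ → V ≤ U)
    (cS : X ⊓ centralizer ((S : Subgroup G) : Set G) ≤ V) (AS : A ≤ (S : Subgroup G))
    (ne : ¬ A ≤ centralizer (V : Set G)) (ZV : Z ≤ V) (AZ : ∀ a ∈ A, ∀ z ∈ Z, a * z = z * a)
    (hA : ∀ a ∈ A, ∀ x ∈ X, a * x * a⁻¹ * x⁻¹ ∈ Z)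
    (hW : ∀ W ≤ V, A ≤ normalizer (W : Set G) → ¬ A ≤ centralizer (W : Set G) → Nat.card Z < Nat.card W)
    (no : NoOverM X (S : Subgroup G)) :
    (S : Subgroup G) ⊓ centralizer (V : Set G) ≤ centralizer (X : Set G) := by
  set Q : Subgroup G := (S : Subgroup G) ⊓ centralizer (V : Set G) with hQ
  set N : Subgroup G := Y ⊓ normalizer (Q : Set G) with hN
  set E : Subgroup G := closure {w | ∃ n ∈ N, ∃ a ∈ A, w = n * a * n⁻¹} with hE
  have SQ : (S : Subgroup G) ≤ normalizer (Q : Set G) := by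
    intro s hs
    rw [mem_normalizer_iff_cj, hQ, cj_inf, cj_centralizer, mem_normalizer_iff_cj.1 (YV (SY hs)),
      cj_eq_of_mem_normalizer (Subgroup.le_normalizer hs)]
  have SN : (S : Subgroup G) ≤ N := le_inf SY SQ
  have AN : A ≤ N := AS.trans SN
  have EN : E ≤ N := by
    rw [hE, closure_le]
    rintro _ ⟨n, hn, a, ha, rfl⟩
    exact mul_mem (mul_mem hn (AN ha)) (inv_mem hn)
  have EcN : ∀ n ∈ N, ∀ e ∈ E, n * e * n⁻¹ ∈ E := by
    intro n hn e he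
    refine closure_induction (p := fun e _ => n * e * n⁻¹ ∈ E) ?_ (by simp) ?_ ?_ he
    · rintro _ ⟨m, hm, a, ha, rfl⟩
      exact subset_closure ⟨n * m, mul_mem hn hm, a, ha, by group⟩
    · intro y z _ _ h1 h2
      have : n * (y * z) * n⁻¹ = (n * y * n⁻¹) * (n * z * n⁻¹) := by group
      rw [this]; exact mul_mem h1 h2
    · intro y _ h1
      have : n * y⁻¹ * n⁻¹ = (n * y * n⁻¹)⁻¹ := by group
      rw [this]; exact inv_mem h1
  have EX : ∀ e ∈ E, ∀ x ∈ X, e * x * e⁻¹ * x⁻¹ ∈ V := by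
    intro e he
    refine closure_induction (p := fun e _ => ∀ x ∈ X, e * x * e⁻¹ * x⁻¹ ∈ V) ?_ ?_ ?_ ?_ he
    · rintro _ ⟨n, hn, a, ha, rfl⟩ x hx
      have h1 : n⁻¹ * x * n ∈ X := (mem_normalizer_iff''.1 (YX hn.1) x).1 hx
      have h2 : n * a * n⁻¹ * x * (n * a * n⁻¹)⁻¹ * x⁻¹ =
          n * (a * (n⁻¹ * x * n) * a⁻¹ * (n⁻¹ * x * n)⁻¹) * n⁻¹ := by group
      rw [h2]
      exact (mem_normalizer_iff.1 (YV hn.1) _).1 (ZV (hA a ha _ h1))
    · intro x _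
      simp
    · intro y z hy _ h1 h2 x hx
      have h3 : y * z * x * (y * z)⁻¹ * x⁻¹ = (y * (z * x * z⁻¹ * x⁻¹) * y⁻¹) * (y * x * y⁻¹ * x⁻¹) := by group
      rw [h3]
      exact mul_mem ((mem_normalizer_iff.1 (YV (EN hy).1) _).1 (h2 x hx)) (h1 x hx)
    · intro y hy h1 x hx
      have h3 : y⁻¹ * x * y⁻¹⁻¹ * x⁻¹ = y⁻¹ * (y * x * y⁻¹ * x⁻¹)⁻¹ * y⁻¹⁻¹ := by group
      rw [h3]
      exact (mem_normalizer_iff.1 (YV (inv_mem (EN hy).1)) _).1 (inv_mem (h1 x hx))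
  -- `C_V(E) = 1`
  have hfix : ∀ n ∈ N, ∀ v ∈ V ⊓ centralizer (E : Set G), n * v * n⁻¹ ∈ V ⊓ centralizer (E : Set G) := by
    intro n hn v hv
    refine ⟨(mem_normalizer_iff.1 (YV hn.1) v).1 hv.1, mem_centralizer_iff.2 fun e he => ?_⟩
    have h1 : n⁻¹ * e * n ∈ E := by
      have := EcN n⁻¹ (inv_mem hn) e he
      rwa [inv_inv] at this
    have h2 := mem_centralizer_iff.1 hv.2 _ h1
    have h3 : e * (n * v * n⁻¹) = n * ((n⁻¹ * e * n) * v) * n⁻¹ := by group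
    rw [h3, h2]; group
  have cVE : V ⊓ centralizer (E : Set G) = ⊥ := by
    by_contra hbot
    have hK : (S : Subgroup G) ≤ normalizer ((Y ⊓ centralizer (V : Set G) : Subgroup G) : Set G) := by
      intro s hs
      rw [mem_normalizer_iff_cj, cj_inf, cj_centralizer, mem_normalizer_iff_cj.1 (YV (SY hs)),
        cj_eq_of_mem_normalizer (Subgroup.le_normalizer (SY hs))]
    have hYn : Y ≤ normalizer ((V ⊓ centralizer (E : Set G) : Subgroup G) : Set G) := by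
      have hm : ∀ y ∈ Y, ∀ v ∈ V ⊓ centralizer (E : Set G), y * v * y⁻¹ ∈ V ⊓ centralizer (E : Set G) := by
        intro y hy v hv
        have hyK : y ∈ normalizer ((Y ⊓ centralizer (V : Set G) : Subgroup G) : Set G) := by
          rw [mem_normalizer_iff_cj, cj_inf, cj_centralizer, mem_normalizer_iff_cj.1 (YV hy),
            cj_eq_of_mem_normalizer (Subgroup.le_normalizer hy)]
        obtain ⟨c, hc, hn⟩ := EndFive.frattini hK hyK
        have hQ2 : (S : Subgroup G) ⊓ (Y ⊓ centralizer (V : Set G)) = Q := by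
          rw [hQ, ← inf_assoc, inf_eq_left.2 SY]
        rw [hQ2] at hn
        have hcY : c ∈ Y := (mem_inf.1 hc).1
        have hcV : c ∈ centralizer (V : Set G) := (mem_inf.1 hc).2
        have hnN : c⁻¹ * y ∈ N := mem_inf.2 ⟨mul_mem (inv_mem hcY) hy, hn⟩
        have h1 := hfix _ hnN v hv
        have h2 : y * v * y⁻¹ = c * (c⁻¹ * y * v * (c⁻¹ * y)⁻¹) * c⁻¹ := by group
        rw [h2, ← mem_centralizer_iff.1 hcV _ h1.1, mul_inv_cancel_right]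
        exact h1
      intro y hy
      rw [mem_normalizer_iff]
      intro v
      refine ⟨hm y hy v, fun hv => ?_⟩
      have h1 := hm y⁻¹ (inv_mem hy) _ hv
      have h2 : y⁻¹ * (y * v * y⁻¹) * y⁻¹⁻¹ = v := by group
      rwa [h2] at h1
    have h1 := irr _ inf_le_left hYn hbot
    apply ne
    have h2 : A ≤ E := fun a ha => subset_closure ⟨1, one_mem _, a, ha, by simp⟩
    intro a ha
    rw [mem_centralizer_iff]
    intro v hv
    exact (mem_centralizer_iff.1 (h1 hv).2 a (h2 ha)).symm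
  -- `big`
  have big : ∀ W ≤ V, E ≤ normalizer (W : Set G) → W ≠ ⊥ → Nat.card Z < Nat.card W := by
    intro W hWV hEW hne
    by_contra hlt
    apply hne
    rw [eq_bot_iff, ← cVE]
    refine le_inf hWV ?_
    rw [le_centralizer_iff]
    rw [hE, closure_le]
    rintro _ ⟨n, hn, a, ha, rfl⟩
    by_contra hcon
    apply hlt
    have h1 : Nat.card Z < Nat.card (cj n⁻¹ W) := by
      refine hW _ ?_ ?_ ?_
      · rw [cj_le_iff, inv_inv]
        rw [mem_normalizer_iff_cj.1 (YV hn.1)]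
        exact hWV
      · intro b hb
        have h2 : n * b * n⁻¹ ∈ normalizer (W : Set G) := hEW (subset_closure ⟨n, hn, b, hb, rfl⟩)
        rw [mem_normalizer_iff_cj] at h2 ⊢
        rw [cj_cj]
        have h3 : b * n⁻¹ = n⁻¹ * (n * b * n⁻¹) := by group
        rw [h3, ← cj_cj, h2]
      · intro h2
        apply hcon
        rw [SetLike.mem_coe, mem_centralizer_iff]
        intro w hw
        have h3 : n⁻¹ * w * n ∈ cj n⁻¹ W := ⟨w, hw, by simp⟩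
        have h4 := mem_centralizer_iff.1 (h2 ha) _ h3
        have h5 : w * (n * a * n⁻¹) = n * ((n⁻¹ * w * n) * a) * n⁻¹ := by group
        rw [h5, h4]; group
    rwa [card_cj] at h1
  have QX : Q ≤ normalizer (X : Set G) := inf_le_left.trans (SY.trans YX)
  have h1 := comm_cent Xsq Xab VX ZV (inf_le_right : Q ≤ centralizer (V : Set G)) QX
    (fun a ha => by
      rw [mem_normalizer_iff]
      intro z
      constructor
      · intro hz
        rw [AZ a ha z hz, mul_inv_cancel_right]; exact hz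
      · intro hz
        have h2 := AZ a ha _ hz
        have h3 : z = a * z * a⁻¹ := by
          have h4 : a⁻¹ * (a * (a * z * a⁻¹)) * a = a⁻¹ * ((a * z * a⁻¹) * a) * a := by rw [h2]
          have h5 : a⁻¹ * (a * (a * z * a⁻¹)) * a = a * z := by group
          have h6 : a⁻¹ * ((a * z * a⁻¹) * a) * a = z * a := by group
          rw [h5, h6] at h4
          rw [h4, mul_inv_cancel_right]
        rw [h3]; exact hz)
    (AN.trans inf_le_right) (EN.trans inf_le_right) (EN.trans (inf_le_left.trans YV)) EX hA big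
    (inf_le_left : Q ≤ (S : Subgroup G)) no
  have h2 := comm_of_gen (N := N) (inf_le_left.trans YX) inf_le_right AN h1
  -- `C_X(E) = 1`
  have cXE : X ⊓ centralizer (E : Set G) = ⊥ := by
    by_contra hbot
    have hX2 : IsPGroup 2 ↥(X ⊓ centralizer (E : Set G)) := by
      intro x
      refine ⟨1, ?_⟩
      apply Subtype.ext
      rw [pow_one, pow_two]
      exact Xsq _ x.2.1
    have hSn : (S : Subgroup G) ≤ normalizer ((X ⊓ centralizer (E : Set G) : Subgroup G) : Set G) := by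
      intro s hs
      have hEs : cj s E = E := by
        apply le_antisymm
        · rintro _ ⟨e, he, rfl⟩
          exact EcN s (SN hs) e he
        · intro e he
          refine ⟨s⁻¹ * e * s, ?_, by simp [mul_assoc]⟩
          have := EcN s⁻¹ (inv_mem (SN hs)) e he
          rwa [inv_inv] at this
      rw [mem_normalizer_iff_cj, cj_inf, cj_centralizer, hEs, mem_normalizer_iff_cj.1 (YX (SY hs))]
    have h3 := PLocal.OffenderStep.inf_centralizer_ne_bot _ (S : Subgroup G) hX2 S.isPGroup' hSn hbot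
    apply h3
    rw [eq_bot_iff, ← cVE]
    exact fun x hx => ⟨cS ⟨hx.1.1, hx.2⟩, hx.1.2⟩
  intro g hg
  rw [mem_centralizer_iff]
  intro x hx
  have hx' : x ∈ X := hx
  have hgX : g * x * g⁻¹ * x⁻¹ ∈ X := mul_mem ((mem_normalizer_iff.1 (QX hg) x).1 hx') (inv_mem hx')
  have h4 : g * x * g⁻¹ * x⁻¹ ∈ X ⊓ centralizer (E : Set G) := by
    refine ⟨hgX, mem_centralizer_iff.2 fun e he => ?_⟩
    have h5 := cent_of Xab VX (QX hg) hg.2 hx' (EX e he x hx') (h2 e he g hg)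
    rwa [mul_inv_eq_iff_eq_mul] at h5
  rw [cXE, mem_bot, mul_inv_eq_one, mul_inv_eq_iff_eq_mul] at h4
  exact h4.symm

end Cfsg.Agent.Omega.NOThreeL.RLev.VXmod
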