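import Cfsg.Agent.Omega.NOThreeL.RLev.ExistsHat

/-!
# Box R, level `(Q, V*)`: `C_Y(V)` acts on `X` with odd order on stabilisers (helper816, (4) of #27445)

* `mem_cent_of_chain` : `S ≤ Y ≤ N(X) ∩ N(V)`, `V ≤ X` of exponent 2, `C_S(V) ≤ C(X)`: `e ∈ Y ∩ C(V)` with `[X, e] ≤ V`
  centralises `X`.
-/

set_option autoImplicit false

namespace Cfsg.Agent.Omega.NOThreeL.RLev.VXodd

open Subgroup Cfsg
open Cfsg.Agent.ZN.ChoiceBase (cj mem_cj cj_mono)

universe u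

variable {G : Type u} [Group G]

/-- `e² ∈ C(X)` if `e ∈ C(V)`, `[X, e] ≤ V`, `V` of exponent 2. -/
theorem sq_mem {V X : Subgroup G} (Vsq : ∀ v ∈ V, v ^ 2 = 1) {e : G} (he : e ∈ centralizer (V : Set G))
    (h : ∀ x ∈ X, e * x * e⁻¹ * x⁻¹ ∈ V) : e ^ 2 ∈ centralizer (X : Set G) := by
  rw [mem_centralizer_iff]
  intro x hx
  set v := e * x * e⁻¹ * x⁻¹ with hv
  have h1 : v * e = e * v := mem_centralizer_iff.1 he v (h x hx)
  have h2 : v * v = 1 := by rw [← pow_two]; exact Vsq v (h x hx)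
  have h3 : e * x = v * x * e := by rw [hv]; group
  have h4 : e * (e * x) = x * (e * e) := by
    calc e * (e * x) = e * (v * x * e) := by rw [h3]
      _ = (e * v) * (x * e) := by group
      _ = (v * e) * (x * e) := by rw [h1]
      _ = v * (e * x) * e := by group
      _ = v * (v * x * e) * e := by rw [h3]
      _ = (v * v) * (x * (e * e)) := by group
      _ = x * (e * e) := by rw [h2, one_mul]
  rw [pow_two, mul_assoc, h4]

/-- **`C_Y(V)` acts with odd order.** -/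
theorem mem_cent_of_chain [Finite G] {S : Sylow 2 G} {Y V X : Subgroup G} (SY : (S : Subgroup G) ≤ Y)
    (YX : Y ≤ normalizer (X : Set G)) (YV : Y ≤ normalizer (V : Set G)) (Vsq : ∀ v ∈ V, v ^ 2 = 1)
    (hQ : (S : Subgroup G) ⊓ centralizer (V : Set G) ≤ centralizer (X : Set G)) {e : G}
    (he : e ∈ Y ⊓ centralizer (V : Set G)) (h : ∀ x ∈ X, e * x * e⁻¹ * x⁻¹ ∈ V) : e ∈ centralizer (X : Set G) := by
  have h2 := sq_mem Vsq he.2 h
  -- the 2-part
  obtain ⟨a, m, hm, hn⟩ := Nat.exists_eq_two_pow_mul_odd (orderOf_pos e).ne'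
  have hord : (e ^ m) ^ 2 ^ a = 1 := by
    rw [← pow_mul, mul_comm, ← hn, pow_orderOf_eq_one]
  have hpg : IsPGroup 2 (zpowers (e ^ m)) := by
    rintro ⟨x, hx⟩
    obtain ⟨k, rfl⟩ := mem_zpowers_iff.1 hx
    refine ⟨a, Subtype.ext ?_⟩
    simp only [SubmonoidClass.mk_pow, OneMemClass.coe_one]
    rw [← zpow_natCast, ← zpow_mul, mul_comm, zpow_mul, zpow_natCast, hord, one_zpow]
  have hem : e ^ m ∈ Y := pow_mem he.1 m
  obtain ⟨y, hy, hyS⟩ := Cfsg.Agent.Omega.FFThm.exists_conj_le S SY hpg (zpowers_le.2 hem)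
  have h3 : y * e ^ m * y⁻¹ ∈ (S : Subgroup G) := hyS ⟨e ^ m, mem_zpowers _, rfl⟩
  have norm_cent : ∀ {W : Subgroup G}, Y ≤ normalizer (W : Set G) → ∀ y ∈ Y, ∀ c ∈ centralizer (W : Set G),
      y * c * y⁻¹ ∈ centralizer (W : Set G) := by
    intro W hW y hy c hc
    rw [mem_centralizer_iff]
    intro w hw
    have h4 : y⁻¹ * w * y ∈ W := by
      have h5 := (mem_normalizer_iff.1 (hW (inv_mem hy)) w).1 hw
      rwa [inv_inv] at h5
    have h6 := mem_centralizer_iff.1 hc _ h4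
    calc w * (y * c * y⁻¹) = y * ((y⁻¹ * w * y) * c) * y⁻¹ := by group
      _ = y * (c * (y⁻¹ * w * y)) * y⁻¹ := by rw [h6]
      _ = y * c * y⁻¹ * w := by group
  have h4 : y * e ^ m * y⁻¹ ∈ centralizer (X : Set G) :=
    hQ ⟨h3, norm_cent YV y hy _ (pow_mem he.2 m)⟩
  have h5 : e ^ m ∈ centralizer (X : Set G) := by
    have h6 := norm_cent YX y⁻¹ (inv_mem hy) _ h4
    have e1 : y⁻¹ * (y * e ^ m * y⁻¹) * y⁻¹⁻¹ = e ^ m := by group
    rwa [e1] at h6
  obtain ⟨k, rfl⟩ := hm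
  have h6 : e ^ (2 * k) ∈ centralizer (X : Set G) := by
    rw [pow_mul]
    exact pow_mem h2 k
  have e2 : e = (e ^ (2 * k))⁻¹ * e ^ (2 * k + 1) := by rw [pow_succ]; group
  rw [e2]
  exact mul_mem (inv_mem h6) h5

end Cfsg.Agent.Omega.NOThreeL.RLev.VXodd
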