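import Cfsg.Agent.Omega.FFThmM

/-!
# #27445 (helper553), step (2), pure: `[A, Q] ≤ C(X)` (helper819)

`u_cent` : `u ∈ Q` with `[X, u] ≤ l`, `L` trivial on `X / V`, `⟨c ^ L⟩ = N` for `1 ≠ c ∈ l`, `|l| < |N|`, no over-offender
on `X` : `u` centralises `X` (otherwise `⟨u ^ L⟩` over-offends).
-/

set_option autoImplicit false
set_option linter.unusedSectionVars false

namespace Cfsg.Agent.Omega.NOThreeL.RLev.VXu

open Subgroup Cfsg
open Cfsg.Agent.Omega.FFThm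

universe u

variable {G : Type u} [Group G]

theorem comm_of {s x : G} (h : s * x * s⁻¹ * x⁻¹ = 1) : x * s = s * x := by
  calc x * s = (s * x * s⁻¹ * x⁻¹)⁻¹ * (s * x) := by group
    _ = s * x := by rw [h, inv_one, one_mul]

theorem u_cent [Finite G] {S X V Q N l L : Subgroup G} {u : G} (no : NoOverM X S) (QS : Q ≤ S)
    (Xc : X ≤ centralizer (X : Set G)) (VX : V ≤ X) (QV : Q ≤ centralizer (V : Set G)) (NV : N ≤ V)
    (sqN : ∀ v ∈ N, v ^ 2 = 1) (lN : l ≤ N) (hu : u ∈ Q) (ul : ∀ x ∈ X, u * x * u⁻¹ * x⁻¹ ∈ l)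
    (LX : ∀ m ∈ L, ∀ x ∈ X, m * x * m⁻¹ * x⁻¹ ∈ V) (LQ : L ≤ normalizer (Q : Set G))
    (LN : L ≤ normalizer (N : Set G))
    (gen : ∀ c ∈ l, c ≠ 1 → N ≤ closure {x | ∃ m ∈ L, x = m * c * m⁻¹}) (hcard : Nat.card l < Nat.card N) :
    u ∈ centralizer (X : Set G) := by
  by_contra hne
  have hex : ∃ x₀ ∈ X, u * x₀ * u⁻¹ * x₀⁻¹ ≠ 1 := by
    by_contra hcon
    push Not at hcon
    apply hne
    rw [mem_centralizer_iff]
    intro x hx
    have h1 := hcon x hx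
    calc x * u = (u * x * u⁻¹ * x⁻¹)⁻¹ * (u * x) := by group
      _ = u * x := by rw [h1]; group
  obtain ⟨x₀, hx₀, hc1⟩ := hex
  set c : G := u * x₀ * u⁻¹ * x₀⁻¹ with hc
  have hcl : c ∈ l := ul x₀ hx₀
  have lX : l ≤ X := lN.trans (NV.trans VX)
  have NX : N ≤ X := NV.trans VX
  have cX : ∀ x ∈ X, ∀ y ∈ X, x * y = y * x := fun x hx y hy => mem_centralizer_iff.1 (Xc hy) x hx
  -- the generators
  have hgen : ∀ m ∈ L, ∀ x ∈ X, (m * u * m⁻¹) * x * (m * u * m⁻¹)⁻¹ * x⁻¹ = m * (u * x * u⁻¹ * x⁻¹) * m⁻¹ := by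
    intro m hm x hx
    set v : G := m⁻¹ * x * m * x⁻¹ with hv
    have hvV : v ∈ V := by
      have := LX m⁻¹ (inv_mem hm) x hx
      rwa [inv_inv] at this
    have e1 : m⁻¹ * x * m = v * x := by rw [hv]; group
    have h1 : v * u = u * v := mem_centralizer_iff.1 (QV hu) v hvV
    have h2 : v * (u * x * u⁻¹ * x⁻¹) = (u * x * u⁻¹ * x⁻¹) * v := cX v (VX hvV) _ (lX (ul x hx))
    calc (m * u * m⁻¹) * x * (m * u * m⁻¹)⁻¹ * x⁻¹
        = m * (u * (m⁻¹ * x * m) * u⁻¹ * (m⁻¹ * x * m)⁻¹) * m⁻¹ := by group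
      _ = m * ((u * v) * x * u⁻¹ * x⁻¹ * v⁻¹) * m⁻¹ := by rw [e1]; group
      _ = m * (v * (u * x * u⁻¹ * x⁻¹) * v⁻¹) * m⁻¹ := by rw [← h1]; group
      _ = m * (u * x * u⁻¹ * x⁻¹) * m⁻¹ := by rw [h2, mul_inv_cancel_right]
  set U : Subgroup G := closure {w | ∃ m ∈ L, w = m * u * m⁻¹} with hU
  -- the elements of `U`
  have hP : ∀ b ∈ U, b ∈ Q ∧ (∀ x ∈ X, b * x * b⁻¹ * x⁻¹ ∈ N) ∧ ∀ x ∈ X, u * x = x * u → b * x = x * b := by
    intro b hb
    induction hb using closure_induction with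
    | mem b hb =>
      obtain ⟨m, hm, rfl⟩ := hb
      refine ⟨(mem_normalizer_iff.1 (LQ hm) u).1 hu, fun x hx => ?_, fun x hx hux => ?_⟩
      · rw [hgen m hm x hx]
        exact (mem_normalizer_iff.1 (LN hm) _).1 (lN (ul x hx))
      · have h1 := hgen m hm x hx
        rw [show u * x * u⁻¹ * x⁻¹ = 1 by rw [hux]; group, mul_one, mul_inv_cancel] at h1
        calc (m * u * m⁻¹) * x = ((m * u * m⁻¹) * x * (m * u * m⁻¹)⁻¹ * x⁻¹) * (x * (m * u * m⁻¹)) := by group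
          _ = x * (m * u * m⁻¹) := by rw [h1, one_mul]
    | one => exact ⟨one_mem _, fun x hx => by simp, fun x hx _ => by simp⟩
    | mul a b ha hb iha ihb =>
      refine ⟨mul_mem iha.1 ihb.1, fun x hx => ?_, fun x hx hux => ?_⟩
      · have h1 : a * (b * x * b⁻¹ * x⁻¹) * a⁻¹ = b * x * b⁻¹ * x⁻¹ := by
          have h2 := mem_centralizer_iff.1 (QV iha.1) _ (NV (ihb.2.1 x hx))
          rw [← h2, mul_inv_cancel_right]
        have e1 : a * b * x * (a * b)⁻¹ * x⁻¹ = (a * (b * x * b⁻¹ * x⁻¹) * a⁻¹) * (a * x * a⁻¹ * x⁻¹) := by group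
        rw [e1, h1]
        exact mul_mem (ihb.2.1 x hx) (iha.2.1 x hx)
      · rw [mul_assoc, ihb.2.2 x hx hux, ← mul_assoc, iha.2.2 x hx hux, mul_assoc]
    | inv b hb ih =>
      refine ⟨inv_mem ih.1, fun x hx => ?_, fun x hx hux => ?_⟩
      · have h1 : b⁻¹ * (b * x * b⁻¹ * x⁻¹)⁻¹ * b = (b * x * b⁻¹ * x⁻¹)⁻¹ := by
          have h2 := mem_centralizer_iff.1 (QV ih.1) _ (NV (inv_mem (ih.2.1 x hx)))
          calc b⁻¹ * (b * x * b⁻¹ * x⁻¹)⁻¹ * b = b⁻¹ * ((b * x * b⁻¹ * x⁻¹)⁻¹ * b) := by group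
            _ = b⁻¹ * (b * (b * x * b⁻¹ * x⁻¹)⁻¹) := by rw [h2]
            _ = (b * x * b⁻¹ * x⁻¹)⁻¹ := by group
        have e1 : b⁻¹ * x * b⁻¹⁻¹ * x⁻¹ = b⁻¹ * (b * x * b⁻¹ * x⁻¹)⁻¹ * b := by group
        rw [e1, h1]
        exact inv_mem (ih.2.1 x hx)
      · have h1 := ih.2.2 x hx hux
        calc b⁻¹ * x = b⁻¹ * (x * b) * b⁻¹ := by group
          _ = b⁻¹ * (b * x) * b⁻¹ := by rw [h1]
          _ = x * b⁻¹ := by group
  -- multiplicativity
  have hmul : ∀ a ∈ U, ∀ b ∈ U, ∀ x ∈ X, a * b * x * (a * b)⁻¹ * x⁻¹ = (a * x * a⁻¹ * x⁻¹) * (b * x * b⁻¹ * x⁻¹) := by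
    intro a ha b hb x hx
    have h1 : a * (b * x * b⁻¹ * x⁻¹) * a⁻¹ = b * x * b⁻¹ * x⁻¹ := by
      have h2 := mem_centralizer_iff.1 (QV (hP a ha).1) _ (NV ((hP b hb).2.1 x hx))
      rw [← h2, mul_inv_cancel_right]
    have e1 : a * b * x * (a * b)⁻¹ * x⁻¹ = (a * (b * x * b⁻¹ * x⁻¹) * a⁻¹) * (a * x * a⁻¹ * x⁻¹) := by group
    rw [e1, h1]
    exact cX _ (NX ((hP b hb).2.1 x hx)) _ (NX ((hP a ha).2.1 x hx))
  have hUX : ∀ a ∈ U, ∀ x ∈ X, a * x * a⁻¹ ∈ X := by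
    intro a ha x hx
    have e1 : a * x * a⁻¹ = (a * x * a⁻¹ * x⁻¹) * x := by group
    rw [e1]
    exact mul_mem (NX ((hP a ha).2.1 x hx)) hx
  have hEl : ElemM X U := by
    refine ⟨fun b hb => ?_, fun a ha b hb => ?_⟩
    · rw [mem_centralizer_iff]
      intro x hx
      have h1 := hmul b hb b hb x hx
      have h2 := sqN _ ((hP b hb).2.1 x hx)
      rw [pow_two] at h2 ⊢
      rw [h2] at h1
      exact comm_of h1
    · rw [mem_centralizer_iff]
      intro y hy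
      -- `y = (ba) x (ba)⁻¹`
      set x : G := (b * a)⁻¹ * y * (b * a) with hx
      have hxX : x ∈ X := by
        have := hUX (b * a)⁻¹ (inv_mem (mul_mem hb ha)) y hy
        rwa [inv_inv] at this
      have h1 := hmul a ha b hb x hxX
      have h2 := hmul b hb a ha x hxX
      rw [cX _ (NX ((hP b hb).2.1 x hxX)) _ (NX ((hP a ha).2.1 x hxX)), ← h1] at h2
      have h3 : b * a * x * (b * a)⁻¹ = a * b * x * (a * b)⁻¹ := mul_right_cancel h2
      have h4 : b * a * x * (b * a)⁻¹ = y := by rw [hx]; group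
      rw [h4] at h3
      calc y * (a * b * a⁻¹ * b⁻¹) = (a * b * x * (a * b)⁻¹) * (a * b * a⁻¹ * b⁻¹) := by rw [← h3]
        _ = (a * b * a⁻¹ * b⁻¹) * (b * a * x * (b * a)⁻¹) := by group
        _ = (a * b * a⁻¹ * b⁻¹) * y := by rw [h4]
  have hUQ : U ≤ Q := fun b hb => (hP b hb).1
  have h1 := no U (hUQ.trans QS) hEl
  -- `|X| ≤ |C_X(U)| |l|`
  have h2 : Nat.card X ≤ Nat.card ↥(X ⊓ centralizer (U : Set G)) * Nat.card l := by
    let f : X →* l := MonoidHom.mk' (fun x => ⟨u * x * u⁻¹ * (x : G)⁻¹, ul x x.2⟩) (by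
      intro x y
      apply Subtype.ext
      change u * ((x * y : X) : G) * u⁻¹ * ((x * y : X) : G)⁻¹ = (u * x * u⁻¹ * (x : G)⁻¹) * (u * y * u⁻¹ * (y : G)⁻¹)
      have h3 : (x : G) * (u * y * u⁻¹ * (y : G)⁻¹) = (u * y * u⁻¹ * (y : G)⁻¹) * x := cX x x.2 _ (lX (ul y y.2))
      calc u * ((x * y : X) : G) * u⁻¹ * ((x * y : X) : G)⁻¹
          = (u * x * u⁻¹ * (x : G)⁻¹) * (x * (u * y * u⁻¹ * (y : G)⁻¹)) * (x : G)⁻¹ := by rw [Subgroup.coe_mul]; group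
        _ = (u * x * u⁻¹ * (x : G)⁻¹) * (u * y * u⁻¹ * (y : G)⁻¹) := by rw [h3]; group)
    have h3 : Nat.card X = Nat.card f.ker * Nat.card f.range := by
      rw [← index_ker f, card_mul_index]
    have h4 : Nat.card f.ker ≤ Nat.card ↥(X ⊓ centralizer (U : Set G)) := by
      rw [← Subgroup.card_map_of_injective (K := f.ker) X.subtype_injective]
      refine Subgroup.card_le_of_le ?_
      rintro _ ⟨x, hx, rfl⟩
      refine mem_inf.2 ⟨x.2, mem_centralizer_iff.2 fun b hb => ?_⟩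
      refine (hP b hb).2.2 x x.2 ?_
      have h5 : u * (x : G) * u⁻¹ * (x : G)⁻¹ = 1 := congrArg Subtype.val (show f x = 1 from hx)
      calc u * (x : G) = (u * (x : G) * u⁻¹ * (x : G)⁻¹) * (x * u) := by group
        _ = x * u := by rw [h5, one_mul]
    have h5 : Nat.card f.range ≤ Nat.card l :=
      Nat.card_le_card_of_injective (Subtype.val : f.range → l) Subtype.val_injective
    rw [h3]
    exact Nat.mul_le_mul h4 h5
  -- `|U| ≥ |C_U(X)| |N|`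
  have h3 : Nat.card ↥(U ⊓ centralizer (X : Set G)) * Nat.card N ≤ Nat.card U := by
    let p : U →* N := MonoidHom.mk' (fun b => ⟨b * x₀ * (b : G)⁻¹ * x₀⁻¹, (hP b b.2).2.1 x₀ hx₀⟩) (by
      intro a b
      apply Subtype.ext
      exact hmul a a.2 b b.2 x₀ hx₀)
    have h4 : Nat.card U = Nat.card p.ker * Nat.card p.range := by
      rw [← index_ker p, card_mul_index]
    have h5 : Nat.card ↥(U ⊓ centralizer (X : Set G)) ≤ Nat.card p.ker := by
      rw [← Subgroup.card_map_of_injective (K := p.ker) U.subtype_injective]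
      refine Subgroup.card_le_of_le ?_
      rintro b ⟨hb, hbX⟩
      refine ⟨⟨b, hb⟩, ?_, rfl⟩
      change p ⟨b, hb⟩ = 1
      apply Subtype.ext
      change b * x₀ * b⁻¹ * x₀⁻¹ = 1
      rw [← mem_centralizer_iff.1 hbX x₀ hx₀]
      group
    have h6 : N ≤ p.range.map N.subtype := by
      refine (gen c hcl hc1).trans ?_
      rw [closure_le]
      rintro _ ⟨m, hm, rfl⟩
      refine ⟨p ⟨m * u * m⁻¹, subset_closure ⟨m, hm, rfl⟩⟩, ⟨_, rfl⟩, ?_⟩
      exact hgen m hm x₀ hx₀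
    have h7 : Nat.card N ≤ Nat.card p.range := by
      rw [← Subgroup.card_map_of_injective (K := p.range) N.subtype_injective]
      exact Subgroup.card_le_of_le h6
    rw [h4]
    exact Nat.mul_le_mul h5 h7
  -- the contradiction
  have p1 : 0 < Nat.card ↥(X ⊓ centralizer (U : Set G)) := Nat.card_pos
  have p2 : 0 < Nat.card ↥(U ⊓ centralizer (X : Set G)) := Nat.card_pos
  have h4 : Nat.card N ≤ Nat.card l := by
    apply Nat.le_of_mul_le_mul_left _ (Nat.mul_pos p2 p1)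
    calc Nat.card ↥(U ⊓ centralizer (X : Set G)) * Nat.card ↥(X ⊓ centralizer (U : Set G)) * Nat.card N
        = (Nat.card ↥(U ⊓ centralizer (X : Set G)) * Nat.card N) * Nat.card ↥(X ⊓ centralizer (U : Set G)) := by ring
      _ ≤ Nat.card U * Nat.card ↥(X ⊓ centralizer (U : Set G)) := Nat.mul_le_mul_right _ h3
      _ ≤ Nat.card X * Nat.card ↥(U ⊓ centralizer (X : Set G)) := h1
      _ ≤ (Nat.card ↥(X ⊓ centralizer (U : Set G)) * Nat.card l) * Nat.card ↥(U ⊓ centralizer (X : Set G)) :=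
        Nat.mul_le_mul_right _ h2
      _ = Nat.card ↥(U ⊓ centralizer (X : Set G)) * Nat.card ↥(X ⊓ centralizer (U : Set G)) * Nat.card l := by ring
  exact absurd hcard (not_lt.2 h4)

end Cfsg.Agent.Omega.NOThreeL.RLev.VXu
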